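import Cfsg.Agent.Lib.FourDeg.Chain
import Cfsg.Agent.Lib.CharDeep.GallagherExt
import Mathlib

/-!
# Big degrees when `G/F` is `p`-nilpotent with abelian Sylow `p`-subgroups

`exists_invariant_ext`: a `T`-invariant `θ` on a normal `p`-subgroup `N` has a `T`-invariant extension to
`L ⊲ T` when `|L : N|` is prime to `p` and `|T : L|` is a power of `p`: the extensions are a torsor under the linear
characters of `L/N` (Gallagher), so there are a number prime to `p` of them, and a Sylow `p`-subgroup of `T` fixes one.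
`deg_of_coprime_ab`: degrees over `ρ` of a normal `p'`-subgroup `L` with `Q/L` an abelian `p`-group.
-/

set_option autoImplicit false
set_option linter.unusedSectionVars false
set_option linter.unusedVariables false

namespace Cfsg.Agent.Lib.FourDeg.BigAb

open Cfsg Module
open Cfsg.Agent.Lib.Char.Basic Cfsg.Agent.Lib.Char.Ortho Cfsg.Agent.Lib.Char.Complete
open Cfsg.Agent.Lib.Char.Degree Cfsg.Agent.Lib.Char.Clifford Cfsg.Agent.Lib.Char.Induced
open Cfsg.Agent.Lib.Char.Conj Cfsg.Agent.Lib.Char.IndRep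
open Cfsg.Agent.Lib.Char.CliffordCorr Cfsg.Agent.Lib.Char.Linear
open Cfsg.Agent.Lib.CharDeep.GallagherExt
open Cfsg.Agent.Lib.OddChar.Inertia

universe u

variable {T : Type u} [Group T] [Fintype T]

theorem isIrr_inner_eq_one {χ ψ : T → ℂ} (hχ : IsIrrCharacter T χ) (hψ : IsIrrCharacter T ψ)
    (h : classInner χ ψ ≠ 0) : χ = ψ := by
  by_contra hne
  exact h (classInner_eq_zero_of_isIrr_of_ne hχ hψ hne)

/-- The invariant extension. -/
theorem exists_invariant_ext {p : ℕ} [hp : Fact p.Prime] {N L : Subgroup T} (hN : N.Normal) (hL : L.Normal)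
    (hNL : N ≤ L) [Fintype N] [Fintype L] (hNp : IsPGroup p N) (hLN : ¬ p ∣ (N.subgroupOf L).index)
    (hi : ∃ k, L.index = p ^ k) {θ : N → ℂ} (hθ : IsIrrCharacter N θ)
    (hinv : ∀ t : T, conjOn hN t θ = θ) :
    ∃ ξ : L → ℂ, IsIrrCharacter L ξ ∧ (∀ n : N, ξ ⟨n, hNL n.2⟩ = θ n) ∧ ∀ t : T, conjOn hL t ξ = ξ := by
  classical
  have hpp : p.Prime := hp.out
  let N' : Subgroup L := N.subgroupOf L
  have hN' : N'.Normal := hN.subgroupOf L
  let _ : Fintype N' := Fintype.ofFinite _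
  let eqv : N' ≃* N := Subgroup.subgroupOfEquivOfLe hNL
  have hθ' : IsIrrCharacter N' (θ ∘ eqv) := isIrrCharacter_comp_mulEquiv eqv hθ
  have hcop : Nat.Coprime (Nat.card N') N'.index := by
    have h1 : Nat.card N' = Nat.card N := Nat.card_congr eqv.toEquiv
    obtain ⟨k, hk⟩ := IsPGroup.iff_card.mp hNp
    rw [h1, hk]
    apply Nat.Coprime.pow_left
    rw [Nat.Prime.coprime_iff_not_dvd hpp]
    exact hLN
  have hinv' : ∀ c : L, conjOn hN' c (θ ∘ eqv) = θ ∘ eqv := by
    intro c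
    funext n
    have := congrFun (hinv (c : T)) (eqv n)
    exact this
  obtain ⟨ξ₀, hξ₀, hξ₀e⟩ := exists_ext_of_coprime hN' hθ' hinv' hcop
  have hξ₀c := isCharacter_of_isIrrCharacter hξ₀
  have hξ₀res : IsIrrCharacter N' (fun n : N' => ξ₀ n) := by
    have : (fun n : N' => ξ₀ n) = θ ∘ eqv := funext hξ₀e
    rw [this]
    exact hθ'
  have hξ₀N : ∀ n : N, ξ₀ ⟨n, hNL n.2⟩ = θ n := by
    intro n
    exact (hξ₀e (eqv.symm n)).trans (by simp)
  have := finite_irrCharacter (G := L)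
  let Ext := {ξ : IrrCharacter L // ∀ n : N, (ξ : L → ℂ) ⟨n, hNL n.2⟩ = θ n}
  have hfinExt : Finite Ext := Subtype.finite
  let Γ := L ⧸ N'
  let _ : Fintype Γ := Fintype.ofFinite _
  let π : L →* Γ := QuotientGroup.mk' N'
  have hπ : Function.Surjective π := QuotientGroup.mk'_surjective _
  -- the torsor
  have hcard : ¬ p ∣ Nat.card Ext := by
    let f : {φ : IrrCharacter Γ // (φ : Γ → ℂ) 1 = 1} → Ext := fun φ =>
      ⟨⟨ξ₀ * ((φ.1 : Γ → ℂ) ∘ π), isIrr_mul N' hξ₀c hξ₀res
        (Cfsg.Agent.Lib.Char.Linear.isIrrCharacter_comp π hπ φ.1.2) (leftInv_comp N' _)⟩, by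
        intro n
        have hn : π ⟨n, hNL n.2⟩ = 1 := by
          rw [QuotientGroup.mk'_apply, QuotientGroup.eq_one_iff]
          exact n.2
        change ξ₀ ⟨n, hNL n.2⟩ * (φ.1 : Γ → ℂ) (π ⟨n, hNL n.2⟩) = θ n
        rw [hn, φ.2, mul_one, hξ₀N]⟩
    have hf : Function.Bijective f := by
      constructor
      · intro φ φ' e
        have e1 : ξ₀ * ((φ.1 : Γ → ℂ) ∘ π) = ξ₀ * ((φ'.1 : Γ → ℂ) ∘ π) :=
          congrArg (fun z : Ext => ((z.1 : IrrCharacter L) : L → ℂ)) e
        have h1 := classInner_mul_mul N' hξ₀c hξ₀res (leftInv_comp N' (φ.1 : Γ → ℂ))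
          (leftInv_comp N' (φ'.1 : Γ → ℂ))
        rw [← e1] at h1
        have h2 : IsIrrCharacter L (ξ₀ * ((φ.1 : Γ → ℂ) ∘ π)) := isIrr_mul N' hξ₀c hξ₀res
          (Cfsg.Agent.Lib.Char.Linear.isIrrCharacter_comp π hπ φ.1.2) (leftInv_comp N' _)
        rw [classInner_self_of_isIrr h2] at h1
        have h3 := isIrr_inner_eq_one (Cfsg.Agent.Lib.Char.Linear.isIrrCharacter_comp π hπ φ.1.2)
          (Cfsg.Agent.Lib.Char.Linear.isIrrCharacter_comp π hπ φ'.1.2) (by
            change classInner ((φ.1 : Γ → ℂ) ∘ QuotientGroup.mk' N') ((φ'.1 : Γ → ℂ) ∘ QuotientGroup.mk' N') ≠ 0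
            rw [← h1]
            exact one_ne_zero)
        apply Subtype.ext
        apply Subtype.ext
        funext q
        obtain ⟨x, rfl⟩ := hπ q
        exact congrFun h3 x
      · rintro ⟨ξ, hξ⟩
        have hne : classInner (fun n : N' => (ξ : L → ℂ) n) (fun n : N' => ξ₀ n) ≠ 0 := by
          have h1 : (fun n : N' => (ξ : L → ℂ) n) = fun n : N' => ξ₀ n := by
            funext n
            rw [hξ₀e n]
            exact hξ (eqv n)
          rw [h1, classInner_self_of_isIrr hξ₀res]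
          exact one_ne_zero
        obtain ⟨φ, hφ, hξφ⟩ := exists_eq_mul_of_classInner_ne_zero N' hξ₀c hξ₀res ξ.2 hne
        have h11 : (φ : Γ → ℂ) 1 = 1 := by
          have h2 := congrFun hξφ 1
          have h3 : (ξ : L → ℂ) 1 = θ 1 := hξ 1
          have h4 : ξ₀ 1 = θ 1 := hξ₀N 1
          simp only [Pi.mul_apply, Function.comp, map_one] at h2
          rw [h3, h4] at h2
          have h5 : θ 1 ≠ 0 := irr_one_ne_zero hθ
          have h6 : θ 1 * φ 1 = θ 1 * 1 := by rw [mul_one]; exact h2.symm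
          exact mul_left_cancel₀ h5 h6
        refine ⟨⟨⟨φ, hφ⟩, h11⟩, ?_⟩
        apply Subtype.ext
        apply Subtype.ext
        exact hξφ.symm
    rw [← Nat.card_eq_of_bijective f hf, card_linear_eq_index]
    intro hdvd
    apply hLN
    exact hdvd.trans (Subgroup.index_dvd_card _)
  -- the action of a Sylow subgroup
  obtain ⟨P⟩ : Nonempty (Sylow p T) := inferInstance
  have hact : ∀ (t : T) (ξ : Ext) (n : N),
      conjOn hL t⁻¹ (ξ.1 : L → ℂ) ⟨n, hNL n.2⟩ = θ n := by
    intro t ξ n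
    have h1 := congrFun (hinv t⁻¹) n
    rw [conjOn_apply] at h1
    rw [conjOn_apply, ← h1]
    exact ξ.2 ⟨t⁻¹ * n * t⁻¹⁻¹, hN.conj_mem n n.2 t⁻¹⟩
  let act : MulAction P Ext :=
    { smul := fun t ξ => ⟨⟨conjOn hL ((t : T))⁻¹ (ξ.1 : L → ℂ), isIrrCharacter_conjOn hL _ ξ.1.2⟩,
        hact _ ξ⟩
      one_smul := fun ξ => by
        apply Subtype.ext
        apply Subtype.ext
        change conjOn hL ((1 : P) : T)⁻¹ (ξ.1 : L → ℂ) = _
        simp only [OneMemClass.coe_one, inv_one]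
        exact conjOn_one hL _
      mul_smul := fun s t ξ => by
        apply Subtype.ext
        apply Subtype.ext
        change conjOn hL ((s * t : P) : T)⁻¹ (ξ.1 : L → ℂ) =
          conjOn hL ((s : T))⁻¹ (conjOn hL ((t : T))⁻¹ (ξ.1 : L → ℂ))
        rw [← conjOn_mul]
        simp only [MulMemClass.coe_mul, mul_inv_rev] }
  have hmod := IsPGroup.card_modEq_card_fixedPoints (p := p) (α := Ext) (G := P) P.isPGroup'
  have hfix : ∃ ξ : Ext, ξ ∈ MulAction.fixedPoints P Ext := by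
    by_contra hno
    push Not at hno
    have h0 : IsEmpty (MulAction.fixedPoints P Ext) := ⟨fun x => hno x.1 x.2⟩
    rw [@Nat.card_of_isEmpty (MulAction.fixedPoints P Ext) h0] at hmod
    exact hcard ((Nat.modEq_zero_iff_dvd).1 hmod)
  obtain ⟨ξ, hξfix⟩ := hfix
  refine ⟨(ξ.1 : L → ℂ), ξ.1.2, ξ.2, ?_⟩
  -- the inertia group is everything
  have hPin : (P : Subgroup T) ≤ inertia hL (ξ.1 : L → ℂ) := by
    intro t ht
    have h1 := hξfix ⟨t⁻¹, P.toSubgroup.inv_mem ht⟩
    have h2 : conjOn hL ((⟨t⁻¹, P.toSubgroup.inv_mem ht⟩ : P) : T)⁻¹ (ξ.1 : L → ℂ) = (ξ.1 : L → ℂ) :=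
      congrArg (fun z : Ext => ((z.1 : IrrCharacter L) : L → ℂ)) h1
    simpa using h2
  have hLin : L ≤ inertia hL (ξ.1 : L → ℂ) := le_inertia hL (isClassFunction_of_isIrrCharacter ξ.1.2)
  have hd1 := Subgroup.index_dvd_of_le hPin
  have hd2 := Subgroup.index_dvd_of_le hLin
  have htop : inertia hL (ξ.1 : L → ℂ) = ⊤ := by
    rw [← Subgroup.index_eq_one]
    obtain ⟨k, hk⟩ := hi
    rw [hk] at hd2
    obtain ⟨j, -, hj⟩ := (Nat.dvd_prime_pow hpp).1 hd2
    rcases Nat.eq_zero_or_pos j with rfl | hjpos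
    · simpa using hj
    · exfalso
      apply P.not_dvd_index
      rw [hj] at hd1
      exact (dvd_pow_self p hjpos.ne').trans hd1
  intro t
  have : t ∈ inertia hL (ξ.1 : L → ℂ) := by rw [htop]; exact Subgroup.mem_top t
  exact this

/-- The degree formula over `ρ`. -/
theorem deg_of_coprime_ab {Q : Type u} [Group Q] [Fintype Q] {p : ℕ} [hp : Fact p.Prime] {L : Subgroup Q}
    (hL : L.Normal) [Fintype L] (hLp : ¬ p ∣ Nat.card L) (hi : ∃ k, L.index = p ^ k)
    (hcomm : ∀ x y : Q, x * y * x⁻¹ * y⁻¹ ∈ L) {ψ : Q → ℂ} (hψ : IsIrrCharacter Q ψ) {ρ : L → ℂ}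
    (hρ : IsIrrCharacter L ρ) (hcon : classInner (fun n : L => ψ n) ρ ≠ 0) :
    ψ 1 = ((inertia hL ρ).index : ℂ) * ρ 1 := by
  classical
  have hpp : p.Prime := hp.out
  let I : Subgroup Q := inertia hL ρ
  have hLI : L ≤ I := le_inertia hL (isClassFunction_of_isIrrCharacter hρ)
  let _ : Fintype I := Fintype.ofFinite _
  obtain ⟨ψ₁, hψ₁, hψ₁i, hψ₁e⟩ := exists_irr_inertia_of_lies_over hL hLI hρ rfl hψ hcon
  let L' : Subgroup I := L.subgroupOf I
  have hL' : L'.Normal := hL.subgroupOf I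
  let _ : Fintype L' := Fintype.ofFinite _
  let eqv : L' ≃* L := Subgroup.subgroupOfEquivOfLe hLI
  have hρ' : IsIrrCharacter L' (ρ ∘ eqv) := isIrrCharacter_comp_mulEquiv eqv hρ
  have hinv' : ∀ c : I, conjOn hL' c (ρ ∘ eqv) = ρ ∘ eqv :=
    fun c => Cfsg.Agent.Lib.CharDeg.ThreeDeg.Cases.inv_of_inertia hL hLI rfl c
  have hcop : Nat.Coprime (Nat.card L') L'.index := by
    have h1 : Nat.card L' = Nat.card L := Nat.card_congr eqv.toEquiv
    have h2 : L'.index ∣ L.index := Subgroup.relIndex_dvd_index_of_normal L I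
    obtain ⟨k, hk⟩ := hi
    rw [hk] at h2
    obtain ⟨j, -, hj⟩ := (Nat.dvd_prime_pow hpp).1 h2
    rw [h1, hj]
    apply Nat.Coprime.pow_right
    rw [Nat.coprime_comm, Nat.Prime.coprime_iff_not_dvd hpp]
    exact hLp
  obtain ⟨ρh, hρh, hρhe⟩ := exists_ext_of_coprime hL' hρ' hinv' hcop
  have hres₁ : (fun n : L' => ψ₁ n) = (res hLI ψ₁) ∘ eqv := rfl
  have hcon₁ : classInner (fun n : L' => ψ₁ n) (ρ ∘ eqv) = classInner (fun n : L => ψ n) ρ := by
    rw [hres₁, classInner_comp_mulEquiv, hψ₁e]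
  have hρhres : (fun n : L' => ρh n) = ρ ∘ eqv := funext hρhe
  have hone : classInner (fun n : L' => ρh n) (ρ ∘ eqv) = 1 := by
    rw [hρhres]
    exact classInner_self_of_isIrr hρ'
  have hm := mult_eq_of_abelian_quotient hL' hρ' hinv'
    (fun x y => by
      have := hcomm (x : Q) (y : Q)
      exact this)
    hψ₁ hρh (by rw [hcon₁]; exact hcon) (by rw [hone]; exact one_ne_zero)
  have h1 : classInner (fun n : L => ψ n) ρ = 1 := by
    rw [← hcon₁, hm, hone]
  have h2 := deg_eq_of_constituent hL hψ hρ hcon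
  rw [h1, one_mul] at h2
  exact h2

theorem exists_over_aux {X : Type u} [Group X] [Fintype X] {L : Subgroup X} [Fintype L] {ξ : L → ℂ}
    (hξ : IsIrrCharacter L ξ) :
    ∃ χ : X → ℂ, IsIrrCharacter X χ ∧ classInner (fun n : L => χ n) ξ ≠ 0 := by
  have hne : indFun L ξ ≠ 0 := by
    intro h
    have h1 := congrFun h 1
    rw [indFun_one] at h1
    have h2 : ξ 1 ≠ 0 := irr_one_ne_zero hξ
    have h3 : (L.index : ℂ) ≠ 0 := by
      exact_mod_cast Subgroup.index_ne_zero_of_finite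
    exact (mul_ne_zero h3 h2) h1
  obtain ⟨χ, hχ, hc⟩ := exists_irr_constituent (isClassFunction_indFun L ξ) hne
  refine ⟨χ, hχ, ?_⟩
  rw [classInner_indFun_left L ξ χ (isClassFunction_of_isIrrCharacter hχ)] at hc
  exact classInner_ne_zero_comm hc

/-- Lemma A: the level of the inertia group. -/
theorem exists_big_over {T Q : Type u} [Group T] [Fintype T] [Group Q] [Fintype Q] {p : ℕ} [hp : Fact p.Prime]
    (π : T →* Q) (hπ : Function.Surjective π) {N : Subgroup T} (hN : N.Normal) [Fintype N] (hker : π.ker = N)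
    (hNp : IsPGroup p N) {θ : N → ℂ} (hθ : IsIrrCharacter N θ) (hinv : ∀ t : T, conjOn hN t θ = θ)
    {Lb : Subgroup Q} (hLb : Lb.Normal) [Fintype Lb] (hLbp : ¬ p ∣ Nat.card Lb) (hi : ∃ k, Lb.index = p ^ k)
    (hcomm : ∀ x y : Q, x * y * x⁻¹ * y⁻¹ ∈ Lb) {ψ : Q → ℂ} (hψ : IsIrrCharacter Q ψ) :
    ∃ β : T → ℂ, IsIrrCharacter T β ∧ classInner (fun n : N => β n) θ ≠ 0 ∧
      charDegree ψ * charDegree θ ≤ charDegree β := by
  classical
  let L : Subgroup T := Lb.comap π
  have hL : L.Normal := hLb.comap π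
  have hNL : N ≤ L := by
    intro n hn
    rw [← hker] at hn
    change π n ∈ Lb
    rw [MonoidHom.mem_ker.1 hn]
    exact Lb.one_mem
  let _ : Fintype L := Fintype.ofFinite _
  let ι : L →* Lb := π.subgroupComap Lb
  have hι : Function.Surjective ι := π.subgroupComap_surjective_of_surjective Lb hπ
  let N' : Subgroup L := N.subgroupOf L
  have hN' : N'.Normal := hN.subgroupOf L
  let _ : Fintype N' := Fintype.ofFinite _
  have hN'ker : ι.ker = N' := by
    ext x
    rw [MonoidHom.mem_ker, Subgroup.mem_subgroupOf, ← hker, MonoidHom.mem_ker]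
    constructor
    · intro h
      exact congrArg Subtype.val h
    · intro h
      exact Subtype.ext h
  have hLN : ¬ p ∣ N'.index := by
    rw [← hN'ker, Subgroup.index_ker, MonoidHom.range_eq_top.2 hι, Subgroup.card_top]
    exact hLbp
  have hLi : ∃ k, L.index = p ^ k := by
    obtain ⟨k, hk⟩ := hi
    exact ⟨k, by rw [Subgroup.index_comap_of_surjective _ hπ, hk]⟩
  obtain ⟨θh, hθh, hθhe, hθhinv⟩ := exists_invariant_ext hN hL hNL hNp hLN hLi hθ hinv
  have hθhc := isCharacter_of_isIrrCharacter hθh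
  let eqv : N' ≃* N := Subgroup.subgroupOfEquivOfLe hNL
  have hθhres : IsIrrCharacter N' (fun n : N' => θh n) := by
    have : (fun n : N' => θh n) = θ ∘ eqv := by
      funext n
      exact hθhe (eqv n)
    rw [this]
    exact isIrrCharacter_comp_mulEquiv eqv hθ
  -- a constituent of `ψ` on `Lb`
  have hψc := isCharacter_of_isIrrCharacter hψ
  obtain ⟨ρb, hρb, hρcon⟩ : ∃ ρb : Lb → ℂ, IsIrrCharacter Lb ρb ∧ classInner (fun n : Lb => ψ n) ρb ≠ 0 := by
    apply exists_irr_constituent (isClassFunction_of_isCharacter (isCharacter_restrict Lb hψc))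
    intro h
    have h1 := congrFun h 1
    exact irr_one_ne_zero hψ h1
  have hdeg := deg_of_coprime_ab hLb hLbp hi hcomm hψ hρb hρcon
  let ρ' : L → ℂ := ρb ∘ ι
  have hρ' : IsIrrCharacter L ρ' := Cfsg.Agent.Lib.Char.Linear.isIrrCharacter_comp ι hι hρb
  have hιN : ∀ n : N', ι n = 1 := by
    intro n
    have : (n : L) ∈ ι.ker := by rw [hN'ker]; exact n.2
    exact this
  have hleft : ∀ f : Lb → ℂ, LeftInv N' (f ∘ ι) := by
    intro f n g
    simp only [Function.comp, map_mul, hιN, one_mul]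
  let ξ : L → ℂ := θh * ρ'
  have hξ : IsIrrCharacter L ξ := isIrr_mul N' hθhc hθhres hρ' (hleft ρb)
  obtain ⟨β, hβ, hβcon⟩ := exists_over_aux (X := T) hξ
  have hβc := isCharacter_of_isIrrCharacter hβ
  have hdβ := deg_eq_of_constituent hL hβ hξ hβcon
  obtain ⟨m, hm⟩ := exists_nat_classInner (isCharacter_restrict L hβc) (isCharacter_of_isIrrCharacter hξ)
  have hm0 : m ≠ 0 := by
    rintro rfl
    exact hβcon (by rw [hm]; simp)
  -- over `θ`
  have hover : classInner (fun n : N => β n) θ ≠ 0 := by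
    let f : N →* L := Subgroup.inclusion hNL
    have h1 : ξ ∘ f = (ρb 1) • θ := by
      funext n
      have h2 : ι (f n) = 1 := hιN (eqv.symm n)
      change θh (f n) * ρb (ι (f n)) = _
      rw [h2]
      simp only [Pi.smul_apply, smul_eq_mul]
      rw [mul_comm]
      congr 1
      exact hθhe n
    have h3 := classInner_ne_zero_mono f (isCharacter_restrict L hβc) hξ hβcon
      (isCharacter_of_isIrrCharacter hθ) (by
        rw [h1, classInner_smul_left, classInner_self_of_isIrr hθ, mul_one]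
        exact irr_one_ne_zero hρb)
    exact h3
  refine ⟨β, hβ, hover, ?_⟩
  -- the inertia groups
  have hine : inertia hL ξ ≤ (inertia hLb ρb).comap π := by
    intro t ht
    have ht' : conjOn hL t ξ = ξ := ht
    have h1 : conjOn hL t ξ = θh * ((conjOn hLb (π t) ρb) ∘ ι) := by
      have h2 : conjOn hL t ξ = conjOn hL t θh * conjOn hL t ρ' := by
        funext n
        rfl
      rw [h2, hθhinv t]
      congr 1
      funext n
      simp only [conjOn_apply, Function.comp, ρ']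
      congr 1
      apply Subtype.ext
      change π ((t * (n : L) * t⁻¹ : T)) = π t * π ((n : L) : T) * (π t)⁻¹
      simp only [map_mul, map_inv]
    have h3 := classInner_mul_mul N' hθhc hθhres (hleft (conjOn hLb (π t) ρb)) (hleft ρb)
    have h4 : θh * ((conjOn hLb (π t) ρb) ∘ ι) = ξ := by rw [← h1, ht']
    rw [h4] at h3
    have h5 : classInner ξ ξ = 1 := classInner_self_of_isIrr hξ
    have h6 : ξ = θh * (ρb ∘ ι) := rfl
    rw [← h6, h5] at h3
    have h7 : IsIrrCharacter L ((conjOn hLb (π t) ρb) ∘ ι) :=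
      Cfsg.Agent.Lib.Char.Linear.isIrrCharacter_comp ι hι (isIrrCharacter_conjOn hLb _ hρb)
    have h8 := isIrr_inner_eq_one h7 hρ' (by rw [← h3]; exact one_ne_zero)
    change conjOn hLb (π t) ρb = ρb
    funext q
    obtain ⟨x, rfl⟩ := hι q
    exact congrFun h8 x
  have hidx : (inertia hLb ρb).index ≤ (inertia hL ξ).index := by
    apply Nat.le_of_dvd (Nat.pos_of_ne_zero Subgroup.index_ne_zero_of_finite)
    have h1 := Subgroup.index_dvd_of_le hine
    rwa [Subgroup.index_comap_of_surjective _ hπ] at h1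
  -- numerics
  have hρbc := isCharacter_of_isIrrCharacter hρb
  have hθc := isCharacter_of_isIrrCharacter hθ
  have e1 : (charDegree ψ : ℂ) = (((inertia hLb ρb).index * charDegree ρb : ℕ) : ℂ) := by
    rw [charDegree_natCast hψc, hdeg]
    push_cast
    rw [charDegree_natCast hρbc]
  have e2 : (charDegree β : ℂ) = ((m * (inertia hL ξ).index * (charDegree θ * charDegree ρb) : ℕ) : ℂ) := by
    rw [charDegree_natCast hβc, hdβ, hm]
    push_cast
    rw [charDegree_natCast hθc, charDegree_natCast hρbc]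
    congr 1
    change θh 1 * ρb (ι 1) = _
    rw [map_one]
    congr 1
    exact hθhe 1
  have e1' : charDegree ψ = (inertia hLb ρb).index * charDegree ρb := by exact_mod_cast e1
  have e2' : charDegree β = m * (inertia hL ξ).index * (charDegree θ * charDegree ρb) := by exact_mod_cast e2
  rw [e1', e2']
  have hm1 : 1 ≤ m := Nat.pos_of_ne_zero hm0
  calc (inertia hLb ρb).index * charDegree ρb * charDegree θ
      = (inertia hLb ρb).index * (charDegree θ * charDegree ρb) := by ring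
    _ ≤ (inertia hL ξ).index * (charDegree θ * charDegree ρb) := Nat.mul_le_mul_right _ hidx
    _ ≤ m * (inertia hL ξ).index * (charDegree θ * charDegree ρb) := by
        apply Nat.mul_le_mul_right
        nlinarith [Nat.zero_le (inertia hL ξ).index]

/-- `H/M` is abelian. -/
theorem comm_mem_of_ab {H : Type u} [Group H] [Finite H] {p : ℕ} [hp : Fact p.Prime] (M : Subgroup H) (hMn : M.Normal)
    (hMi : ∃ k, M.index = p ^ k) (hab : ∀ P : Subgroup H, IsPGroup p P → ∀ a ∈ P, ∀ b ∈ P, a * b = b * a)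
    (x y : H) : x * y * x⁻¹ * y⁻¹ ∈ M := by
  classical
  have hpp : p.Prime := hp.out
  obtain ⟨P⟩ : Nonempty (Sylow p H) := inferInstance
  have hsup : M ⊔ (P : Subgroup H) = ⊤ := by
    rw [← Subgroup.index_eq_one]
    have hd1 := Subgroup.index_dvd_of_le (le_sup_left : M ≤ M ⊔ (P : Subgroup H))
    have hd2 := Subgroup.index_dvd_of_le (le_sup_right : (P : Subgroup H) ≤ M ⊔ (P : Subgroup H))
    obtain ⟨k, hk⟩ := hMi
    rw [hk] at hd1
    obtain ⟨j, -, hj⟩ := (Nat.dvd_prime_pow hpp).1 hd1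
    rcases Nat.eq_zero_or_pos j with rfl | hjpos
    · simpa using hj
    · exfalso
      apply P.not_dvd_index
      rw [hj] at hd2
      exact (dvd_pow_self p hjpos.ne').trans hd2
  have hdec : ∀ z : H, ∃ m ∈ M, ∃ s ∈ (P : Subgroup H), z = m * s := by
    intro z
    have hz : z ∈ ((M ⊔ (P : Subgroup H) : Subgroup H) : Set H) := by
      rw [hsup]
      exact Subgroup.mem_top z
    rw [Subgroup.normal_mul] at hz
    obtain ⟨m, hm, s, hs, e⟩ := Set.mem_mul.1 hz
    exact ⟨m, hm, s, hs, e.symm⟩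
  obtain ⟨m, hm, s, hs, rfl⟩ := hdec x
  obtain ⟨m', hm', s', hs', rfl⟩ := hdec y
  have hcs := hab _ P.isPGroup' s hs s' hs'
  rw [← QuotientGroup.eq_one_iff]
  have hq1 : ((m : H) : H ⧸ M) = 1 := (QuotientGroup.eq_one_iff _).2 hm
  have hq2 : ((m' : H) : H ⧸ M) = 1 := (QuotientGroup.eq_one_iff _).2 hm'
  have hq3 : ((s : H) : H ⧸ M) * ((s' : H) : H ⧸ M) = ((s' : H) : H ⧸ M) * ((s : H) : H ⧸ M) := by
    rw [← QuotientGroup.mk_mul, ← QuotientGroup.mk_mul, hcs]
  simp only [QuotientGroup.mk_mul, QuotientGroup.mk_inv, hq1, hq2, one_mul, mul_inv_rev, inv_one, mul_one]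
  rw [hq3]
  group

/-- **big_abelian**. -/
theorem big_abelian_aux {G : Type u} [Group G] [Fintype G] {p : ℕ} [hp : Fact p.Prime] (F : Subgroup G) [hF : F.Normal]
    [Fintype F] (hFp : IsPGroup p F)
    (M : Subgroup (G ⧸ F)) (hMn : M.Normal) (hMp : ¬ p ∣ Nat.card M) (hMi : ∃ k, M.index = p ^ k)
    (hab : ∀ P : Subgroup (G ⧸ F), IsPGroup p P → ∀ a ∈ P, ∀ b ∈ P, a * b = b * a)
    {χ₀ : G ⧸ F → ℂ} (hχ₀ : IsIrrCharacter (G ⧸ F) χ₀)
    {θ : F → ℂ} (hθ : IsIrrCharacter F θ) :
    ∃ χ : G → ℂ, IsIrrCharacter G χ ∧ classInner (fun n : F => χ n) θ ≠ 0 ∧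
      charDegree χ₀ * charDegree θ ≤ charDegree χ := by
  classical
  have hpp : p.Prime := hp.out
  let _ : Fintype (G ⧸ F) := Fintype.ofFinite _
  let T : Subgroup G := inertia hF θ
  have hFT : F ≤ T := le_inertia hF (isClassFunction_of_isIrrCharacter hθ)
  let _ : Fintype T := Fintype.ofFinite _
  let Tb : Subgroup (G ⧸ F) := T.map (QuotientGroup.mk' F)
  let _ : Fintype Tb := Fintype.ofFinite _
  let π : T →* Tb := (QuotientGroup.mk' F).subgroupMap T
  have hπ : Function.Surjective π := (QuotientGroup.mk' F).subgroupMap_surjective T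
  let N : Subgroup T := F.subgroupOf T
  have hN : N.Normal := hF.subgroupOf T
  let _ : Fintype N := Fintype.ofFinite _
  have hker : π.ker = N := by
    ext x
    rw [MonoidHom.mem_ker, Subgroup.mem_subgroupOf]
    constructor
    · intro h
      have h1 : ((x : G) : G ⧸ F) = 1 := congrArg Subtype.val h
      exact (QuotientGroup.eq_one_iff _).1 h1
    · intro h
      apply Subtype.ext
      exact (QuotientGroup.eq_one_iff _).2 h
  let eqv : N ≃* F := Subgroup.subgroupOfEquivOfLe hFT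
  have hNp : IsPGroup p N := hFp.of_equiv eqv.symm
  have hθ' : IsIrrCharacter N (θ ∘ eqv) := isIrrCharacter_comp_mulEquiv eqv hθ
  have hinv : ∀ t : T, conjOn hN t (θ ∘ eqv) = θ ∘ eqv :=
    fun c => Cfsg.Agent.Lib.CharDeg.ThreeDeg.Cases.inv_of_inertia hF hFT rfl c
  have hχ₀c := isCharacter_of_isIrrCharacter hχ₀
  obtain ⟨ψ₀, hψ₀, hcon⟩ : ∃ ψ₀ : Tb → ℂ, IsIrrCharacter Tb ψ₀ ∧ classInner (fun n : Tb => χ₀ n) ψ₀ ≠ 0 := by
    apply exists_irr_constituent (isClassFunction_of_isCharacter (isCharacter_restrict Tb hχ₀c))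
    intro h
    have h1 := congrFun h 1
    exact irr_one_ne_zero hχ₀ h1
  have hψ₀c := isCharacter_of_isIrrCharacter hψ₀
  -- `χ₀(1) ≤ |H : Tb| ψ₀(1)`
  have hbound : charDegree χ₀ ≤ Tb.index * charDegree ψ₀ := by
    have h1 : classInner (indFun Tb ψ₀) χ₀ ≠ 0 := by
      rw [classInner_indFun_left Tb ψ₀ χ₀ (isClassFunction_of_isCharacter hχ₀c)]
      exact classInner_ne_zero_comm hcon
    exact deg_le_of_constituent (isCharacter_indFun Tb hψ₀c) hχ₀ h1
      (a := Tb.index * charDegree ψ₀) (b := charDegree χ₀)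
      (by
        rw [indFun_one]
        push_cast
        rw [charDegree_natCast hψ₀c])
      (charDegree_natCast hχ₀c).symm
  let Lb : Subgroup Tb := M.subgroupOf Tb
  have hLb : Lb.Normal := hMn.subgroupOf Tb
  let _ : Fintype Lb := Fintype.ofFinite _
  have hLbp : ¬ p ∣ Nat.card Lb := by
    intro h
    apply hMp
    refine h.trans ?_
    let f : Lb →* M :=
      { toFun := fun x => ⟨((x : Tb) : G ⧸ F), x.2⟩
        map_one' := rfl
        map_mul' := fun _ _ => rfl }
    apply Subgroup.card_dvd_of_injective f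
    intro x y e
    apply Subtype.ext
    apply Subtype.ext
    exact congrArg (fun z : M => (z : G ⧸ F)) e
  have hLbi : ∃ k, Lb.index = p ^ k := by
    have h2 : Lb.index ∣ M.index := Subgroup.relIndex_dvd_index_of_normal M Tb
    obtain ⟨k, hk⟩ := hMi
    rw [hk] at h2
    obtain ⟨j, -, hj⟩ := (Nat.dvd_prime_pow hpp).1 h2
    exact ⟨j, hj⟩
  have hcomm : ∀ x y : Tb, x * y * x⁻¹ * y⁻¹ ∈ Lb := by
    intro x y
    exact comm_mem_of_ab (p := p) M hMn hMi hab (x : G ⧸ F) (y : G ⧸ F)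
  obtain ⟨β, hβ, hβcon, hβdeg⟩ := exists_big_over π hπ hN hker hNp hθ' hinv hLb hLbp hLbi hcomm hψ₀
  have hβc := isCharacter_of_isIrrCharacter hβ
  have hcon2 : classInner (res hFT β) θ ≠ 0 := by
    have h1 : (fun n : N => β n) = (res hFT β) ∘ eqv := rfl
    rw [h1, classInner_comp_mulEquiv] at hβcon
    exact hβcon
  obtain ⟨h1, h2⟩ := isIrrCharacter_indFun_of_lies_over hF hFT hθ rfl hβ hcon2
  refine ⟨indFun T β, h1, by rw [h2]; exact hcon2, ?_⟩
  have hdχ : charDegree (indFun T β) = T.index * charDegree β := by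
    apply charDegree_eq_of_eq_natCast
    rw [indFun_one]
    push_cast
    rw [charDegree_natCast hβc]
  have hdθ : charDegree (θ ∘ eqv) = charDegree θ := by
    apply charDegree_eq_of_eq_natCast
    rw [charDegree_natCast (isCharacter_of_isIrrCharacter hθ)]
    simp
  rw [hdθ] at hβdeg
  rw [hdχ]
  have hi : Tb.index = T.index := Cfsg.Agent.Lib.CharDeg.ThreeDeg.Cases.index_map_mk hFT
  calc charDegree χ₀ * charDegree θ ≤ (Tb.index * charDegree ψ₀) * charDegree θ :=
        Nat.mul_le_mul_right _ hbound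
    _ = Tb.index * (charDegree ψ₀ * charDegree θ) := by ring
    _ ≤ T.index * charDegree β := by
        rw [hi]
        exact Nat.mul_le_mul_left _ hβdeg

end Cfsg.Agent.Lib.FourDeg.BigAb
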