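import Cfsg.Agent.Lib.FourDeg.Chain
import Cfsg.Agent.Lib.FourDeg.BigAb
import Cfsg.Agent.Lib.CharDeg.SmallDegree
import Cfsg.Agent.Lib.Char.DegDvd

import Mathlib

set_option autoImplicit false
set_option linter.unusedSectionVars false

namespace Cfsg.Agent.Lib.FourDeg.Big

open Cfsg Module
open Cfsg.Agent.Lib.Char.Basic Cfsg.Agent.Lib.Char.Ortho Cfsg.Agent.Lib.Char.Complete
open Cfsg.Agent.Lib.Char.Degree Cfsg.Agent.Lib.Char.Clifford Cfsg.Agent.Lib.Char.Induced
open Cfsg.Agent.Lib.Char.Linear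
open Cfsg.Agent.Lib.CharDeg.ThreeDeg.Perfect Cfsg.Agent.Lib.CharDeg.ThreeDeg.Uniform
open Cfsg.Agent.Lib.CharDeg.ThreeDeg.Lift Cfsg.Agent.Lib.CharDeg.ThreeDeg.Sec
open Cfsg.Agent.Lib.CharDeg.ThreeDeg.Cases Cfsg.Agent.Lib.CharDeg.ThreeDeg.Solv
open Cfsg.Agent.Lib.CharDeg.ThreeDeg.Derived
open Cfsg.Agent.Lib.Core.Basic
open Cfsg.Agent.Lib.Char.Conj Cfsg.Agent.Lib.Char.IndRep Cfsg.Agent.Lib.Char.CliffordCorr

universe u

variable {G : Type u} [Group G] [Fintype G]

/-- Gallagher and Clifford: `θ` extends to its inertia group. -/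
theorem big_of_ext {Q : Type u} [Group Q] [Fintype Q] (π : G →* Q) (hπ : Function.Surjective π)
    (F : Subgroup G) [hF : F.Normal] [Fintype F] (hker : π.ker = F)
    {χ₀ : Q → ℂ} (hχ₀ : IsIrrCharacter Q χ₀) {θ : F → ℂ} (hθ : IsIrrCharacter F θ)
    {T : Subgroup G} [Fintype T] (hFT : F ≤ T) (hT : T = inertia hF θ)
    {ψ : T → ℂ} (hψ : IsIrrCharacter T ψ) (hext : ∀ n : F, ψ ⟨n, hFT n.2⟩ = θ n) :
    ∃ χ : G → ℂ, IsIrrCharacter G χ ∧ classInner (fun n : F => χ n) θ ≠ 0 ∧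
      charDegree χ₀ * charDegree θ ≤ charDegree χ := by
  classical
  let B : Subgroup Q := T.map π
  letI : Fintype B := Fintype.ofFinite _
  have hres := isCharacter_restrict B (isCharacter_of_isIrrCharacter hχ₀)
  have hne : (fun a : B => χ₀ a) ≠ 0 := by
    intro h0
    have := congrFun h0 1
    exact irr_one_ne_zero hχ₀ (by simpa using this)
  obtain ⟨ψ₀, hψ₀, hcon⟩ := exists_irr_constituent (isClassFunction_of_isCharacter hres) hne
  have hψ₀c := isCharacter_of_isIrrCharacter hψ₀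
  have hind := isCharacter_indFun B hψ₀c
  have hdeg₀ : charDegree χ₀ ≤ B.index * charDegree ψ₀ := by
    refine deg_le_of_constituent hind hχ₀ ?_ (a := B.index * charDegree ψ₀) ?_
      (charDegree_natCast (isCharacter_of_isIrrCharacter hχ₀)).symm
    · rw [classInner_indFun_left B _ _ (isClassFunction_of_isIrrCharacter hχ₀), ← classInner_conj]
      rw [map_ne_zero]
      exact hcon
    · rw [indFun_one, ← charDegree_natCast hψ₀c]
      push_cast
      rfl
  have hBi : B.index = T.index := by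
    have h1 : B.index = (T ⊔ π.ker).index * π.range.index := Subgroup.index_map T π
    have h2 : π.range = ⊤ := π.range_eq_top.2 hπ
    rw [h1, h2, Subgroup.index_top, mul_one, hker, sup_eq_left.2 hFT]
  let f : T →* B := (π.comp T.subtype).codRestrict B (fun x => ⟨x, x.2, rfl⟩)
  have hf : Function.Surjective f := by
    rintro ⟨_, x, hx, rfl⟩
    exact ⟨⟨x, hx⟩, rfl⟩
  let β : T → ℂ := ψ₀ ∘ f
  have hβ : IsIrrCharacter T β := Cfsg.Agent.Lib.Char.Conj.isIrrCharacter_comp f hf hψ₀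
  have hβN : ∀ n : F, β ⟨n, hFT n.2⟩ = β 1 := by
    intro n
    have hn : π n = 1 := by
      have : (n : G) ∈ π.ker := by rw [hker]; exact n.2
      exact this
    have : f ⟨n, hFT n.2⟩ = 1 := Subtype.ext hn
    change ψ₀ (f _) = ψ₀ (f 1)
    rw [this, map_one]
  obtain ⟨χ, hχ, hχc, hχ1⟩ := exists_irr_of_ext hF hθ hFT hT hψ hext hβ hβN
  refine ⟨χ, hχ, hχc, ?_⟩
  have hβ1 : β 1 = (charDegree ψ₀ : ℂ) := by
    change ψ₀ (f 1) = _
    rw [map_one, charDegree_natCast hψ₀c]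
  have hθ1 : θ 1 = (charDegree θ : ℂ) :=
    (charDegree_natCast (isCharacter_of_isIrrCharacter hθ)).symm
  have h5 : (charDegree χ : ℂ) = ((T.index * (charDegree ψ₀ * charDegree θ) : ℕ) : ℂ) := by
    rw [charDegree_natCast (isCharacter_of_isIrrCharacter hχ), hχ1, hβ1, hθ1]
    push_cast
    ring
  have h6 : charDegree χ = T.index * (charDegree ψ₀ * charDegree θ) := by exact_mod_cast h5
  rw [h6, ← hBi, ← mul_assoc]
  exact Nat.mul_le_mul_right _ hdeg₀

/-- (LC) all `p`-subgroups of `G/F` are cyclic: for any `χ₀ ∈ Irr(G/F)`, `θ ∈ Irr(F)`, there is `χ` over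
`θ` with `χ(1) ≥ χ₀(1) θ(1)`. -/
theorem big_cyclic {p : ℕ} [hp : Fact p.Prime] (F : Subgroup G) [hF : F.Normal] [Fintype F] (hFp : IsPGroup p F)
    (hcyc : ∀ P : Subgroup (G ⧸ F), IsPGroup p P → IsCyclic P)
    {χ₀ : G ⧸ F → ℂ} (hχ₀ : IsIrrCharacter (G ⧸ F) χ₀) {θ : F → ℂ} (hθ : IsIrrCharacter F θ) :
    ∃ χ : G → ℂ, IsIrrCharacter G χ ∧ classInner (fun n : F => χ n) θ ≠ 0 ∧
      charDegree χ₀ * charDegree θ ≤ charDegree χ := by
  classical
  letI : Fintype (G ⧸ F) := Fintype.ofFinite _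
  let T : Subgroup G := inertia hF θ
  have hFT : F ≤ T := le_inertia hF (isClassFunction_of_isIrrCharacter hθ)
  letI : Fintype T := Fintype.ofFinite _
  let N' : Subgroup T := F.subgroupOf T
  haveI hN' : N'.Normal := hF.subgroupOf T
  letI : Fintype N' := Fintype.ofFinite _
  let eqv : N' ≃* F := Subgroup.subgroupOfEquivOfLe hFT
  have hN'p : IsPGroup p N' := hFp.of_equiv eqv.symm
  have hθ' : IsIrrCharacter N' (θ ∘ eqv) := isIrrCharacter_comp_mulEquiv eqv hθ
  obtain ⟨ψ, hψ, hψe⟩ := exists_ext_of_cyclic_sections hN' hN'p hθ'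
      (fun c => inv_of_inertia hF hFT rfl c)
      (fun S _ hS => isCyclic_section hcyc T S hS)
  have hext : ∀ n : F, ψ ⟨n, hFT n.2⟩ = θ n := fun n => (hψe (eqv.symm n)).trans (by simp)
  exact big_of_ext (QuotientGroup.mk' F) (QuotientGroup.mk'_surjective F) F
    (QuotientGroup.ker_mk' F) hχ₀ hθ hFT rfl hψ hext

/-- (Y₂) `G/F` is `p`-nilpotent, `p ∤ χ₀(1)`. -/
theorem big_pnil {p : ℕ} [hp : Fact p.Prime] (F : Subgroup G) [hF : F.Normal] [Fintype F] (hFp : IsPGroup p F)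
    (M : Subgroup (G ⧸ F)) (hMn : M.Normal) (hMp : ¬ p ∣ Nat.card M) (hMi : ∃ k, M.index = p ^ k)
    {χ₀ : G ⧸ F → ℂ} (hχ₀ : IsIrrCharacter (G ⧸ F) χ₀) (hχ₀p : ¬ p ∣ charDegree χ₀)
    {θ : F → ℂ} (hθ : IsIrrCharacter F θ) :
    ∃ χ : G → ℂ, IsIrrCharacter G χ ∧ classInner (fun n : F => χ n) θ ≠ 0 ∧
      charDegree χ₀ * charDegree θ ≤ charDegree χ := by
  classical
  have hpp : p.Prime := hp.out
  letI : Fintype (G ⧸ F) := Fintype.ofFinite _
  letI : Fintype M := Fintype.ofFinite _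
  have hres := isCharacter_restrict M (isCharacter_of_isIrrCharacter hχ₀)
  have hne : (fun a : M => χ₀ a) ≠ 0 := by
    intro h0
    have := congrFun h0 1
    exact irr_one_ne_zero hχ₀ (by simpa using this)
  obtain ⟨ρ₀, hρ₀, hcon⟩ := exists_irr_constituent (isClassFunction_of_isCharacter hres) hne
  obtain ⟨e, t, h1, h2⟩ := Cfsg.Agent.Lib.Char.DegDvd.dvd_index_of_constituent hMn hρ₀ hχ₀ hcon
  have hρ₀c := isCharacter_of_isIrrCharacter hρ₀
  have hχ₀c := isCharacter_of_isIrrCharacter hχ₀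
  have h3 : charDegree χ₀ = e * t * charDegree ρ₀ := by
    have h4 : (charDegree χ₀ : ℂ) = ((e * t * charDegree ρ₀ : ℕ) : ℂ) := by
      rw [charDegree_natCast hχ₀c, h1]
      push_cast
      rw [charDegree_natCast hρ₀c]
    exact_mod_cast h4
  have hdeg : charDegree χ₀ = charDegree ρ₀ := by
    obtain ⟨k, hk⟩ := hMi
    rw [hk] at h2
    obtain ⟨i, -, hi⟩ := (Nat.dvd_prime_pow hpp).1 h2
    have hi0 : i = 0 := by
      by_contra hne0
      apply hχ₀p
      rw [h3, hi]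
      exact Dvd.dvd.mul_right (dvd_pow_self p hne0) _
    rw [h3, hi, hi0]
    simp
  let Mh : Subgroup G := M.comap (QuotientGroup.mk' F)
  have hFM : F ≤ Mh := fun x hx => by
    change QuotientGroup.mk' F x ∈ M
    have : QuotientGroup.mk' F x = 1 := (QuotientGroup.eq_one_iff x).2 hx
    rw [this]
    exact one_mem _
  letI : Fintype Mh := Fintype.ofFinite _
  let π : Mh →* M := ((QuotientGroup.mk' F).comp Mh.subtype).codRestrict M (fun x => x.2)
  have hπ : Function.Surjective π := by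
    rintro ⟨y, hy⟩
    obtain ⟨x, rfl⟩ := QuotientGroup.mk'_surjective F y
    exact ⟨⟨x, hy⟩, rfl⟩
  let F' : Subgroup Mh := F.subgroupOf Mh
  haveI hF' : F'.Normal := hF.subgroupOf Mh
  letI : Fintype F' := Fintype.ofFinite _
  have hker : π.ker = F' := by
    ext x
    rw [MonoidHom.mem_ker, Subgroup.mem_subgroupOf]
    constructor
    · intro h
      have h4 : QuotientGroup.mk' F (x : G) = 1 := congrArg Subtype.val h
      exact (QuotientGroup.eq_one_iff _).1 h4
    · intro h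
      apply Subtype.ext
      exact (QuotientGroup.eq_one_iff _).2 h
  let eqv : F' ≃* F := Subgroup.subgroupOfEquivOfLe hFM
  let θ' : F' → ℂ := θ ∘ eqv
  have hθ' : IsIrrCharacter F' θ' := isIrrCharacter_comp_mulEquiv eqv hθ
  let T : Subgroup Mh := inertia hF' θ'
  have hFT : F' ≤ T := le_inertia hF' (isClassFunction_of_isIrrCharacter hθ')
  letI : Fintype T := Fintype.ofFinite _
  let N' : Subgroup T := F'.subgroupOf T
  haveI hN' : N'.Normal := hF'.subgroupOf T
  letI : Fintype N' := Fintype.ofFinite _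
  let eqv2 : N' ≃* F' := Subgroup.subgroupOfEquivOfLe hFT
  have hθ'' : IsIrrCharacter N' (θ' ∘ eqv2) := isIrrCharacter_comp_mulEquiv eqv2 hθ'
  have hcop : Nat.Coprime (Nat.card N') N'.index := by
    have hc1 : Nat.card N' = Nat.card F :=
      (Nat.card_congr eqv2.toEquiv).trans (Nat.card_congr eqv.toEquiv)
    obtain ⟨k, hk⟩ := IsPGroup.iff_card.mp hFp
    rw [hc1, hk]
    apply Nat.Coprime.pow_left
    rw [Nat.Prime.coprime_iff_not_dvd hpp]
    intro hd
    let f : T →* M := π.comp T.subtype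
    have hfk : f.ker = N' := by
      ext x
      rw [MonoidHom.mem_ker, Subgroup.mem_subgroupOf, ← hker]
      rfl
    have hi : N'.index = Nat.card f.range := by
      rw [← hfk, Subgroup.index_ker]
    rw [hi] at hd
    exact hMp (hd.trans (Subgroup.card_subgroup_dvd_card _))
  obtain ⟨ψ, hψ, hψe⟩ := Cfsg.Agent.Lib.OddChar.Inertia.exists_ext_of_coprime hN' hθ''
    (fun c => inv_of_inertia hF' hFT rfl c) hcop
  have hext : ∀ n : F', ψ ⟨n, hFT n.2⟩ = θ' n := fun n => (hψe (eqv2.symm n)).trans (by simp)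
  obtain ⟨Θ, hΘ, hΘc, hΘd⟩ := big_of_ext π hπ F' hker hρ₀ hθ' hFT rfl hψ hext
  obtain ⟨χ, hχ, hχc⟩ := Cfsg.Agent.Lib.CharDeg.SmallDegree.exists_irr_constituent_restrict Mh hΘ
  have hχch := isCharacter_of_isIrrCharacter hχ
  refine ⟨χ, hχ, ?_, ?_⟩
  · have hθ'c := isCharacter_of_isIrrCharacter hθ'
    have h5 := classInner_ne_zero_mono F'.subtype (isCharacter_restrict Mh hχch) hΘ hχc hθ'c hΘc
    have h6 := classInner_comp_mulEquiv eqv (fun n : F => χ n) θ
    rw [← h6]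
    exact h5
  · have hθd : charDegree θ' = charDegree θ := by
      have : θ' 1 = θ 1 := by simp [θ']
      simp only [charDegree, this]
    have hle : charDegree Θ ≤ charDegree χ :=
      deg_le_of_constituent (isCharacter_restrict Mh hχch) hΘ hχc
        (a := charDegree χ) (charDegree_natCast hχch).symm
        (charDegree_natCast (isCharacter_of_isIrrCharacter hΘ)).symm
    rw [hdeg, ← hθd]
    exact hΘd.trans hle

/-- (LX) `G/F` is `p`-nilpotent with abelian Sylow `p`-subgroups, `χ₀` arbitrary. -/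
theorem big_abelian {p : ℕ} [hp : Fact p.Prime] (F : Subgroup G) [hF : F.Normal] [Fintype F] (hFp : IsPGroup p F)
    (M : Subgroup (G ⧸ F)) (hMn : M.Normal) (hMp : ¬ p ∣ Nat.card M) (hMi : ∃ k, M.index = p ^ k)
    (hab : ∀ P : Subgroup (G ⧸ F), IsPGroup p P → ∀ a ∈ P, ∀ b ∈ P, a * b = b * a)
    {χ₀ : G ⧸ F → ℂ} (hχ₀ : IsIrrCharacter (G ⧸ F) χ₀)
    {θ : F → ℂ} (hθ : IsIrrCharacter F θ) :
    ∃ χ : G → ℂ, IsIrrCharacter G χ ∧ classInner (fun n : F => χ n) θ ≠ 0 ∧
      charDegree χ₀ * charDegree θ ≤ charDegree χ := by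
  exact Cfsg.Agent.Lib.FourDeg.BigAb.big_abelian_aux F hFp M hMn hMp hMi hab hχ₀ hθ

end Cfsg.Agent.Lib.FourDeg.Big
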