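import Cfsg.Agent.Lib.FourDeg.Chain

import Mathlib

set_option autoImplicit false
set_option linter.unusedSectionVars false

namespace Cfsg.Agent.Lib.FourDeg.Perm

open Cfsg Module
open Cfsg.Agent.Lib.Char.Basic Cfsg.Agent.Lib.Char.Ortho Cfsg.Agent.Lib.Char.Complete
open Cfsg.Agent.Lib.Char.Degree Cfsg.Agent.Lib.Char.Clifford Cfsg.Agent.Lib.Char.Induced
open Cfsg.Agent.Lib.Char.Linear
open Cfsg.Agent.Lib.CharDeg.ThreeDeg.Perfect Cfsg.Agent.Lib.CharDeg.ThreeDeg.Uniform
open Cfsg.Agent.Lib.CharDeg.ThreeDeg.Lift Cfsg.Agent.Lib.CharDeg.ThreeDeg.Sec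
open Cfsg.Agent.Lib.CharDeg.ThreeDeg.Cases Cfsg.Agent.Lib.CharDeg.ThreeDeg.Solv
open Cfsg.Agent.Lib.CharDeg.ThreeDeg.Derived
open Cfsg.Agent.Lib.Core.Basic
open Cfsg.Agent.Lib.Char.IndRep Cfsg.Agent.Lib.Char.Taketa

universe u

variable {X : Type u} [Group X] [Fintype X]

/-- `1_T^X` minus the trivial character: a constituent nontrivial on `N`, of degree `< |X:T|`. -/
theorem exists_small_const (T N : Subgroup X) [hN : N.Normal] (hNT : ¬ N ≤ T) :
    ∃ χ : X → ℂ, IsIrrCharacter X χ ∧ (∃ x ∈ N, χ x ≠ χ 1) ∧ charDegree χ < T.index := by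
  classical
  letI : Fintype T := Fintype.ofFinite _
  set π : X → ℂ := indFun T (fun _ => (1 : ℂ)) with hπdef
  have hπ : IsCharacter X π := isCharacter_indFun T isCharacter_one
  have hπ1 : π 1 = ((T.index : ℕ) : ℂ) := by rw [hπdef, indFun_one, mul_one]
  have hone : IsIrrCharacter X (fun _ => (1 : ℂ)) :=
    Cfsg.Agent.Lib.Char.Linear.isIrrCharacter_of_deg_one isCharacter_one rfl
  have hcon1 : classInner π (fun _ : X => (1 : ℂ)) ≠ 0 := by
    rw [hπdef, classInner_indFun_left T _ _ (fun _ _ => rfl)]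
    have hone' : IsIrrCharacter T (fun _ => (1 : ℂ)) :=
      Cfsg.Agent.Lib.Char.Linear.isIrrCharacter_of_deg_one isCharacter_one rfl
    rw [classInner_self_of_isIrr hone']
    exact one_ne_zero
  obtain ⟨x₀, hx₀N, hx₀T⟩ := SetLike.not_le_iff_exists.mp hNT
  by_contra hno
  push Not at hno
  have hlt : ∀ (ζ : X → ℂ), IsIrrCharacter X ζ → classInner π ζ ≠ 0 → ∀ r ∈ N, ζ r = ζ 1 := by
    intro ζ hζ hcon r hr
    by_contra hrne
    have hle := hno ζ hζ ⟨r, hr, hrne⟩
    have hζc := isCharacter_of_isIrrCharacter hζ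
    have heq := eq_of_constituent_of_deg_le hπ hζ hcon hπ1 (charDegree_natCast hζc).symm hle
    rw [heq] at hcon1
    by_cases hζ1 : ζ = fun _ => (1 : ℂ)
    · rw [hζ1] at hrne
      exact hrne rfl
    · exact hcon1 (classInner_eq_zero_of_isIrr_of_ne hζ hone hζ1)
  apply hx₀T
  apply mem_of_indFun_one_eq
  have := finite_irrCharacter (G := X)
  letI := Fintype.ofFinite (IrrCharacter X)
  have hexp := classFunction_eq_sum (isClassFunction_of_isCharacter hπ)
  rw [← hπdef, hexp]
  simp only [Finset.sum_apply, Pi.smul_apply, smul_eq_mul]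
  refine Finset.sum_congr rfl fun i _ => ?_
  by_cases hi : classInner π (i : X → ℂ) = 0
  · rw [hi, zero_mul, zero_mul]
  · rw [hlt _ i.2 hi x₀ hx₀N]

/-- `q`-local version: for `N` a normal `q`-subgroup. -/
theorem exists_val_const {q : ℕ} [hq : Fact q.Prime] (T N : Subgroup X) [hN : N.Normal]
    (hNq : IsPGroup q N) (hNT : ¬ N ≤ T) :
    ∃ χ : X → ℂ, IsIrrCharacter X χ ∧ (∃ x ∈ N, χ x ≠ χ 1) ∧
      (charDegree χ).factorization q < T.index.factorization q := by
  classical
  have hqq : q.Prime := hq.out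
  obtain ⟨PT⟩ : Nonempty (Sylow q T) := inferInstance
  let P : Subgroup X := (PT : Subgroup T).map T.subtype
  have hPq : IsPGroup q P := PT.isPGroup'.map _
  obtain ⟨S₀, hPS₀⟩ := hPq.exists_le_sylow
  obtain ⟨S, hSdef⟩ : ∃ S : Subgroup X, S = (S₀ : Subgroup X) := ⟨_, rfl⟩
  have hPS : P ≤ S := by rw [hSdef]; exact hPS₀
  have hPT : P ≤ T := Subgroup.map_subtype_le _
  have hNS : N ≤ S := by
    rw [hSdef]
    exact (le_pCore hN hNq).trans (pCore_le_sylow S₀)
  have hSq : IsPGroup q S := by rw [hSdef]; exact S₀.isPGroup'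
  have hSidx : ¬ q ∣ S.index := by rw [hSdef]; exact S₀.not_dvd_index
  letI : Fintype S := Fintype.ofFinite _
  have hcS : Nat.card S = q ^ (Nat.card X).factorization q := by
    rw [hSdef]; exact S₀.card_eq_multiplicity
  have hcP : Nat.card P = q ^ (Nat.card T).factorization q := by
    have : Nat.card P = Nat.card (PT : Subgroup T) :=
      Subgroup.card_map_of_injective T.subtype_injective
    rw [this]
    exact PT.card_eq_multiplicity
  have hX0 : T.index ≠ 0 := Subgroup.index_ne_zero_of_finite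
  have hT0 : Nat.card T ≠ 0 := Nat.card_pos.ne'
  have hfac : (Nat.card X).factorization q = T.index.factorization q + (Nat.card T).factorization q := by
    rw [← Subgroup.index_mul_card T, Nat.factorization_mul hX0 hT0]
    rfl
  set v := T.index.factorization q with hv
  set w := (Nat.card T).factorization q with hw
  let T' : Subgroup S := T.subgroupOf S
  have hT'idx : T'.index ≤ q ^ v := by
    have h1 : T'.index * Nat.card T' = q ^ v * q ^ w := by
      rw [Subgroup.index_mul_card, hcS, hfac, pow_add]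
    have h2 : q ^ w ≤ Nat.card T' := by
      have e : Nat.card T' = Nat.card (T ⊓ S : Subgroup X) := by
        rw [← Subgroup.subgroupOf_map_subtype T S]
        exact (Subgroup.card_map_of_injective S.subtype_injective).symm
      rw [e, ← hcP]
      exact Subgroup.card_le_of_le (le_inf hPT hPS)
    have h3 : T'.index * q ^ w ≤ q ^ v * q ^ w := by
      rw [← h1]
      exact Nat.mul_le_mul_left _ h2
    exact Nat.le_of_mul_le_mul_right h3 (pow_pos hqq.pos _)
  obtain ⟨x₀, hx₀N, hx₀T⟩ := SetLike.not_le_iff_exists.mp hNT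
  haveI : (N.subgroupOf S).Normal := inferInstance
  have hNT' : ¬ N.subgroupOf S ≤ T' := by
    intro hle
    have h1 : (⟨x₀, hNS hx₀N⟩ : S) ∈ N.subgroupOf S := Subgroup.mem_subgroupOf.mpr hx₀N
    exact hx₀T (Subgroup.mem_subgroupOf.mp (hle h1))
  obtain ⟨ζ, hζ, ⟨y, hyN, hζy⟩, hζd⟩ := exists_small_const T' (N.subgroupOf S) hNT'
  obtain ⟨n, hn⟩ := IsPGroup.iff_card.mp hSq
  have hdvd : charDegree ζ ∣ q ^ n := by
    have h1 := charDegree_dvd_card hζ
    rwa [hn] at h1
  obtain ⟨i, -, hi⟩ := (Nat.dvd_prime_pow hqq).mp hdvd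
  have hiv : i < v := by
    have h1 : q ^ i < q ^ v := by
      rw [← hi]
      exact hζd.trans_le hT'idx
    exact (Nat.pow_lt_pow_iff_right hqq.one_lt).mp h1
  have hζc := isCharacter_of_isIrrCharacter hζ
  have hΨ := isCharacter_indFun S hζc
  have hζ1 : ζ 1 = ((q ^ i : ℕ) : ℂ) := by
    rw [← charDegree_natCast hζc, hi]
  have hΨ1 : indFun S ζ 1 = ((S.index * q ^ i : ℕ) : ℂ) := by
    rw [indFun_one, hζ1]
    push_cast
    rfl
  have hnd : ¬ q ^ (i + 1) ∣ S.index * q ^ i := by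
    intro h1
    rw [pow_succ'] at h1
    exact hSidx (Nat.dvd_of_mul_dvd_mul_right (pow_pos hqq.pos i) h1)
  obtain ⟨χ, hχ, hχc, hχd⟩ := exists_constituent_not_dvd hΨ hΨ1 hnd
  rw [classInner_indFun_left S _ _ (isClassFunction_of_isIrrCharacter hχ)] at hχc
  have hχc2 := classInner_ne_zero_comm hχc
  refine ⟨χ, hχ, ⟨(y : X), Subgroup.mem_subgroupOf.mp hyN, ?_⟩, ?_⟩
  · intro hcon
    apply hζy
    exact Cfsg.Agent.Lib.KerFit.Main.ker_of_constituent
      (isCharacter_restrict S (isCharacter_of_isIrrCharacter hχ)) hζ hχc2 (y := y) (by simpa using hcon)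
  · have hd0 : charDegree χ ≠ 0 := (charDegree_pos hχ).ne'
    have : ¬ i + 1 ≤ (charDegree χ).factorization q := fun h =>
      hχd ((hqq.pow_dvd_iff_le_factorization hd0).mpr h)
    omega

end Cfsg.Agent.Lib.FourDeg.Perm
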