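import Mathlib

set_option autoImplicit false
set_option linter.unusedSectionVars false

namespace Cfsg.Agent.Lib.FourDeg.RegAbs

universe u

section NormAux

open Finset

variable {Λ P : Type u} [CommGroup Λ] [CommGroup P] [MulDistribMulAction P Λ]

/-- The norm map of a finite subgroup `S` on the abelian group `Λ`. -/
noncomputable def nrm (S : Subgroup P) [Fintype S] : Λ →* Λ :=
  MonoidHom.mk' (fun x => ∏ s : S, (s : P) • x) (by
    intro x y
    simp only [smul_mul', Finset.prod_mul_distrib])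

lemma nrm_apply (S : Subgroup P) [Fintype S] (x : Λ) : nrm S x = ∏ s : S, (s : P) • x := rfl

lemma nrm_smul (S : Subgroup P) [Fintype S] (h : P) (x : Λ) : nrm S (h • x) = h • nrm S x := by
  have h1 : h • ∏ s : S, (s : P) • x = ∏ s : S, h • (s : P) • x :=
    map_prod (MulDistribMulAction.toMonoidHom Λ h) _ _
  rw [nrm_apply, nrm_apply, h1]
  apply Finset.prod_congr rfl
  intro s _
  rw [smul_smul, smul_smul, mul_comm]

lemma smul_nrm (S : Subgroup P) [Fintype S] (s : P) (hs : s ∈ S) (x : Λ) : s • nrm S x = nrm S x := by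
  have h1 : s • ∏ t : S, (t : P) • x = ∏ t : S, s • (t : P) • x :=
    map_prod (MulDistribMulAction.toMonoidHom Λ s) _ _
  rw [nrm_apply, h1]
  refine Fintype.prod_equiv (Equiv.mulLeft (⟨s, hs⟩ : S)) _ _ ?_
  intro t
  rw [smul_smul]
  rfl

lemma nrm_fix (S : Subgroup P) [Fintype S] (x : Λ) (hx : ∀ s ∈ S, s • x = x) :
    nrm S x = x ^ Nat.card S := by
  rw [nrm_apply, Finset.prod_congr rfl (fun (s : S) _ => hx s s.2), Finset.prod_const, Finset.card_univ,
    Nat.card_eq_fintype_card]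

end NormAux

/-- Regular orbit: an abelian group acting faithfully and coprimely on an abelian group. -/
theorem exists_regular {Λ P : Type u} [CommGroup Λ] [CommGroup P] [Fintype Λ] [Fintype P]
    [MulDistribMulAction P Λ] (hcop : Nat.Coprime (Nat.card Λ) (Nat.card P))
    (hfaith : ∀ g : P, (∀ x : Λ, g • x = x) → g = 1) :
    ∃ ρ : Λ, ∀ g : P, g • ρ = ρ → g = 1 := by
  classical
  obtain ⟨ρ, hρ⟩ := Finite.exists_min (fun ρ : Λ => Nat.card (MulAction.stabilizer P ρ))
  refine ⟨ρ, fun g hg => ?_⟩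
  by_contra hg1
  set S := MulAction.stabilizer P ρ with hS
  have hgS : g ∈ S := hg
  have hmv : ∃ τ : Λ, g • τ ≠ τ := by
    by_contra hall
    have hall' : ∀ x : Λ, g • x = x := fun x => by_contra fun h => hall ⟨x, h⟩
    exact hg1 (hfaith g hall')
  obtain ⟨τ, hτ⟩ := hmv
  have hcopS : (Nat.card Λ).Coprime (Nat.card S) :=
    Nat.Coprime.coprime_dvd_right (Subgroup.card_subgroup_dvd_card S) hcop
  have hinj : ∀ x y : Λ, x ^ Nat.card S = y ^ Nat.card S → x = y :=
    fun x y h => (powCoprime hcopS).injective h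
  set n := Nat.card S with hn
  let N : Λ →* Λ := nrm S
  set σ : Λ := τ ^ n * (N τ)⁻¹ with hσ
  have hNN : N (N τ) = (N τ) ^ n := nrm_fix S _ (fun s hs => smul_nrm S s hs τ)
  have hNσ : N σ = 1 := by
    rw [hσ, map_mul, map_pow, map_inv, hNN, mul_inv_cancel]
  have hNρ : N ρ = ρ ^ n := nrm_fix S ρ (fun s hs => hs)
  have hle : MulAction.stabilizer P (ρ * σ) ≤ S := by
    intro h hh
    have hh' : h • (ρ * σ) = ρ * σ := hh
    have h1 : N (h • (ρ * σ)) = N (ρ * σ) := congrArg N hh'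
    have h2 : N (h • (ρ * σ)) = h • N (ρ * σ) := nrm_smul S h _
    rw [h2, map_mul, hNσ, mul_one, hNρ, smul_pow'] at h1
    exact hinj _ _ h1
  have heq := Subgroup.eq_of_le_of_card_ge hle (hρ (ρ * σ))
  have hσfix : ∀ s ∈ S, s • σ = σ := by
    intro s hs
    have h1 : s ∈ MulAction.stabilizer P (ρ * σ) := heq ▸ hs
    have h2 : s • (ρ * σ) = ρ * σ := h1
    rw [smul_mul', (hs : s • ρ = ρ)] at h2
    exact mul_left_cancel h2
  have hσ1 : σ = 1 := by
    have h1 : N σ = σ ^ n := nrm_fix S σ hσfix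
    rw [hNσ] at h1
    exact hinj σ 1 (by rw [← h1, one_pow])
  have hτn : τ ^ n = N τ := mul_inv_eq_one.mp hσ1
  apply hτ
  apply hinj
  rw [← smul_pow', hτn]
  exact smul_nrm S g hgS τ

lemma exists_pair {P : Type u} [CommGroup P] [Finite P] {p : ℕ} [hp : Fact p.Prime]
    (hP : IsPGroup p P) (hnc : ¬ IsCyclic P) :
    ∃ a b : P, a ^ p = 1 ∧ orderOf b = p ∧ ∀ j : ℕ, a * b ^ j ≠ 1 := by
  have hexp : Monoid.exponent P ≠ Nat.card P := fun h => hnc (IsCyclic.iff_exponent_eq_card.mpr h)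
  obtain ⟨g, hg⟩ := Monoid.exists_orderOf_eq_exponent (Monoid.exponent_ne_zero.mp (Monoid.exponent_ne_zero_of_finite (G := P)))
  have hne : Subgroup.zpowers g ≠ ⊤ := by
    intro h
    apply hexp
    rw [← hg, ← Nat.card_zpowers, h, Subgroup.card_top]
  have hnt : Nontrivial (P ⧸ Subgroup.zpowers g) :=
    QuotientGroup.nontrivial_iff.mpr hne
  have hQ : IsPGroup p (P ⧸ Subgroup.zpowers g) := hP.to_quotient _
  have hdvd : p ∣ Nat.card (P ⧸ Subgroup.zpowers g) := by
    obtain ⟨k, hk⟩ := IsPGroup.iff_card.mp hQ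
    rw [hk]
    have hk0 : k ≠ 0 := by
      rintro rfl
      have h1 : Nat.card (P ⧸ Subgroup.zpowers g) = 1 := by simpa using hk
      exact (Finite.one_lt_card (α := P ⧸ Subgroup.zpowers g)).ne' h1
    exact dvd_pow_self p hk0
  obtain ⟨q, hq⟩ := exists_prime_orderOf_dvd_card' (G := P ⧸ Subgroup.zpowers g) p hdvd
  obtain ⟨h, rfl⟩ := QuotientGroup.mk_surjective q
  have hh1 : h ∉ Subgroup.zpowers g := by
    intro hmem
    have : ((h : P ⧸ Subgroup.zpowers g)) = 1 := (QuotientGroup.eq_one_iff h).mpr hmem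
    rw [this, orderOf_one] at hq
    exact hp.out.one_lt.ne hq
  have hhp : h ^ p ∈ Subgroup.zpowers g := by
    have h1 : ((h : P ⧸ Subgroup.zpowers g)) ^ p = 1 := by rw [← hq, pow_orderOf_eq_one]
    rw [← QuotientGroup.mk_pow] at h1
    exact (QuotientGroup.eq_one_iff _).mp h1
  obtain ⟨t, ht⟩ : ∃ t : ℕ, g ^ t = h ^ p := (Submonoid.mem_powers_iff _ _).mp (mem_powers_iff_mem_zpowers.mpr hhp)
  -- `e = orderOf g` is a nontrivial power of `p`
  obtain ⟨k, hk⟩ := IsPGroup.iff_orderOf.mp hP g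
  have hk0 : k ≠ 0 := by
    rintro rfl
    apply hnc
    have h1 : Monoid.exponent P = 1 := by rw [← hg, hk, pow_zero]
    have := Monoid.exp_eq_one_iff.mp h1
    infer_instance
  obtain ⟨k', rfl⟩ := Nat.exists_eq_succ_of_ne_zero hk0
  set e' := p ^ k' with he'
  have he'pos : 0 < e' := pow_pos hp.out.pos _
  have hee : orderOf g = p * e' := by rw [hk, pow_succ, mul_comm]
  have hexp1 : h ^ (p * e') = 1 := by
    rw [← hee, hg]
    exact Monoid.pow_exponent_eq_one h
  have hpt : p ∣ t := by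
    have h1 : g ^ (t * e') = 1 := by rw [pow_mul, ht, ← pow_mul, hexp1]
    have h2 := orderOf_dvd_of_pow_eq_one h1
    rw [hee, mul_comm p e', mul_comm t e'] at h2
    exact (Nat.mul_dvd_mul_iff_left he'pos).mp h2
  obtain ⟨m, rfl⟩ := hpt
  refine ⟨h * (g ^ m)⁻¹, g ^ e', ?_, ?_, ?_⟩
  · rw [mul_pow, inv_pow, ← pow_mul, mul_comm m p, ← ht, mul_inv_cancel]
  · rw [orderOf_pow_of_dvd he'pos.ne' (by rw [hee]; exact dvd_mul_left _ _), hee,
      Nat.mul_div_cancel _ he'pos]
  · intro j hj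
    apply hh1
    have h1 : h = g ^ m * ((g ^ e') ^ j)⁻¹ := by
      have h2 : h * (g ^ m)⁻¹ = ((g ^ e') ^ j)⁻¹ := eq_inv_of_mul_eq_one_left hj
      rw [← h2]
      simp
    rw [h1]
    exact Subgroup.mul_mem _ (Subgroup.pow_mem _ (Subgroup.mem_zpowers g) _)
      (Subgroup.inv_mem _ (Subgroup.pow_mem _ (Subgroup.pow_mem _ (Subgroup.mem_zpowers g) _) _))

/-- A non-cyclic abelian `p`-group acting faithfully, coprimely has a moved non-regular point. -/
theorem exists_nonregular {Λ P : Type u} [CommGroup Λ] [CommGroup P] [Fintype Λ] [Fintype P]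
    [MulDistribMulAction P Λ] {p : ℕ} [hp : Fact p.Prime] (hP : IsPGroup p P)
    (hcop : Nat.Coprime (Nat.card Λ) (Nat.card P))
    (hfaith : ∀ g : P, (∀ x : Λ, g • x = x) → g = 1) (hnc : ¬ IsCyclic P) :
    ∃ ρ : Λ, (∃ g : P, g ≠ 1 ∧ g • ρ = ρ) ∧ (∃ g : P, g • ρ ≠ ρ) := by
  classical
  by_contra hcon
  have hcon' : ∀ ρ : Λ, (∃ g : P, g ≠ 1 ∧ g • ρ = ρ) → ∀ g : P, g • ρ = ρ := by
    intro ρ h1 g
    by_contra hg
    exact hcon ⟨ρ, h1, g, hg⟩
  obtain ⟨a, b, ha, hb, hab⟩ := exists_pair hP hnc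
  have hb1 : b ^ p = 1 := by rw [← hb, pow_orderOf_eq_one]
  let NP : Λ →* Λ := nrm (⊤ : Subgroup P)
  have hcopT : (Nat.card Λ).Coprime (Nat.card (⊤ : Subgroup P)) := by
    rwa [Subgroup.card_top]
  have hcopp : (Nat.card Λ).Coprime p :=
    Nat.Coprime.coprime_dvd_right (by rw [← hb]; exact orderOf_dvd_natCard b) hcop
  have hinjT : ∀ x y : Λ, x ^ Nat.card (⊤ : Subgroup P) = y ^ Nat.card (⊤ : Subgroup P) → x = y :=
    fun x y h => (powCoprime hcopT).injective h
  have hinjp : ∀ x y : Λ, x ^ p = y ^ p → x = y :=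
    fun x y h => (powCoprime hcopp).injective h
  have hNg : ∀ g : P, g ≠ 1 → g ^ p = 1 → ∀ x, NP x = 1 →
      ∏ i ∈ Finset.range p, g ^ i • x = 1 := by
    intro g hg hgp x hx
    set y : Λ := ∏ i ∈ Finset.range p, g ^ i • x with hy
    have hgy : g • y = y := by
      have h1 : g • y = ∏ i ∈ Finset.range p, g ^ (i + 1) • x := by
        have h0 : g • ∏ i ∈ Finset.range p, g ^ i • x = ∏ i ∈ Finset.range p, g • g ^ i • x :=
          map_prod (MulDistribMulAction.toMonoidHom Λ g) _ _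
        rw [hy, h0]
        apply Finset.prod_congr rfl
        intro i _
        rw [smul_smul, pow_succ']
      have h2 : (∏ i ∈ Finset.range p, g ^ (i + 1) • x) * (g ^ 0 • x) =
          y * (g ^ p • x) := by
        rw [hy, ← Finset.prod_range_succ' (fun i => g ^ i • x), Finset.prod_range_succ]
      rw [hgp, pow_zero] at h2
      rw [h1]
      exact mul_right_cancel h2
    have hall := hcon' y ⟨g, hg, hgy⟩
    have h1 : NP y = y ^ Nat.card (⊤ : Subgroup P) := nrm_fix _ y (fun s _ => hall s)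
    have h2 : NP y = 1 := by
      rw [hy, map_prod]
      apply Finset.prod_eq_one
      intro i _
      have h3 : NP (g ^ i • x) = g ^ i • NP x := nrm_smul _ _ _
      rw [h3, hx, smul_one]
    exact hinjT y 1 (by rw [← h1, h2, one_pow])
  have hW : ∀ x, NP x = 1 → x = 1 := by
    intro x hx
    have h0 : ∏ j ∈ Finset.range p, ∏ i ∈ Finset.range p, (a * b ^ j) ^ i • x = 1 :=
      Finset.prod_eq_one (fun j _ => hNg (a * b ^ j) (hab j)
        (by rw [mul_pow, ha, one_mul, ← pow_mul, mul_comm, pow_mul, hb1, one_pow]) x hx)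
    rw [Finset.prod_comm] at h0
    rw [Finset.prod_eq_single_of_mem 0 (Finset.mem_range.2 hp.out.pos) ?_] at h0
    · simp only [pow_zero, one_smul, Finset.prod_const, Finset.card_range] at h0
      exact hinjp x 1 (by rw [h0, one_pow])
    · intro i hi hi0
      have hi' : i < p := Finset.mem_range.1 hi
      have h1 : ∀ j ∈ Finset.range p, (a * b ^ j) ^ i • x = a ^ i • ((b ^ i) ^ j • x) := by
        intro j _
        rw [smul_smul, mul_pow, ← pow_mul, ← pow_mul, mul_comm j i]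
      have h2 : ∏ j ∈ Finset.range p, a ^ i • ((b ^ i) ^ j • x) =
          a ^ i • ∏ j ∈ Finset.range p, (b ^ i) ^ j • x :=
        (map_prod (MulDistribMulAction.toMonoidHom Λ (a ^ i)) _ _).symm
      rw [Finset.prod_congr rfl h1, h2, hNg (b ^ i)
        (pow_ne_one_of_lt_orderOf hi0 (by rwa [hb]))
        (by rw [← pow_mul, mul_comm, pow_mul, hb1, one_pow]) x hx, smul_one]
  have htriv : ∀ (g : P) (x : Λ), g • x = x := by
    intro g x
    set c := Nat.card (⊤ : Subgroup P) with hc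
    have hNN : NP (NP x) = (NP x) ^ c := nrm_fix _ _ (fun s hs => smul_nrm _ s hs x)
    have hz : NP (x ^ c * (NP x)⁻¹) = 1 := by
      rw [map_mul, map_pow, map_inv, hNN, mul_inv_cancel]
    have h1 : x ^ c = NP x := mul_inv_eq_one.mp (hW _ hz)
    apply hinjT
    rw [← smul_pow', h1]
    exact smul_nrm _ g (Subgroup.mem_top g) x
  have hb' : b = 1 := hfaith b (htriv b)
  rw [hb', orderOf_one] at hb
  exact hp.out.one_lt.ne hb

end Cfsg.Agent.Lib.FourDeg.RegAbs
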