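import Cfsg.Agent.Lib.FourDeg.Chain
import Cfsg.Agent.Lib.Palfy.Class2
import Cfsg.Agent.Lib.Solvable.Fitting
import Cfsg.Agent.Lib.Coprime.Action
import Cfsg.Agent.Lib.Char.GoingDown
import Mathlib

/-!
# Auxiliary facts for `FourDeg/Reg.lean`: linear characters of a nilpotent normal `p'`-subgroup
-/

set_option autoImplicit false
set_option linter.unusedSectionVars false
set_option warn.classDefReducibility false

namespace Cfsg.Agent.Lib.FourDeg.RegAux

open Cfsg
open scoped commutatorElement

universe u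

/-- In a finite nilpotent group, a subgroup covering the abelianization is everything. -/
theorem eq_top_of_comm_sup {X : Type*} [Group X] [Finite X] [hX : Group.IsNilpotent X] {C : Subgroup X}
    (h : commutator X ⊔ C = ⊤) : C = ⊤ := by
  by_contra hC
  obtain ⟨M, hM, hCM⟩ := (eq_top_or_exists_le_coatom C).resolve_left hC
  have hMn : M.Normal := Subgroup.NormalizerCondition.normal_of_coatom M (Group.normalizerCondition_of_isNilpotent (G := X)) hM
  have hcomm : commutator X ≤ M := by
    haveI : Nontrivial (X ⧸ M) := by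
      apply QuotientGroup.nontrivial_iff.mpr
      exact hM.1
    haveI : Group.IsNilpotent (X ⧸ M) := Group.nilpotent_of_surjective (QuotientGroup.mk' M)
      (QuotientGroup.mk'_surjective M)
    have hZ : Subgroup.center (X ⧸ M) ≠ ⊥ := Group.IsNilpotent.center_ne_bot (X ⧸ M)
    let Z : Subgroup X := (Subgroup.center (X ⧸ M)).comap (QuotientGroup.mk' M)
    have hMZ : M ≤ Z := by
      intro m hm
      show QuotientGroup.mk' M m ∈ Subgroup.center (X ⧸ M)
      have h1 : QuotientGroup.mk' M m = 1 := (QuotientGroup.eq_one_iff m).mpr hm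
      rw [h1]
      exact one_mem _
    have hZtop : Z = ⊤ := by
      rcases hMZ.eq_or_lt with he | hlt
      · exfalso
        obtain ⟨⟨z, hz⟩, hz1⟩ := (Subgroup.ne_bot_iff_exists_ne_one).mp hZ
        obtain ⟨x, rfl⟩ := QuotientGroup.mk'_surjective M z
        have hxZ : x ∈ Z := hz
        rw [← he] at hxZ
        apply hz1
        apply Subtype.ext
        exact (QuotientGroup.eq_one_iff x).mpr hxZ
      · exact hM.2 _ hlt
    rw [commutator_def, Subgroup.commutator_le]
    intro a _ b _
    rw [← QuotientGroup.eq_one_iff]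
    have ha : (QuotientGroup.mk' M a) ∈ Subgroup.center (X ⧸ M) := by
      have : a ∈ Z := by rw [hZtop]; trivial
      exact this
    have hc := Subgroup.mem_center_iff.mp ha (QuotientGroup.mk' M b)
    have : ((⁅a, b⁆ : X) : X ⧸ M) = (QuotientGroup.mk' M a) * (QuotientGroup.mk' M b) *
        (QuotientGroup.mk' M a)⁻¹ * (QuotientGroup.mk' M b)⁻¹ := by
      simp [commutatorElement_def]
    rw [this, ← hc]
    group
  have : (⊤ : Subgroup X) ≤ M := by
    rw [← h]
    exact sup_le hcomm hCM
  exact hM.1 (top_le_iff.mp this)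

variable {H : Type u} [Group H] [Finite H] {p : ℕ} [hp : Fact p.Prime]

/-- `p` does not divide the order of the dual of a `p'`-group. -/
theorem not_dvd_card_hom {J : Type*} [Group J] [Finite J] (hJp : ¬ p ∣ Nat.card J) :
    haveI := Cfsg.Agent.Lib.Char.GoingDown.finite_hom (K := J)
    ¬ p ∣ Nat.card (J →* ℂˣ) := by
  haveI := Cfsg.Agent.Lib.Char.GoingDown.finite_hom (K := J)
  intro h
  obtain ⟨ρ, hρ⟩ := exists_prime_orderOf_dvd_card' p h
  have hρ1 : ρ ≠ 1 := by
    intro h1
    rw [h1, orderOf_one] at hρ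
    exact hp.out.one_lt.ne hρ
  apply hρ1
  ext n
  have h1 : ρ n ^ p = 1 := by
    have := pow_orderOf_eq_one ρ
    rw [hρ] at this
    have h2 := congrArg (fun f : J →* ℂˣ => f n) this
    simpa using h2
  have h2 : ρ n ^ orderOf n = 1 := by
    rw [← map_pow, pow_orderOf_eq_one, map_one]
  have hcop : Nat.Coprime p (orderOf n) :=
    (Nat.Prime.coprime_iff_not_dvd hp.out).mpr (fun hd => hJp (hd.trans (orderOf_dvd_natCard n)))
  have h3 : ρ n = 1 := by
    have h4 : ρ n ^ Nat.gcd p (orderOf n) = 1 := pow_gcd_eq_one.mpr ⟨h1, h2⟩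
    rw [hcop] at h4
    simpa using h4
  rw [h3]
  rfl

/-- An element of `p`-power order fixing all linear characters of a nilpotent normal `p'`-subgroup `J`
containing its centralizer is trivial. -/
theorem eq_one_of_fix {J : Subgroup H} (hJ : J.Normal) (hnil : Group.IsNilpotent J)
    (hcent : Subgroup.centralizer (J : Set H) ≤ J) (hJp : ¬ p ∣ Nat.card J) {g : H}
    (hg : ∃ k, orderOf g = p ^ k)
    (hfix : ∀ (ρ : J →* ℂˣ) (n : J), ρ ⟨g * n * g⁻¹, hJ.conj_mem n n.2 g⟩ = ρ n) : g = 1 := by
  classical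
  let St : Subgroup H :=
    { carrier := {y | ∀ (ρ : J →* ℂˣ) (n : J), ρ ⟨y * n * y⁻¹, hJ.conj_mem n n.2 y⟩ = ρ n}
      one_mem' := by
        intro ρ n
        congr 1
        apply Subtype.ext
        simp
      mul_mem' := by
        intro a b ha hb ρ n
        have h1 := hb ρ n
        have h2 := ha ρ ⟨b * n * b⁻¹, hJ.conj_mem n n.2 b⟩
        rw [← h1, ← h2]
        congr 1
        apply Subtype.ext
        simp [mul_assoc]
      inv_mem' := by
        intro a ha ρ n
        have h1 := ha ρ ⟨a⁻¹ * n * a, by simpa using hJ.conj_mem n n.2 a⁻¹⟩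
        have e : (⟨a * (a⁻¹ * (n : H) * a) * a⁻¹, hJ.conj_mem _ (by simpa using hJ.conj_mem n n.2 a⁻¹) a⟩ : J) = n := by
          apply Subtype.ext
          simp [mul_assoc]
        rw [e] at h1
        rw [h1]
        congr 1
        apply Subtype.ext
        simp }
  set A : Subgroup H := Subgroup.zpowers g with hAdef
  have hA : A ≤ St := by
    rw [hAdef, Subgroup.zpowers_le]
    exact hfix
  have hcomm : ⁅J, A⁆ ≤ (commutator J).map J.subtype := by
    rw [Subgroup.commutator_le]
    intro n hn a ha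
    have hin : n⁻¹ ∈ J := inv_mem hn
    let c : J := ⟨n, hn⟩ * ⟨a * n⁻¹ * a⁻¹, hJ.conj_mem _ hin a⟩
    have hc : c ∈ commutator J := by
      apply Cfsg.Agent.Lib.Palfy.Class2.mem_commutator_of_forall
      intro μ
      have h1 := hA ha μ ⟨n⁻¹, hin⟩
      show μ (⟨n, hn⟩ * ⟨a * n⁻¹ * a⁻¹, hJ.conj_mem _ hin a⟩) = 1
      rw [map_mul, h1, ← map_mul]
      have : (⟨n, hn⟩ * ⟨n⁻¹, hin⟩ : J) = 1 := by
        apply Subtype.ext
        simp
      rw [this, map_one]
    refine ⟨c, hc, ?_⟩
    show n * (a * n⁻¹ * a⁻¹) = ⁅n, a⁆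
    rw [commutatorElement_def]
    group
  obtain ⟨k, hk⟩ := hg
  have hcop : (Nat.card A).Coprime (Nat.card J) := by
    rw [hAdef, Nat.card_zpowers, hk]
    exact Nat.Coprime.pow_left _ ((Nat.Prime.coprime_iff_not_dvd hp.out).mpr hJp)
  have hsup := Cfsg.Agent.Lib.Coprime.Action.commutator_sup_fixed (K := J) (A := A)
    (by
      have : Subgroup.normalizer (J : Set H) = ⊤ := Subgroup.normalizer_eq_top_iff.mpr hJ
      rw [this]
      exact le_top) hcop
    (Or.inl (by rw [hAdef]; infer_instance))
  set C : Subgroup J := (Subgroup.centralizer (A : Set H)).subgroupOf J with hC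
  have htop : commutator J ⊔ C = ⊤ := by
    apply Subgroup.map_injective J.subtype_injective
    rw [Subgroup.map_sup, ← MonoidHom.range_eq_map, Subgroup.range_subtype, hC,
      Subgroup.subgroupOf_map_subtype]
    apply le_antisymm
    · exact sup_le (Subgroup.map_subtype_le _) inf_le_right
    · conv_lhs => rw [← hsup]
      refine sup_le_sup hcomm ?_
      rw [inf_comm]
  have hCtop : C = ⊤ := eq_top_of_comm_sup htop
  have hJC : J ≤ Subgroup.centralizer (A : Set H) := Subgroup.subgroupOf_eq_top.mp hCtop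
  have hgA : g ∈ A := Subgroup.mem_zpowers g
  have hgcen : g ∈ Subgroup.centralizer (J : Set H) := by
    rw [Subgroup.mem_centralizer_iff]
    intro j hj
    have := Subgroup.mem_centralizer_iff.mp (hJC hj) g hgA
    exact this.symm
  have hgJ : g ∈ J := hcent hgcen
  have hdvd : orderOf g ∣ Nat.card J := by
    have := orderOf_dvd_natCard (⟨g, hgJ⟩ : J)
    rwa [Subgroup.orderOf_mk] at this
  rw [hk] at hdvd
  rcases k with _ | k
  · rw [pow_zero] at hk
    exact orderOf_eq_one_iff.mp hk
  · exact absurd ((dvd_pow_self p (Nat.succ_ne_zero k)).trans hdvd) hJp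

/-- The transported linear character `n ↦ ρ(g⁻¹ n g)`. -/
def twist {J : Subgroup H} (hJ : J.Normal) (g : H) (ρ : J →* ℂˣ) : J →* ℂˣ where
  toFun n := ρ ⟨g⁻¹ * n * g, by simpa using hJ.conj_mem n n.2 g⁻¹⟩
  map_one' := by
    have : (⟨g⁻¹ * ((1 : J) : H) * g, by simpa using hJ.conj_mem 1 (one_mem _) g⁻¹⟩ : J) = 1 := by
      apply Subtype.ext
      simp
    rw [this, map_one]
  map_mul' a b := by
    rw [← map_mul]
    congr 1
    apply Subtype.ext
    simp [mul_assoc]

theorem twist_apply {J : Subgroup H} (hJ : J.Normal) (g : H) (ρ : J →* ℂˣ) (n : J) :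
    twist hJ g ρ n = ρ ⟨g⁻¹ * n * g, by simpa using hJ.conj_mem n n.2 g⁻¹⟩ := rfl

theorem twist_eq_iff {J : Subgroup H} (hJ : J.Normal) (g : H) (ρ : J →* ℂˣ) :
    twist hJ g ρ = ρ ↔ ∀ n : J, ρ ⟨g * n * g⁻¹, hJ.conj_mem n n.2 g⟩ = ρ n := by
  constructor
  · intro h n
    have h1 := congrArg (fun f : J →* ℂˣ => f ⟨g * n * g⁻¹, hJ.conj_mem n n.2 g⟩) h
    simp only [twist_apply] at h1
    rw [← h1]
    congr 1
    apply Subtype.ext
    simp [mul_assoc]
  · intro h
    apply MonoidHom.ext
    intro n
    rw [twist_apply]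
    have h1 := h ⟨g⁻¹ * n * g, by simpa using hJ.conj_mem n n.2 g⁻¹⟩
    rw [← h1]
    congr 1
    apply Subtype.ext
    simp [mul_assoc]

/-- The conjugation action on the dual, restricted to a subgroup. -/
def actOn {J : Subgroup H} (hJ : J.Normal) (X : Subgroup H) : MulDistribMulAction X (J →* ℂˣ) where
  smul g ρ := twist hJ (g : H) ρ
  one_smul ρ := by
    apply MonoidHom.ext
    intro n
    show twist hJ ((1 : X) : H) ρ n = ρ n
    rw [twist_apply]
    congr 1
    apply Subtype.ext
    simp
  mul_smul a b ρ := by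
    apply MonoidHom.ext
    intro n
    show twist hJ ((a * b : X) : H) ρ n = twist hJ (b : H) ρ ⟨(a : H)⁻¹ * n * a, _⟩
    simp only [twist_apply]
    congr 1
    apply Subtype.ext
    simp [mul_assoc]
  smul_mul g ρ σ := by
    apply MonoidHom.ext
    intro n
    rfl
  smul_one g := by
    apply MonoidHom.ext
    intro n
    rfl

/-- Characters trivial on the derived subgroup are linear. -/
theorem deg_one_of_trivial {X : Type u} [Group X] [Finite X] {χ : X → ℂ} (hχ : IsIrrCharacter X χ)
    (htr : ∀ n ∈ commutator X, χ n = χ 1) : χ 1 = 1 := by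
  obtain ⟨ψ, hψ, hψe⟩ := Cfsg.Agent.Lib.Char.Linear.isIrrCharacter_descend (QuotientGroup.mk' (commutator X))
    (QuotientGroup.mk'_surjective _) hχ (by
      intro k hk
      rw [QuotientGroup.ker_mk'] at hk
      exact htr k hk)
  have h3 := Cfsg.Agent.Lib.Char.Linear.isIrr_deg_one_of_comm (G := X ⧸ commutator X) (by
    intro a b
    obtain ⟨a, rfl⟩ := QuotientGroup.mk'_surjective _ a
    obtain ⟨b, rfl⟩ := QuotientGroup.mk'_surjective _ b
    have : a * b * a⁻¹ * b⁻¹ ∈ commutator X :=
      Subgroup.commutator_mem_commutator (Subgroup.mem_top a) (Subgroup.mem_top b)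
    rw [← QuotientGroup.ker_mk' (commutator X), MonoidHom.mem_ker] at this
    simp only [map_mul, map_inv] at this ⊢
    calc _ = (QuotientGroup.mk' _ a * QuotientGroup.mk' _ b * (QuotientGroup.mk' _ a)⁻¹ *
          (QuotientGroup.mk' _ b)⁻¹) * (QuotientGroup.mk' _ b * QuotientGroup.mk' _ a) := by group
      _ = _ := by rw [this, one_mul]) hψ
  have h4 := congrFun hψe 1
  simp only [Function.comp_apply, map_one] at h4
  rw [h4, h3]

/-- `O_p(H) = 1` forces `p ∤ |F(H)|`. -/
theorem not_dvd_card_fitting (hOp : ∀ M : Subgroup H, M.Normal → IsPGroup p M → M = ⊥) :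
    ¬ p ∣ Nat.card (fittingSubgroup H) := by
  classical
  have hnil : Group.IsNilpotent (fittingSubgroup H) := Cfsg.Agent.Lib.Core.Basic.fittingSubgroup_isNilpotent
  obtain ⟨P⟩ : Nonempty (Sylow p (fittingSubgroup H)) := inferInstance
  have hPn : (P : Subgroup (fittingSubgroup H)).Normal :=
    Sylow.normal_of_normalizerCondition (Group.normalizerCondition_of_isNilpotent) P
  have hchar : (P : Subgroup (fittingSubgroup H)).Characteristic := Sylow.characteristic_of_normal P hPn
  have hnorm : ((P : Subgroup (fittingSubgroup H)).map (fittingSubgroup H).subtype).Normal := inferInstance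
  have hpg : IsPGroup p ((P : Subgroup (fittingSubgroup H)).map (fittingSubgroup H).subtype) :=
    P.isPGroup'.map _
  have hbot := hOp _ hnorm hpg
  have hP : (P : Subgroup (fittingSubgroup H)) = ⊥ :=
    (Subgroup.map_eq_bot_iff_of_injective _ (fittingSubgroup H).subtype_injective).mp hbot
  intro hd
  apply P.not_dvd_index
  rw [hP, Subgroup.index_bot]
  exact hd

end Cfsg.Agent.Lib.FourDeg.RegAux
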