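import Cfsg.Agent.Lib.FourDeg.Chain
import Cfsg.Agent.Lib.FourDeg.RegAbs
import Cfsg.Agent.Lib.FourDeg.RegAux
import Cfsg.Agent.Lib.KerFit.Main
import Cfsg.Agent.Lib.Char.DegDvd
import Cfsg.Agent.Lib.Char.CliffordCorr
import Cfsg.Agent.Lib.Char.RelGraph

import Mathlib

set_option autoImplicit false
set_option linter.unusedSectionVars false

namespace Cfsg.Agent.Lib.FourDeg.Reg

open Cfsg Module
open Cfsg.Agent.Lib.Char.Basic Cfsg.Agent.Lib.Char.Ortho Cfsg.Agent.Lib.Char.Complete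
open Cfsg.Agent.Lib.Char.Degree Cfsg.Agent.Lib.Char.Clifford Cfsg.Agent.Lib.Char.Induced
open Cfsg.Agent.Lib.Char.Linear
open Cfsg.Agent.Lib.CharDeg.ThreeDeg.Perfect Cfsg.Agent.Lib.CharDeg.ThreeDeg.Uniform
open Cfsg.Agent.Lib.CharDeg.ThreeDeg.Lift Cfsg.Agent.Lib.CharDeg.ThreeDeg.Sec
open Cfsg.Agent.Lib.CharDeg.ThreeDeg.Cases Cfsg.Agent.Lib.CharDeg.ThreeDeg.Solv
open Cfsg.Agent.Lib.CharDeg.ThreeDeg.Derived
open Cfsg.Agent.Lib.Core.Basic
open scoped commutatorElement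

universe u

/-- Regular orbit: an abelian group acting faithfully and coprimely on an abelian group. -/
theorem exists_regular {Λ P : Type u} [CommGroup Λ] [CommGroup P] [Fintype Λ] [Fintype P]
    [MulDistribMulAction P Λ] (hcop : Nat.Coprime (Nat.card Λ) (Nat.card P))
    (hfaith : ∀ g : P, (∀ x : Λ, g • x = x) → g = 1) :
    ∃ ρ : Λ, ∀ g : P, g • ρ = ρ → g = 1 :=
  RegAbs.exists_regular hcop hfaith

/-- A non-cyclic abelian `p`-group acting faithfully, coprimely has a moved non-regular point. -/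
theorem exists_nonregular {Λ P : Type u} [CommGroup Λ] [CommGroup P] [Fintype Λ] [Fintype P]
    [MulDistribMulAction P Λ] {p : ℕ} [hp : Fact p.Prime] (hP : IsPGroup p P)
    (hcop : Nat.Coprime (Nat.card Λ) (Nat.card P))
    (hfaith : ∀ g : P, (∀ x : Λ, g • x = x) → g = 1) (hnc : ¬ IsCyclic P) :
    ∃ ρ : Λ, (∃ g : P, g ≠ 1 ∧ g • ρ = ρ) ∧ (∃ g : P, g • ρ ≠ ρ) :=
  RegAbs.exists_nonregular hP hcop hfaith hnc

variable {H : Type u} [Group H] [Fintype H] [Group.IsSolvable H]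

/-- Fixing a linear character of the normal subgroup `J` under conjugation. -/
def FixesLin {J : Subgroup H} (hJ : J.Normal) (ρ : J →* ℂˣ) (g : H) : Prop :=
  ∀ n : J, ρ ⟨g * n * g⁻¹, hJ.conj_mem n n.2 g⟩ = ρ n

/-- `exists_regular` for a group `X` that is commutative by a hypothesis. -/
theorem exists_regular_aux {Λ X : Type u} [CommGroup Λ] [Fintype Λ] [Group X] [Fintype X]
    (hc : ∀ a b : X, a * b = b * a) [MulDistribMulAction X Λ]
    (hcop : Nat.Coprime (Nat.card Λ) (Nat.card X))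
    (hfaith : ∀ g : X, (∀ x : Λ, g • x = x) → g = 1) :
    ∃ ρ : Λ, ∀ g : X, g • ρ = ρ → g = 1 := by
  letI : CommGroup X := { (inferInstance : Group X) with mul_comm := hc }
  exact exists_regular hcop hfaith

/-- `exists_nonregular` for a group `X` that is commutative by a hypothesis. -/
theorem exists_nonregular_aux {Λ X : Type u} [CommGroup Λ] [Fintype Λ] [Group X] [Fintype X]
    (hc : ∀ a b : X, a * b = b * a) [MulDistribMulAction X Λ] {p : ℕ} [hp : Fact p.Prime]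
    (hP : IsPGroup p X) (hcop : Nat.Coprime (Nat.card Λ) (Nat.card X))
    (hfaith : ∀ g : X, (∀ x : Λ, g • x = x) → g = 1) (hnc : ¬ IsCyclic X) :
    ∃ ρ : Λ, (∃ g : X, g ≠ 1 ∧ g • ρ = ρ) ∧ (∃ g : X, g • ρ ≠ ρ) := by
  letI : CommGroup X := { (inferInstance : Group X) with mul_comm := hc }
  exact exists_nonregular hP hcop hfaith hnc

/-- The common part of the two bridges. -/
theorem bridge_facts {p : ℕ} [hp : Fact p.Prime]
    (hOp : ∀ M : Subgroup H, M.Normal → IsPGroup p M → M = ⊥)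
    (J : Subgroup H) (hJdef : J = fittingSubgroup H) (hJ : J.Normal)
    (P₀ : Subgroup H) (hP₀ : IsPGroup p P₀) :
    haveI := Cfsg.Agent.Lib.Char.GoingDown.finite_hom (K := J)
    Nat.Coprime (Nat.card (J →* ℂˣ)) (Nat.card P₀) ∧
      ∀ g : P₀, (∀ ρ : J →* ℂˣ, RegAux.twist hJ (g : H) ρ = ρ) → g = 1 := by
  subst hJdef
  haveI := Cfsg.Agent.Lib.Char.GoingDown.finite_hom (K := fittingSubgroup H)
  have hJp := RegAux.not_dvd_card_fitting hOp
  refine ⟨?_, ?_⟩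
  · obtain ⟨n, hn⟩ := IsPGroup.iff_card.mp hP₀
    rw [hn]
    exact Nat.Coprime.pow_right n
      ((Nat.Prime.coprime_iff_not_dvd hp.out).mpr (RegAux.not_dvd_card_hom hJp)).symm
  · intro g hg
    obtain ⟨k, hk⟩ := (IsPGroup.iff_orderOf.mp hP₀) g
    apply Subtype.ext
    refine RegAux.eq_one_of_fix hJ Cfsg.Agent.Lib.Core.Basic.fittingSubgroup_isNilpotent
      Cfsg.Agent.Lib.Solvable.Fitting.centralizer_fittingSubgroup_le hJp (g := (g : H)) ⟨k, ?_⟩ ?_
    · rw [Subgroup.orderOf_coe]; exact hk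
    · intro ρ n
      exact (RegAux.twist_eq_iff hJ (g : H) ρ).mp (hg ρ) n

/-- Bridge for `exists_regular`, on the Fitting subgroup. (Faithful: `g ∈ P₀` trivial on `J/J'` ⟹
centralises `J` (coprime, `J` nilpotent) ⟹ `g ∈ C_H(F(H)) ≤ F(H)`, so `g = 1`.) -/
theorem exists_linear_regular {p : ℕ} [hp : Fact p.Prime]
    (hOp : ∀ M : Subgroup H, M.Normal → IsPGroup p M → M = ⊥)
    (J : Subgroup H) (hJdef : J = fittingSubgroup H) (hJ : J.Normal)
    (P₀ : Subgroup H) (hP₀ : IsPGroup p P₀) (hP₀c : ∀ a ∈ P₀, ∀ b ∈ P₀, a * b = b * a) :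
    ∃ ρ : J →* ℂˣ, ∀ g ∈ P₀, FixesLin hJ ρ g → g = 1 := by
  classical
  haveI := Cfsg.Agent.Lib.Char.GoingDown.finite_hom (K := J)
  letI : Fintype (J →* ℂˣ) := Fintype.ofFinite _
  letI : Fintype P₀ := Fintype.ofFinite _
  letI : MulDistribMulAction P₀ (J →* ℂˣ) := RegAux.actOn hJ P₀
  obtain ⟨hcop, hfa⟩ := bridge_facts hOp J hJdef hJ P₀ hP₀
  obtain ⟨ρ, hρ⟩ := exists_regular_aux (Λ := J →* ℂˣ) (X := P₀)
    (fun a b => Subtype.ext (hP₀c a a.2 b b.2)) hcop (fun g hg => hfa g hg)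
  refine ⟨ρ, fun g hg hfix => ?_⟩
  have := hρ ⟨g, hg⟩ ((RegAux.twist_eq_iff hJ g ρ).mpr hfix)
  exact congrArg Subtype.val this

/-- Bridge for `exists_nonregular`. -/
theorem exists_linear_nonregular {p : ℕ} [hp : Fact p.Prime]
    (hOp : ∀ M : Subgroup H, M.Normal → IsPGroup p M → M = ⊥)
    (J : Subgroup H) (hJdef : J = fittingSubgroup H) (hJ : J.Normal)
    (P₀ : Subgroup H) (hP₀ : IsPGroup p P₀) (hP₀c : ∀ a ∈ P₀, ∀ b ∈ P₀, a * b = b * a)
    (hnc : ¬ IsCyclic P₀) :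
    ∃ ρ : J →* ℂˣ, (∃ g ∈ P₀, g ≠ 1 ∧ FixesLin hJ ρ g) ∧ (∃ g ∈ P₀, ¬ FixesLin hJ ρ g) := by
  classical
  haveI := Cfsg.Agent.Lib.Char.GoingDown.finite_hom (K := J)
  letI : Fintype (J →* ℂˣ) := Fintype.ofFinite _
  letI : Fintype P₀ := Fintype.ofFinite _
  letI : MulDistribMulAction P₀ (J →* ℂˣ) := RegAux.actOn hJ P₀
  obtain ⟨hcop, hfa⟩ := bridge_facts hOp J hJdef hJ P₀ hP₀
  obtain ⟨ρ, ⟨g₁, hg₁, hfix₁⟩, ⟨g₂, hfix₂⟩⟩ := exists_nonregular_aux (Λ := J →* ℂˣ) (X := P₀)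
    (fun a b => Subtype.ext (hP₀c a a.2 b b.2)) hP₀ hcop (fun g hg => hfa g hg) hnc
  refine ⟨ρ, ⟨g₁, g₁.2, ?_, (RegAux.twist_eq_iff hJ g₁ ρ).mp hfix₁⟩, ⟨g₂, g₂.2, ?_⟩⟩
  · intro h
    exact hg₁ (Subtype.ext h)
  · intro h
    exact hfix₂ ((RegAux.twist_eq_iff hJ g₂ ρ).mpr h)

/-- The commutator computation in `J S`. -/
theorem comm_mem_ker {J P₀ T : Subgroup H} (hJ : J.Normal) (hJT : J ≤ T)
    (hP₀c : ∀ a ∈ P₀, ∀ b ∈ P₀, a * b = b * a) (ρ : J →* ℂˣ)
    (hTfix : ∀ t ∈ T, FixesLin hJ ρ t) {a b : H} (ha : a ∈ J ⊔ P₀) (hat : a ∈ T) (hb : b ∈ J ⊔ P₀)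
    (hbt : b ∈ T) : a * b * a⁻¹ * b⁻¹ ∈ (ρ.ker).map J.subtype := by
  haveI := hJ
  obtain ⟨j₁, hj₁, s₁, hs₁, rfl⟩ := Subgroup.mem_sup_of_normal_left.mp ha
  obtain ⟨j₂, hj₂, s₂, hs₂, rfl⟩ := Subgroup.mem_sup_of_normal_left.mp hb
  have hs₁T : s₁ ∈ T := by
    have := mul_mem (inv_mem (hJT hj₁)) hat
    simpa using this
  have hs₂T : s₂ ∈ T := by
    have := mul_mem (inv_mem (hJT hj₂)) hbt
    simpa using this
  have hf₁ := hTfix s₁ hs₁T
  have hf₂ := hTfix s₂ hs₂T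
  have hcc : s₂ * s₁⁻¹ = s₁⁻¹ * s₂ := by
    have := hP₀c s₁ hs₁ s₂ hs₂
    rw [mul_inv_eq_iff_eq_mul, mul_assoc, ← this, inv_mul_cancel_left]
  let j₂' : J := ⟨s₁ * j₂ * s₁⁻¹, hJ.conj_mem j₂ hj₂ s₁⟩
  let j₁' : J := ⟨s₂ * j₁ * s₂⁻¹, hJ.conj_mem j₁ hj₁ s₂⟩
  let n : J := ⟨j₁, hj₁⟩ * j₂' * j₁'⁻¹ * (⟨j₂, hj₂⟩ : J)⁻¹
  have hρn : ρ n = 1 := by
    have e₁ : ρ j₂' = ρ ⟨j₂, hj₂⟩ := hf₁ ⟨j₂, hj₂⟩
    have e₂ : ρ j₁' = ρ ⟨j₁, hj₁⟩ := hf₂ ⟨j₁, hj₁⟩
    show ρ ((⟨j₁, hj₁⟩ : J) * j₂' * j₁'⁻¹ * (⟨j₂, hj₂⟩ : J)⁻¹) = 1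
    rw [map_mul, map_mul, map_mul, map_inv, map_inv, e₁, e₂]
    generalize ρ ⟨j₁, hj₁⟩ = x
    generalize ρ ⟨j₂, hj₂⟩ = y
    rw [mul_assoc x y, mul_comm y x⁻¹, ← mul_assoc x, mul_inv_cancel, one_mul, mul_inv_cancel]
  refine ⟨n, hρn, ?_⟩
  show j₁ * (s₁ * j₂ * s₁⁻¹) * (s₂ * j₁ * s₂⁻¹)⁻¹ * j₂⁻¹ = _
  have e1 : j₁ * (s₁ * j₂ * s₁⁻¹) * (s₂ * j₁ * s₂⁻¹)⁻¹ * j₂⁻¹ =
      j₁ * s₁ * j₂ * (s₁⁻¹ * s₂) * j₁⁻¹ * s₂⁻¹ * j₂⁻¹ := by group
  have e2 : j₁ * s₁ * (j₂ * s₂) * (j₁ * s₁)⁻¹ * (j₂ * s₂)⁻¹ =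
      j₁ * s₁ * j₂ * (s₂ * s₁⁻¹) * j₁⁻¹ * s₂⁻¹ * j₂⁻¹ := by group
  rw [e1, e2, hcc]

theorem card_mul_relIndex_of_le {X : Type*} [Group X] [Finite X] {A B : Subgroup X} (h : A ≤ B) :
    Nat.card A * A.relIndex B = Nat.card B := by
  have h1 := (A.subgroupOf B).card_mul_index
  rwa [Nat.card_congr (Subgroup.subgroupOfEquivOfLe h).toEquiv] at h1

/-- The `p`-part of the degree of any character over the linear `ρ`, when `J` is a normal
`p'`-subgroup, `P₀` an abelian Sylow `p`-subgroup and `J P₀` normal: it is `|P₀ : (P₀)_ρ|`.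
(Let `T = I_H(ρ)`, `E = J P₀`, `E' = T ∩ E`: `ρ` extends to `E'`, all characters of `E'` over `ρ` are
linear (Gallagher, `E'/J` abelian), so `β(1) ∣ |T : E'|` is `p'` for `β ∈ Irr(T | ρ)`,
`χ(1) = |H : T| β(1)`.) -/
theorem val_over_linear {p : ℕ} [hp : Fact p.Prime] (J : Subgroup H) [Fintype J] (hJ : J.Normal)
    (hJp : ¬ p ∣ Nat.card J) (P₀ : Subgroup H) (hP₀ : IsPGroup p P₀) (hP₀s : ¬ p ∣ P₀.index)
    (hP₀c : ∀ a ∈ P₀, ∀ b ∈ P₀, a * b = b * a) (hE : (J ⊔ P₀).Normal) (ρ : J →* ℂˣ)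
    {χ : H → ℂ} (hχ : IsIrrCharacter H χ)
    (hover : classInner (fun n : J => χ n) (fun n : J => ((ρ n : ℂˣ) : ℂ)) ≠ 0)
    (S : Subgroup H) (hS : ∀ g, g ∈ S ↔ g ∈ P₀ ∧ FixesLin hJ ρ g) :
    (charDegree χ).factorization p + (Nat.card S).factorization p =
      (Nat.card P₀).factorization p := by
  classical
  open Cfsg.Agent.Lib.Char.CliffordCorr in
  have hpp : p.Prime := hp.out
  set θ : J → ℂ := fun n => ((ρ n : ℂˣ) : ℂ) with hθdef
  have hθ : IsIrrCharacter J θ := Cfsg.Agent.Lib.Char.Linear.isIrrCharacter_of_hom ρ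
  let T : Subgroup H := Cfsg.Agent.Lib.Char.CliffordCorr.inertia hJ θ
  have hJT : J ≤ T := Cfsg.Agent.Lib.Char.CliffordCorr.le_inertia hJ (isClassFunction_of_isIrrCharacter hθ)
  letI : Fintype T := Fintype.ofFinite _
  have hTmem : ∀ g, g ∈ T ↔ FixesLin hJ ρ g := by
    intro g
    show Cfsg.Agent.Lib.Char.Conj.conjOn hJ g θ = θ ↔ _
    constructor
    · intro h n
      have := congrFun h n
      simp only [Cfsg.Agent.Lib.Char.Conj.conjOn_apply] at this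
      exact Units.ext this
    · intro h
      funext n
      simp only [Cfsg.Agent.Lib.Char.Conj.conjOn_apply, hθdef]
      rw [h n]
  obtain ⟨ψ, hψ, hψχ, hψe⟩ := Cfsg.Agent.Lib.Char.CliffordCorr.exists_irr_inertia_of_lies_over hJ hJT hθ rfl hχ hover
  have hψcon : classInner (Cfsg.Agent.Lib.Char.CliffordCorr.res hJT ψ) θ ≠ 0 := by
    rw [hψe]; exact hover
  have hres := Cfsg.Agent.Lib.Char.CliffordCorr.restrict_eq_smul_of_invariant hJ hJT hθ
    (fun t ht => ht) hψ hψcon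
  set e := classInner (Cfsg.Agent.Lib.Char.CliffordCorr.res hJT ψ) θ with he
  have hψker : ∀ n : J, ρ n = 1 → ψ ⟨n, hJT n.2⟩ = ψ 1 := by
    intro n hn
    have h1 := congrFun hres n
    have h2 := congrFun hres 1
    simp only [Pi.smul_apply, smul_eq_mul, hθdef, map_one, hn, Units.val_one] at h1 h2
    have h1' : ψ ⟨n, hJT n.2⟩ = e * 1 := h1
    have h2' : ψ ⟨((1 : J) : H), hJT (1 : J).2⟩ = e * 1 := h2
    have e1 : (⟨((1 : J) : H), hJT (1 : J).2⟩ : T) = 1 := rfl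
    rw [e1] at h2'
    rw [h1', h2']
  -- the normal subgroup `E ∩ T` of `T`
  set E : Subgroup H := J ⊔ P₀ with hEdef
  let N' : Subgroup T := E.subgroupOf T
  have hN' : N'.Normal := hE.subgroupOf T
  letI : Fintype N' := Fintype.ofFinite _
  have hψc := isCharacter_of_isIrrCharacter hψ
  have hne : (fun n : N' => ψ n) ≠ 0 := by
    intro h
    have h1 := congrFun h 1
    exact irr_one_ne_zero hψ (by simpa using h1)
  obtain ⟨ζ, hζ, hζc⟩ := exists_irr_constituent (isClassFunction_of_isCharacter (isCharacter_restrict N' hψc)) hne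
  have hcomm : ∀ y ∈ commutator N', (fun n : N' => ψ n) y = (fun n : N' => ψ n) 1 := by
    intro y hy
    have hle : commutator N' ≤ ((ρ.ker).map J.subtype).comap (T.subtype.comp N'.subtype) := by
      rw [commutator_def, Subgroup.commutator_le]
      rintro a - b -
      show ((⁅a, b⁆ : N') : T).1 ∈ (ρ.ker).map J.subtype
      have := comm_mem_ker hJ hJT hP₀c ρ (fun t ht => (hTmem t).mp ht) (a := a.1.1) (b := b.1.1)
        a.2 a.1.2 b.2 b.1.2
      simpa [commutatorElement_def] using this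
    obtain ⟨n, hn, hny⟩ := hle hy
    have h1 := hψker n hn
    have e1 : (y : T) = ⟨n, hJT n.2⟩ := Subtype.ext hny.symm
    show ψ (y : T) = ψ ((1 : N') : T)
    rw [e1, h1]
    rfl
  have hζ1 : ζ 1 = 1 := RegAux.deg_one_of_trivial hζ fun n hn =>
    Cfsg.Agent.Lib.KerFit.Main.ker_of_constituent (isCharacter_restrict N' hψc) hζ hζc (hcomm n hn)
  obtain ⟨a, t, hat, hatd⟩ := Cfsg.Agent.Lib.Char.DegDvd.dvd_index_of_constituent hN' hζ hψ hζc
  rw [hζ1, mul_one] at hat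
  have hdψ : charDegree ψ = a * t := by
    have h1 := charDegree_natCast hψc
    rw [hat] at h1
    exact_mod_cast h1
  have hpN' : ¬ p ∣ N'.index := by
    intro hd
    have h1 : N'.index ∣ E.index := Subgroup.relIndex_dvd_index_of_normal E T
    have h2 : E.index ∣ P₀.index := Subgroup.index_dvd_of_le le_sup_right
    exact hP₀s (hd.trans (h1.trans h2))
  have hpψ : ¬ p ∣ charDegree ψ := by
    rw [hdψ]
    exact fun hd => hpN' (hd.trans hatd)
  -- the degree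
  have hχc := isCharacter_of_isIrrCharacter hχ
  have hdχ : charDegree χ = T.index * charDegree ψ := by
    have h1 := charDegree_natCast hχc
    rw [← hψχ, Cfsg.Agent.Lib.Char.Induced.indFun_one, ← charDegree_natCast hψc] at h1
    rw [hψχ] at h1
    exact_mod_cast h1
  have hψ0 : charDegree ψ ≠ 0 := (charDegree_pos hψ).ne'
  have hT0 : T.index ≠ 0 := Subgroup.index_ne_zero_of_finite
  have hv1 : (charDegree χ).factorization p = T.index.factorization p := by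
    rw [hdχ, Nat.factorization_mul hT0 hψ0, Finsupp.add_apply,
      Nat.factorization_eq_zero_of_not_dvd hpψ, add_zero]
  -- the orders
  have hSeq : S = P₀ ⊓ T := by
    ext g
    rw [hS, Subgroup.mem_inf, hTmem]
  have hcardpos : ∀ X : Subgroup H, Nat.card X ≠ 0 := fun X => Nat.card_pos.ne'
  have h1 := T.card_mul_index
  have h2 := P₀.card_mul_index
  have h3 := N'.card_mul_index
  have hf : ∀ a b : ℕ, a ≠ 0 → b ≠ 0 → (a * b).factorization p = a.factorization p + b.factorization p := by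
    intro a b ha hb
    rw [Nat.factorization_mul ha hb, Finsupp.add_apply]
  have hNc : Nat.card N' = Nat.card ↥(J ⊔ S : Subgroup H) := by
    have e : E ⊓ T = J ⊔ S := by
      apply le_antisymm
      · rintro x ⟨hxE, hxT⟩
        haveI := hJ
        obtain ⟨j, hj, s, hs, rfl⟩ := Subgroup.mem_sup_of_normal_left.mp hxE
        have hsT : s ∈ T := by
          have := mul_mem (inv_mem (hJT hj)) hxT
          simpa using this
        have hsS : s ∈ S := by rw [hSeq]; exact ⟨hs, hsT⟩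
        exact mul_mem (Subgroup.mem_sup_left hj) (Subgroup.mem_sup_right hsS)
      · rw [hSeq]
        exact sup_le (le_inf le_sup_left hJT)
          (le_inf (inf_le_left.trans le_sup_right) inf_le_right)
    have e2 : N' = (E ⊓ T).subgroupOf T := (Subgroup.inf_subgroupOf_right E T).symm
    rw [← e, e2]
    exact Nat.card_congr (Subgroup.subgroupOfEquivOfLe inf_le_right).toEquiv
  have hcopJS : Nat.Coprime (Nat.card J) (Nat.card S) := by
    have hSP : IsPGroup p S := hP₀.to_le (by rw [hSeq]; exact inf_le_left)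
    obtain ⟨n, hn⟩ := IsPGroup.iff_card.mp hSP
    rw [hn]
    exact Nat.Coprime.pow_right n ((Nat.Prime.coprime_iff_not_dvd hpp).mpr hJp).symm
  have hJS : Nat.card ↥(J ⊔ S : Subgroup H) = Nat.card J * Nat.card S := by
    haveI := hJ
    have h4 := card_mul_relIndex_of_le (A := J) (B := J ⊔ S) le_sup_left
    rw [Subgroup.relIndex_sup_left] at h4
    have h5 : J.subgroupOf S = ⊥ :=
      Subgroup.subgroupOf_eq_bot.mpr (Subgroup.disjoint_of_coprime_natCard hcopJS)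
    have h6 : J.relIndex S = Nat.card S := by
      rw [Subgroup.relIndex, h5, Subgroup.index_bot]
    rw [h6] at h4
    exact h4.symm
  have hf1 : (Nat.card H).factorization p = (Nat.card T).factorization p + T.index.factorization p := by
    rw [← h1, hf _ _ (hcardpos T) hT0]
  have hf2 : (Nat.card H).factorization p = (Nat.card P₀).factorization p := by
    rw [← h2, hf _ _ (hcardpos P₀) Subgroup.index_ne_zero_of_finite,
      Nat.factorization_eq_zero_of_not_dvd hP₀s, add_zero]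
  have hf3 : (Nat.card T).factorization p = (Nat.card N').factorization p := by
    rw [← h3, hf _ _ Nat.card_pos.ne' Subgroup.index_ne_zero_of_finite,
      Nat.factorization_eq_zero_of_not_dvd hpN', add_zero]
  have hf4 : (Nat.card N').factorization p = (Nat.card S).factorization p := by
    rw [hNc, hJS, hf _ _ (hcardpos J) (hcardpos S), Nat.factorization_eq_zero_of_not_dvd hJp, zero_add]
  rw [hv1]
  omega

/-- Some irreducible character of `H` lies over the linear character `ρ` of `J`. -/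
theorem exists_over_linear (J : Subgroup H) [Fintype J] (ρ : J →* ℂˣ) :
    ∃ χ : H → ℂ, IsIrrCharacter H χ ∧
      classInner (fun n : J => χ n) (fun n : J => ((ρ n : ℂˣ) : ℂ)) ≠ 0 :=
  Cfsg.Agent.Lib.Char.RelGraph.exists_over (G := H) (Cfsg.Agent.Lib.Char.Linear.isIrrCharacter_of_hom ρ)

end Cfsg.Agent.Lib.FourDeg.Reg
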