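import Cfsg.Agent.Lib.FourDeg.Chain
import Cfsg.Agent.Lib.CharDeep.ThompsonDeg
import Cfsg.Agent.Lib.CharDeep.LinearChar

import Mathlib

set_option autoImplicit false
set_option linter.unusedSectionVars false

namespace Cfsg.Agent.Lib.FourDeg.TwoStruct

open Cfsg Module
open Cfsg.Agent.Lib.Char.Basic Cfsg.Agent.Lib.Char.Ortho Cfsg.Agent.Lib.Char.Complete
open Cfsg.Agent.Lib.Char.Degree Cfsg.Agent.Lib.Char.Clifford Cfsg.Agent.Lib.Char.Induced
open Cfsg.Agent.Lib.Char.Linear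
open Cfsg.Agent.Lib.Char.Conj Cfsg.Agent.Lib.Char.IndRep Cfsg.Agent.Lib.Char.CliffordCorr
open Cfsg.Agent.Lib.CharDeg.ThreeDeg.Perfect Cfsg.Agent.Lib.CharDeg.ThreeDeg.Uniform
open Cfsg.Agent.Lib.CharDeg.ThreeDeg.Lift Cfsg.Agent.Lib.CharDeg.ThreeDeg.Sec
open Cfsg.Agent.Lib.CharDeg.ThreeDeg.Cases Cfsg.Agent.Lib.CharDeg.ThreeDeg.Solv
open Cfsg.Agent.Lib.CharDeg.ThreeDeg.Derived
open Cfsg.Agent.Lib.Core.Basic

universe u

variable {X : Type u} [Group X] [Fintype X]

namespace TwoStructAux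

/-- Abstract core: commuting endomorphisms of a finite abelian group, with images of `α - 1`, `β - 1` both
equal to `D`; `α` of order prime to `s`, `β` of `s`-power order. Then `s ∤ |D|`. -/
theorem no_prime_of_commuting {B : Type*} [CommGroup B] [Finite B] {s : ℕ} (hs : s.Prime) (α β : B →* B)
    (hcomm : ∀ b, α (β b) = β (α b)) (D : Subgroup B)
    (hδD : ∀ b, α b * b⁻¹ ∈ D) (hγD : ∀ b, β b * b⁻¹ ∈ D)
    (hδs : ∀ v ∈ D, ∃ a, α a * a⁻¹ = v) (hγs : ∀ v ∈ D, ∃ a, β a * a⁻¹ = v)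
    {m j : ℕ} (hm : ∀ b, (⇑α)^[m] b = b) (hmc : Nat.Coprime m s) (hj : ∀ b, (⇑β)^[s ^ j] b = b) :
    ¬ s ∣ Nat.card D := by
  classical
  intro hdvd
  haveI : Fact s.Prime := ⟨hs⟩
  -- the `s`-part `E` of `D`
  set d := Nat.card D with hd
  have hd0 : d ≠ 0 := Nat.card_pos.ne'
  set K := d.factorization s with hK
  set n := ordCompl[s] d with hn
  have hdn : s ^ K * n = d := Nat.ordProj_mul_ordCompl_eq_self d s
  have hnc : Nat.Coprime (s ^ K) n := Nat.Coprime.pow_left _ ((Nat.coprime_ordCompl hs hd0))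
  have hK1 : 1 ≤ K := hs.factorization_pos_of_dvd hd0 hdvd
  let E : Subgroup B :=
    { carrier := {v | v ∈ D ∧ v ^ (s ^ K) = 1}
      one_mem' := ⟨one_mem _, one_pow _⟩
      mul_mem' := fun {a b} ha hb => ⟨mul_mem ha.1 hb.1, by rw [mul_pow, ha.2, hb.2, one_mul]⟩
      inv_mem' := fun {a} ha => ⟨inv_mem ha.1, by rw [inv_pow, ha.2, inv_one]⟩ }
  have hEmem : ∀ v, v ∈ E ↔ v ∈ D ∧ v ^ (s ^ K) = 1 := fun v => Iff.rfl
  -- a power `e` projecting to `E`
  obtain ⟨e, he1, he2⟩ : ∃ e : ℕ, n ∣ e ∧ e % (s ^ K) = 1 % (s ^ K) := by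
    have hlt : 1 < s ^ K := Nat.one_lt_pow (by omega) hs.one_lt
    obtain ⟨N, -, hN⟩ := Nat.exists_mul_mod_eq_one_of_coprime (k := s ^ K) (n := n) hnc.symm hlt
    refine ⟨n * N, dvd_mul_right _ _, ?_⟩
    rw [hN, Nat.mod_eq_of_lt hlt]
  have hDpow : ∀ v ∈ D, v ^ d = 1 := by
    intro v hv
    have h2 : (⟨v, hv⟩ : D) ^ d = 1 := pow_card_eq_one'
    have h3 := congrArg Subtype.val h2
    rw [Subgroup.coe_pow] at h3
    exact h3
  have hEe1 : ∀ v ∈ D, v ^ e ∈ E := by
    intro v hv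
    refine ⟨pow_mem hv e, ?_⟩
    obtain ⟨c, rfl⟩ := he1
    rw [← pow_mul, show n * c * s ^ K = (s ^ K * n) * c by ring, hdn, pow_mul, hDpow v hv, one_pow]
  have hEe2 : ∀ v ∈ E, v ^ e = v := by
    intro v hv
    have hlt : 1 < s ^ K := Nat.one_lt_pow (by omega) hs.one_lt
    rw [← Nat.mod_add_div e (s ^ K), he2, pow_add, pow_mul, hv.2, one_pow, mul_one,
      Nat.mod_eq_of_lt hlt, pow_one]
  -- `E` is nontrivial
  obtain ⟨w, hw⟩ := exists_prime_orderOf_dvd_card' (G := D) s hdvd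
  have hwE : (w : B) ∈ E := by
    refine ⟨w.2, ?_⟩
    have h1 : (w : B) ^ s = 1 := by
      have := pow_orderOf_eq_one w
      rw [hw] at this
      simpa using congrArg Subtype.val this
    obtain ⟨K', hK'⟩ : ∃ K', K = K' + 1 := ⟨K - 1, by omega⟩
    rw [hK', pow_succ', pow_mul, h1, one_pow]
  have hw1 : (w : B) ≠ 1 := by
    intro h
    have h2 : w = 1 := Subtype.ext h
    rw [h2, orderOf_one] at hw
    exact hs.one_lt.ne hw
  -- stability
  have hαD : ∀ v ∈ D, α v ∈ D := by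
    intro v hv
    have := mul_mem (hδD v) hv
    simpa using this
  have hβD : ∀ v ∈ D, β v ∈ D := by
    intro v hv
    have := mul_mem (hγD v) hv
    simpa using this
  have hαE : ∀ v ∈ E, α v ∈ E := fun v hv =>
    ⟨hαD v hv.1, by rw [← map_pow, hv.2, map_one]⟩
  have hβE : ∀ v ∈ E, β v ∈ E := fun v hv =>
    ⟨hβD v hv.1, by rw [← map_pow, hv.2, map_one]⟩
  have hδE : ∀ v ∈ E, α v * v⁻¹ ∈ E := fun v hv => mul_mem (hαE v hv) (inv_mem hv)
  have hγE : ∀ v ∈ E, β v * v⁻¹ ∈ E := fun v hv => mul_mem (hβE v hv) (inv_mem hv)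
  -- `α - 1` is injective on `E`
  let δE : E → E := fun v => ⟨α v * (v : B)⁻¹, hδE v v.2⟩
  have hδinj : Function.Injective δE := by
    intro x y hxy
    have h0 : α x * (x : B)⁻¹ = α y * (y : B)⁻¹ := congrArg Subtype.val hxy
    -- `v = x y⁻¹` is fixed
    set v : B := (x : B) * (y : B)⁻¹ with hv
    have hvE : v ∈ E := mul_mem x.2 (inv_mem y.2)
    have hfix : α v = v := by
      simp only [hv, map_mul, map_inv]
      have h5 : α x = α y * (y : B)⁻¹ * x := by rw [← h0]; group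
      rw [h5]
      calc α y * (y : B)⁻¹ * x * (α y)⁻¹ = (α y * (α y)⁻¹) * ((x : B) * (y : B)⁻¹) := by
            simp only [mul_comm, mul_left_comm, mul_assoc]
        _ = (x : B) * (y : B)⁻¹ := by rw [mul_inv_cancel, one_mul]
    obtain ⟨a, ha⟩ := hδs v hvE.1
    have hαa : α a = v * a := by rw [← ha]; group
    have hit : ∀ i : ℕ, (⇑α)^[i] a = v ^ i * a := by
      intro i
      induction i with
      | zero => simp
      | succ i ih =>
        rw [Function.iterate_succ_apply', ih, map_mul, map_pow, hfix, hαa, pow_succ]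
        simp only [mul_assoc]
    have h1 : v ^ m = 1 := by
      have := hit m
      rw [hm a] at this
      exact (mul_eq_right.mp this.symm)
    have h2 : v ^ (s ^ K) = 1 := hvE.2
    have h3 : v = 1 := by
      have hg : Nat.Coprime m (s ^ K) := Nat.Coprime.pow_right _ hmc
      have := pow_gcd_eq_one.mpr ⟨h1, h2⟩
      rwa [hg.gcd_eq_one, pow_one] at this
    apply Subtype.ext
    rw [hv] at h3
    exact mul_inv_eq_one.mp h3
  have hδsurj : Function.Surjective δE := Finite.injective_iff_surjective.mp hδinj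
  -- `β - 1` is surjective on `E`
  let γE : E → E := fun v => ⟨β v * (v : B)⁻¹, hγE v v.2⟩
  have hγsurj : Function.Surjective γE := by
    intro x
    obtain ⟨x', hx'⟩ := hδsurj x
    obtain ⟨a, ha⟩ := hγs x' x'.2.1
    have h1 : (x : B) = β (α a * a⁻¹) * (α a * a⁻¹)⁻¹ := by
      have h2 : (x : B) = α x' * (x' : B)⁻¹ := (congrArg Subtype.val hx').symm
      rw [h2, ← ha]
      simp only [map_mul, map_inv, hcomm, mul_inv_rev, inv_inv]
      simp only [mul_comm, mul_left_comm, mul_assoc]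
    have hw' : α a * a⁻¹ ∈ D := hδD a
    refine ⟨⟨(α a * a⁻¹) ^ e, hEe1 _ hw'⟩, ?_⟩
    apply Subtype.ext
    show β ((α a * a⁻¹) ^ e) * ((α a * a⁻¹) ^ e)⁻¹ = (x : B)
    rw [map_pow, ← inv_pow, ← mul_pow, ← h1, hEe2 _ x.2]
  have hγinj : Function.Injective γE := Finite.injective_iff_surjective.mpr hγsurj
  -- fixed point of `β` on `E`
  have hβinj : Function.Injective (fun v : E => (⟨β v, hβE v v.2⟩ : E)) := by
    intro x y hxy
    have h0 : β x = β y := congrArg Subtype.val hxy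
    have : (⇑β)^[s ^ j] x = (⇑β)^[s ^ j] y := by
      obtain ⟨j', hj'⟩ : ∃ j', s ^ j = j' + 1 := ⟨s ^ j - 1, by have := pow_pos hs.pos j; omega⟩
      rw [hj', Function.iterate_succ_apply, Function.iterate_succ_apply, h0]
    rw [hj, hj] at this
    exact Subtype.ext this
  let βE : Equiv.Perm E := Equiv.ofBijective _ (Finite.injective_iff_bijective.mp hβinj)
  have hβEapp : ∀ v : E, ((βE v : E) : B) = β v := fun v => rfl
  have hβpow : βE ^ (s ^ j) = 1 := by
    have hit : ∀ (i : ℕ) (v : E), (((βE ^ i) v : E) : B) = (⇑β)^[i] v := by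
      intro i v
      induction i with
      | zero => rfl
      | succ i ih =>
        rw [pow_succ', Equiv.Perm.mul_apply, hβEapp, ih, Function.iterate_succ_apply']
    ext v
    rw [hit, hj]
    rfl
  have hP : IsPGroup s (Subgroup.zpowers βE) := by
    rw [IsPGroup.iff_card]
    have h1 : Nat.card (Subgroup.zpowers βE) = orderOf βE := Nat.card_zpowers βE
    have h2 : orderOf βE ∣ s ^ j := orderOf_dvd_of_pow_eq_one hβpow
    obtain ⟨i, -, hi⟩ := (Nat.dvd_prime_pow hs).mp h2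
    exact ⟨i, by rw [h1, hi]⟩
  -- `s ∣ |E|`
  have hsE : s ∣ Nat.card E := by
    have h1 : orderOf (⟨w, hwE⟩ : E) = s := by
      rw [Subgroup.orderOf_mk, Subgroup.orderOf_coe, hw]
    have h2 := orderOf_dvd_natCard (⟨w, hwE⟩ : E)
    rwa [h1] at h2
  have h1fix : (1 : E) ∈ MulAction.fixedPoints (Subgroup.zpowers βE) E := by
    rintro ⟨g, i, rfl⟩
    show (βE ^ i) (1 : E) = 1
    have h1 : βE (1 : E) = 1 := by
      apply Subtype.ext
      show β ((1 : E) : B) = ((1 : E) : B)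
      simp
    have h2 : ∀ (i : ℕ), (βE ^ i) (1 : E) = 1 := by
      intro i
      induction i with
      | zero => rfl
      | succ i ih => rw [pow_succ', Equiv.Perm.mul_apply, ih, h1]
    have h3 : (βE ^ i) (1 : E) = 1 := by
      cases i with
      | ofNat i => simpa using h2 i
      | negSucc i =>
        rw [zpow_negSucc, Equiv.Perm.inv_eq_iff_eq]
        exact (by simpa using (h2 (i + 1)).symm)
    exact h3
  obtain ⟨b, hbfix, hb⟩ := hP.exists_fixed_point_of_prime_dvd_card_of_fixed_point E hsE h1fix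
  have hbb : βE b = b := hbfix ⟨βE, Subgroup.mem_zpowers βE⟩
  have hγb : γE b = γE 1 := by
    apply Subtype.ext
    show β b * (b : B)⁻¹ = β ((1 : E) : B) * ((1 : E) : B)⁻¹
    have : β b = (b : B) := congrArg Subtype.val hbb
    rw [this]
    simp
  exact hb (hγinj hγb).symm

/-- A lift outside `A` of prime power order. -/
theorem exists_prime_power_element {A : Subgroup X} (hAn : A.Normal) {t : ℕ} (ht : t.Prime)
    (hdvd : t ∣ A.index) : ∃ y : X, y ∉ A ∧ ∃ k : ℕ, y ^ (t ^ k) = 1 := by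
  classical
  haveI : Fact t.Prime := ⟨ht⟩
  have hc : t ∣ Nat.card (X ⧸ A) := hdvd
  obtain ⟨z, hz⟩ := exists_prime_orderOf_dvd_card' (G := X ⧸ A) t hc
  obtain ⟨x, rfl⟩ := QuotientGroup.mk_surjective z
  set o := orderOf x with ho
  have ho0 : o ≠ 0 := (orderOf_pos x).ne'
  refine ⟨x ^ (ordCompl[t] o), ?_, o.factorization t, ?_⟩
  · intro hmem
    have h1 : ((x : X ⧸ A)) ^ (ordCompl[t] o) = 1 := by
      rw [← QuotientGroup.mk_pow]
      exact (QuotientGroup.eq_one_iff _).mpr hmem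
    have h2 := orderOf_dvd_of_pow_eq_one h1
    rw [hz] at h2
    exact (Nat.not_dvd_ordCompl ht ho0) h2
  · rw [← pow_mul, mul_comm, Nat.ordProj_mul_ordCompl_eq_self]
    exact pow_orderOf_eq_one x

end TwoStructAux

open TwoStructAux

/-- Fact (F′): `a ↦ [y, a]` maps `A` onto `X′` for `y ∉ A`. -/
theorem surj_commutator {a : ℕ}
    (hcd : ∀ χ : IrrCharacter X, charDegree (χ : X → ℂ) = 1 ∨ charDegree (χ : X → ℂ) = a)
    (A : Subgroup X) (hAn : A.Normal) (hAc : ∀ a ∈ A, ∀ b ∈ A, a * b = b * a) (hAi : A.index = a)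
    (hcomm : commutator X ≤ A) {y : X} (hy : y ∉ A) {v : X} (hv : v ∈ commutator X) :
    ∃ b ∈ A, y * b * y⁻¹ * b⁻¹ = v := by
  classical
  letI : Fintype A := Fintype.ofFinite _
  by_contra hno
  push_neg at hno
  have hvA : v ∈ A := hcomm hv
  have hXc : ∀ x y : A, x * y = y * x := fun x y => Subtype.ext (hAc x x.2 y y.2)
  have hφmem : ∀ b : A, y * (b : X) * y⁻¹ * (b : X)⁻¹ ∈ A := fun b =>
    mul_mem (hAn.conj_mem b b.2 y) (inv_mem b.2)
  let φ : A →* A :=
    { toFun := fun b => ⟨y * (b : X) * y⁻¹ * (b : X)⁻¹, hφmem b⟩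
      map_one' := by
        apply Subtype.ext
        simp
      map_mul' := by
        intro b c
        apply Subtype.ext
        show y * ((b : X) * c) * y⁻¹ * ((b : X) * c)⁻¹ =
          (y * (b : X) * y⁻¹ * (b : X)⁻¹) * (y * (c : X) * y⁻¹ * (c : X)⁻¹)
        have h1 : ((y * (c : X) * y⁻¹) : X) * (b : X)⁻¹ = (b : X)⁻¹ * (y * (c : X) * y⁻¹) := by
          apply hAc _ (hAn.conj_mem c c.2 y) _ (inv_mem b.2)
        have h2 : (y * (b : X) * y⁻¹ * (b : X)⁻¹) * (y * (c : X) * y⁻¹ * (c : X)⁻¹)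
            = y * (b : X) * y⁻¹ * ((b : X)⁻¹ * (y * (c : X) * y⁻¹)) * (c : X)⁻¹ := by group
        rw [h2, ← h1]
        have h3 : (c : X)⁻¹ * (b : X)⁻¹ = (b : X)⁻¹ * (c : X)⁻¹ := by
          apply hAc _ (inv_mem c.2) _ (inv_mem b.2)
        rw [mul_inv_rev, h3]
        group }
  obtain ⟨lam, hlam0, hlam⟩ := Cfsg.Agent.Lib.Char.TwoDeg.PGroup.exists_hom_sep hXc φ.range ⟨v, hvA⟩ (by
    rintro ⟨b, hb⟩
    exact hno b b.2 (congrArg Subtype.val hb))
  let ν : A →* ℂˣ := lam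
  have hνinv : ∀ b : A, ν ⟨y * b * y⁻¹, hAn.conj_mem b b.2 y⟩ = ν b := by
    intro b
    have h1 : (⟨y * b * y⁻¹, hAn.conj_mem b b.2 y⟩ : A) = φ b * b := by
      apply Subtype.ext
      show y * (b : X) * y⁻¹ = (y * (b : X) * y⁻¹ * (b : X)⁻¹) * b
      group
    rw [h1, map_mul, hlam0 _ ⟨b, rfl⟩, one_mul]
  have hνv1 : ν ⟨v, hvA⟩ ≠ 1 := hlam
  let νf : A → ℂ := fun y => ((ν y : ℂˣ) : ℂ)
  have hνc : IsCharacter A νf := Cfsg.Agent.Lib.CharDeep.LinearChar.isCharacter_of_hom ν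
  have hνf1 : νf 1 = 1 := by simp [νf]
  have hνirr : IsIrrCharacter A νf := isIrrCharacter_of_deg_one hνc hνf1
  have hψc : IsCharacter X (indFun A νf) := isCharacter_indFun A hνc
  have hψ1 : indFun A νf 1 = (a : ℂ) := by
    rw [indFun_one, hAi, hνf1, mul_one]
  have hψne : indFun A νf ≠ 0 := by
    intro h0
    have h1 := congrFun h0 1
    rw [hψ1] at h1
    have h2 : a ≠ 0 := by
      rw [← hAi]
      exact Subgroup.index_ne_zero_of_finite
    have h3 : (a : ℂ) = 0 := h1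
    exact h2 (by exact_mod_cast h3)
  obtain ⟨ζ, hζ, hζc⟩ := exists_irr_constituent (isClassFunction_of_isCharacter hψc) hψne
  have hζc' : classInner (indFun A νf) ζ ≠ 0 := hζc
  have hζcA : classInner νf (fun y : A => ζ y) ≠ 0 := by
    rw [← classInner_indFun_left A _ _ (isClassFunction_of_isIrrCharacter hζ)]
    exact hζc'
  have hζdeg : charDegree ζ = a := by
    rcases hcd ⟨ζ, hζ⟩ with h1 | h1
    · exfalso
      simp only at h1
      have h2 := charDegree_natCast (isCharacter_of_isIrrCharacter hζ)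
      rw [h1] at h2
      have h3 : ζ 1 = 1 := by rw [← h2]; simp
      have hres : IsCharacter A (fun y : A => ζ y) :=
        isCharacter_restrict A (isCharacter_of_isIrrCharacter hζ)
      have hresirr : IsIrrCharacter A (fun y : A => ζ y) :=
        isIrrCharacter_of_deg_one hres (by simpa using h3)
      have heq : νf = fun y : A => ζ y := by
        by_contra hne
        exact hζcA (classInner_eq_zero_of_isIrr_of_ne hνirr hresirr hne)
      have h4 := congrFun heq ⟨v, hvA⟩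
      have h5 : ζ v = 1 := linear_eq_one_of_mem_commutator (isCharacter_of_isIrrCharacter hζ) h3 hv
      have h6 : νf ⟨v, hvA⟩ = 1 := by rw [h4]; exact h5
      apply hνv1
      exact Units.val_injective h6
    · exact h1
  have hζ1 : ζ 1 = (a : ℂ) := by
    rw [← charDegree_natCast (isCharacter_of_isIrrCharacter hζ), hζdeg]
  have heq := eq_of_constituent_of_deg_le hψc hζ hζc hψ1 hζ1 le_rfl
  have hψirr : IsIrrCharacter X (indFun A νf) := by rw [heq]; exact hζ
  have hcon1 : classInner (indFun A νf) (indFun A νf) = 1 := classInner_self_of_isIrr hψirr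
  have hcon2 : classInner νf (fun y : A => indFun A νf y) = 1 := by
    rw [← classInner_indFun_left A _ _ (isClassFunction_of_isCharacter hψc)]
    exact hcon1
  have hcon3 : classInner (fun y : A => indFun A νf y) νf = 1 := by
    rw [← classInner_conj, hcon2]
    simp
  have hdeg := deg_eq_of_constituent hAn hψirr hνirr (by rw [hcon3]; exact one_ne_zero)
  rw [hcon3, hνf1, hψ1, one_mul, mul_one] at hdeg
  have hidx : (inertia hAn νf).index = A.index := by
    rw [hAi]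
    exact_mod_cast hdeg.symm
  have hAT : A = inertia hAn νf :=
    Cfsg.Agent.Lib.Char.TwoDeg.CaseA.eq_of_le_of_index_eq
      (le_inertia hAn (isClassFunction_of_isIrrCharacter hνirr)) hidx.symm
  have hsT : y ∈ inertia hAn νf := by
    rw [mem_inertia]
    funext b
    rw [conjOn_apply]
    simp only [νf]
    rw [hνinv b]
  rw [← hAT] at hsT
  exact hy hsT

/-- Core (*): distinct primes dividing `u` do not both divide... `s ∤ |X′|`. -/
theorem core_star {u : ℕ} (hu : u ≠ 1)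
    (hcd : ∀ χ : IrrCharacter X, charDegree (χ : X → ℂ) = 1 ∨ charDegree (χ : X → ℂ) = u)
    (hex : ∃ χ : IrrCharacter X, charDegree (χ : X → ℂ) = u)
    {s t : ℕ} (hs : s.Prime) (ht : t.Prime) (hst : s ≠ t) (hsu : s ∣ u) (htu : t ∣ u) :
    ¬ s ∣ Nat.card (commutator X) := by
  classical
  rcases Cfsg.Agent.Lib.Char.TwoDeg.Main.main hcd hex hu with ⟨A, hAn, hAc, hAi, hcomm⟩ | ⟨r, e, hr, hue, -⟩
  swap
  · exfalso
    have h1 : s = r := (Nat.prime_dvd_prime_iff_eq hs hr).1 (hs.dvd_of_dvd_pow (hue ▸ hsu))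
    have h2 : t = r := (Nat.prime_dvd_prime_iff_eq ht hr).1 (ht.dvd_of_dvd_pow (hue ▸ htu))
    exact hst (h1.trans h2.symm)
  obtain ⟨y₁, hy₁, k₁, hk₁⟩ := exists_prime_power_element hAn ht (hAi ▸ htu)
  obtain ⟨y₂, hy₂, k₂, hk₂⟩ := exists_prime_power_element hAn hs (hAi ▸ hsu)
  letI : CommGroup A :=
    { (inferInstance : Group A) with mul_comm := fun a b => Subtype.ext (hAc a a.2 b b.2) }
  let conjHom : X → (A →* A) := fun y =>
    { toFun := fun b => ⟨y * b * y⁻¹, hAn.conj_mem b b.2 y⟩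
      map_one' := by
        apply Subtype.ext
        show y * 1 * y⁻¹ = 1
        simp
      map_mul' := by
        intro b c
        apply Subtype.ext
        show y * ((b : X) * c) * y⁻¹ = (y * (b : X) * y⁻¹) * (y * (c : X) * y⁻¹)
        group }
  have hconj : ∀ (y : X) (b : A), ((conjHom y b : A) : X) = y * b * y⁻¹ := fun y b => rfl
  have hit : ∀ (y : X) (i : ℕ) (b : A), (((⇑(conjHom y))^[i] b : A) : X) = y ^ i * b * (y ^ i)⁻¹ := by
    intro y i b
    induction i with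
    | zero => simp
    | succ i ih =>
      rw [Function.iterate_succ_apply', hconj, ih, pow_succ']
      group
  have hidem : ∀ (y : X) (i : ℕ), y ^ i = 1 → ∀ b : A, (⇑(conjHom y))^[i] b = b := by
    intro y i hi b
    apply Subtype.ext
    rw [hit, hi]
    simp
  have hcmem : ∀ x y : X, x * y * x⁻¹ * y⁻¹ ∈ commutator X := fun x y =>
    Subgroup.commutator_mem_commutator (Subgroup.mem_top x) (Subgroup.mem_top y)
  let D : Subgroup A := (commutator X).subgroupOf A
  have hDmem : ∀ v : A, v ∈ D ↔ (v : X) ∈ commutator X := fun v => Subgroup.mem_subgroupOf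
  have hδ : ∀ (y : X) (b : A), conjHom y b * b⁻¹ ∈ D := by
    intro y b
    rw [hDmem]
    exact hcmem y b
  have hsurj : ∀ y : X, y ∉ A → ∀ v ∈ D, ∃ a : A, conjHom y a * a⁻¹ = v := by
    intro y hy v hv
    obtain ⟨b, hb, hbv⟩ := surj_commutator hcd A hAn hAc hAi hcomm hy ((hDmem v).1 hv)
    exact ⟨⟨b, hb⟩, Subtype.ext hbv⟩
  have hcom : ∀ b : A, conjHom y₁ (conjHom y₂ b) = conjHom y₂ (conjHom y₁ b) := by
    intro b
    apply Subtype.ext
    show y₁ * (y₂ * (b : X) * y₂⁻¹) * y₁⁻¹ = y₂ * (y₁ * (b : X) * y₁⁻¹) * y₂⁻¹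
    have hz : y₁ * y₂ * y₁⁻¹ * y₂⁻¹ ∈ A := hcomm (hcmem y₁ y₂)
    have hw : y₂ * (y₁ * (b : X) * y₁⁻¹) * y₂⁻¹ ∈ A :=
      hAn.conj_mem _ (hAn.conj_mem b b.2 y₁) y₂
    have h1 := hAc _ hz _ hw
    have h2 : y₁ * (y₂ * (b : X) * y₂⁻¹) * y₁⁻¹ =
        (y₁ * y₂ * y₁⁻¹ * y₂⁻¹) * (y₂ * (y₁ * (b : X) * y₁⁻¹) * y₂⁻¹) * (y₁ * y₂ * y₁⁻¹ * y₂⁻¹)⁻¹ := by
      group
    rw [h2, h1]
    group
  have hcop : Nat.Coprime (t ^ k₁) s :=
    Nat.Coprime.pow_left _ ((Nat.coprime_primes ht hs).2 hst.symm)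
  have hmain := no_prime_of_commuting hs (conjHom y₁) (conjHom y₂) hcom D (hδ y₁) (hδ y₂)
    (hsurj y₁ hy₁) (hsurj y₂ hy₂) (hidem y₁ _ hk₁) hcop (hidem y₂ _ hk₂)
  have hcard : Nat.card D = Nat.card (commutator X) :=
    Nat.card_congr (Subgroup.subgroupOfEquivOfLe hcomm).toEquiv
  rwa [hcard] at hmain

/-- If `p ∤ |X′|` then `X` has a normal `p`-complement. -/
theorem exists_complement_of_not_dvd {p : ℕ} (hp : p.Prime) (h : ¬ p ∣ Nat.card (commutator X)) :
    ∃ M : Subgroup X, M.Normal ∧ ¬ p ∣ Nat.card M ∧ ∃ k, M.index = p ^ k := by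
  classical
  haveI : Fact p.Prime := ⟨hp⟩
  set c := Nat.card X with hc
  have hc0 : c ≠ 0 := Nat.card_pos.ne'
  set n := ordCompl[p] c with hn
  set K := c.factorization p with hK
  have hcn : p ^ K * n = c := Nat.ordProj_mul_ordCompl_eq_self c p
  have hpn : ¬ p ∣ n := Nat.not_dvd_ordCompl hp hc0
  let f : X →* Abelianization X := (powMonoidHom n).comp Abelianization.of
  have hf : ∀ x, f x = Abelianization.of x ^ n := fun x => rfl
  refine ⟨f.ker, inferInstance, ?_, ?_⟩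
  · intro hd
    obtain ⟨x, hx⟩ := exists_prime_orderOf_dvd_card' (G := f.ker) p hd
    have hx' : orderOf (x : X) = p := by rw [Subgroup.orderOf_coe, hx]
    have h1 : (x : X) ^ n ∈ commutator X := by
      rw [← Abelianization.ker_of, MonoidHom.mem_ker, map_pow]
      exact x.2
    have h2 : orderOf ((x : X) ^ n) = p := by
      apply orderOf_eq_prime
      · rw [← pow_mul, mul_comm, pow_mul, ← hx', pow_orderOf_eq_one, one_pow]
      · intro h3
        have := orderOf_dvd_of_pow_eq_one h3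
        rw [hx'] at this
        exact hpn this
    have h3 := Subgroup.orderOf_dvd_natCard (commutator X) h1
    rw [h2] at h3
    exact h h3
  · rw [Subgroup.index_ker]
    have hP : IsPGroup p f.range := by
      rintro ⟨y, x, rfl⟩
      refine ⟨K, ?_⟩
      apply Subtype.ext
      show (f x) ^ (p ^ K) = 1
      rw [hf, ← pow_mul, mul_comm, hcn, ← map_pow, hc, pow_card_eq_one', map_one]
    exact IsPGroup.iff_card.mp hP

/-- Lemma TD: structure of a group with character degrees `{1, u}`, `p ∣ u`. -/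
theorem two_struct {p u : ℕ} (hp : p.Prime) (hu : u ≠ 1) (hpu : p ∣ u)
    (hcd : ∀ χ : IrrCharacter X, charDegree (χ : X → ℂ) = 1 ∨ charDegree (χ : X → ℂ) = u)
    (hex : ∃ χ : IrrCharacter X, charDegree (χ : X → ℂ) = u) :
    (∃ M : Subgroup X, M.Normal ∧ ¬ p ∣ Nat.card M ∧ ∃ k, M.index = p ^ k) ∧
    (∀ P : Subgroup X, IsPGroup p P → ¬ (∀ a ∈ P, ∀ b ∈ P, a * b = b * a) → ∃ e, u = p ^ e) ∧
    (∀ s : ℕ, s.Prime → s ≠ p → s ∣ Nat.card (commutator X) → ¬ s ∣ u) := by
  classical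
  haveI : Fact p.Prime := ⟨hp⟩
  have hu0 : u ≠ 0 := by
    obtain ⟨χ, hχ⟩ := hex
    rw [← hχ]
    exact (charDegree_pos χ.2).ne'
  -- if `u` is not a power of `p` then `p ∤ |X′|`
  have hnot : (¬ ∃ e, u = p ^ e) → ¬ p ∣ Nat.card (commutator X) := by
    intro hno
    have hr : ∃ r, r.Prime ∧ r ∣ u ∧ r ≠ p := by
      by_contra hall
      push_neg at hall
      exact hno ⟨_, Nat.eq_prime_pow_of_unique_prime_dvd hu0 (fun {d} hd hdu => hall d hd hdu)⟩
    obtain ⟨r, hr, hru, hrp⟩ := hr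
    exact core_star hu hcd hex hp hr hrp.symm hpu hru
  refine ⟨?_, ?_, ?_⟩
  · by_cases hpow : ∃ e, u = p ^ e
    · obtain ⟨L, hL, hk, hc⟩ := Cfsg.Agent.Lib.CharDeep.ThompsonDeg.exists_normal_complement (G := X) (p := p)
        (fun χ => by
          rcases hcd χ with h | h
          · left
            have := charDegree_natCast (χ := (χ : X → ℂ)) (isCharacter_of_isIrrCharacter χ.2)
            rw [← this, h]; simp
          · right; rw [h]; exact hpu)
      exact ⟨L, hL, hc, hk⟩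
    · exact exists_complement_of_not_dvd hp (hnot hpow)
  · intro P hP hna
    by_contra hno
    apply hna
    have h1 := hnot hno
    intro a ha b hb
    have hm : a * b * a⁻¹ * b⁻¹ ∈ P := mul_mem (mul_mem (mul_mem ha hb) (inv_mem ha)) (inv_mem hb)
    have hc : a * b * a⁻¹ * b⁻¹ ∈ commutator X :=
      Subgroup.commutator_mem_commutator (Subgroup.mem_top a) (Subgroup.mem_top b)
    obtain ⟨k, hk⟩ := hP ⟨_, hm⟩
    have hk' : (a * b * a⁻¹ * b⁻¹) ^ (p ^ k) = 1 := by
      simpa using congrArg Subtype.val hk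
    have h2 : orderOf (a * b * a⁻¹ * b⁻¹) ∣ p ^ k := orderOf_dvd_of_pow_eq_one hk'
    have h3 := Subgroup.orderOf_dvd_natCard (commutator X) hc
    have h4 : Nat.Coprime (p ^ k) (Nat.card (commutator X)) :=
      Nat.Coprime.pow_left _ ((Nat.Prime.coprime_iff_not_dvd hp).mpr h1)
    have h5 : orderOf (a * b * a⁻¹ * b⁻¹) = 1 := Nat.eq_one_of_dvd_coprimes h4 h2 h3
    have h6 : a * b * a⁻¹ * b⁻¹ = 1 := orderOf_eq_one_iff.mp h5
    have h7 : a * b = (a * b * a⁻¹ * b⁻¹) * (b * a) := by group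
    rw [h7, h6, one_mul]
  · intro s hs hsp hsd hsu
    exact core_star hu hcd hex hs hp hsp hsu hpu hsd

end Cfsg.Agent.Lib.FourDeg.TwoStruct
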