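import Cfsg.Agent.Lib.FourDeg.Chain
import Cfsg.Agent.Lib.FourDeg.Reg
import Cfsg.Agent.Lib.FourDeg.TwoStruct
import Cfsg.Agent.Lib.FourDeg.Perm
import Cfsg.Agent.Lib.KerFit.Main
import Cfsg.Agent.Lib.CharDeep.GallagherExt
import Cfsg.Agent.Lib.Char.RelGraph
import Cfsg.Agent.Lib.Coprime.Action
import Cfsg.Agent.Lib.Char.DegDvd
import Mathlib

set_option autoImplicit false
set_option linter.unusedSectionVars false
set_option linter.style.haveILetI false
set_option linter.unusedVariables false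
set_option linter.unusedSimpArgs false

namespace Cfsg.Agent.Lib.FourDeg.HStructD

open Cfsg Module
open Cfsg.Agent.Lib.Char.Basic Cfsg.Agent.Lib.Char.Ortho Cfsg.Agent.Lib.Char.Complete
open Cfsg.Agent.Lib.Char.Degree Cfsg.Agent.Lib.Char.Clifford Cfsg.Agent.Lib.Char.Induced
open Cfsg.Agent.Lib.Char.Linear
open Cfsg.Agent.Lib.CharDeg.ThreeDeg.Perfect Cfsg.Agent.Lib.CharDeg.ThreeDeg.Uniform
open Cfsg.Agent.Lib.CharDeg.ThreeDeg.Lift Cfsg.Agent.Lib.CharDeg.ThreeDeg.Sec
open Cfsg.Agent.Lib.CharDeg.ThreeDeg.Cases Cfsg.Agent.Lib.CharDeg.ThreeDeg.Solv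
open Cfsg.Agent.Lib.CharDeg.ThreeDeg.Derived
open Cfsg.Agent.Lib.Core.Basic
open Cfsg.Agent.Lib.Char.Conj
open scoped commutatorElement

universe u

/-- A characteristic subgroup of a normal subgroup is normal. -/
theorem normal_map_of_char {X : Type u} [Group X] (A : Subgroup X) (hA : A.Normal) (P : Subgroup A)
    (hP : P.Characteristic) : (P.map A.subtype).Normal := by
  haveI := hA
  constructor
  rintro _ ⟨x, hx, rfl⟩ g
  refine ⟨MulAut.conjNormal g x, ?_, by simp [MulAut.conjNormal_apply]⟩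
  have h2 : x ∈ P.comap (MulAut.conjNormal g : MulAut A).toMonoidHom := by
    rw [hP.fixed]
    exact hx
  exact h2

/-- A nontrivial normal subgroup of a finite solvable group contains a nontrivial normal subgroup of
prime power order. -/
theorem exists_prime_normal {X : Type u} [Group X] [Finite X] [hs : Group.IsSolvable X]
    (L : Subgroup X) (hL : L.Normal) (hne : L ≠ ⊥) :
    ∃ q : ℕ, q.Prime ∧ ∃ N : Subgroup X, N ≤ L ∧ N.Normal ∧ N ≠ ⊥ ∧ IsPGroup q N := by
  classical
  let Sset : Set (Subgroup X) := {N | N ≤ L ∧ N.Normal ∧ N ≠ ⊥}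
  obtain ⟨N₀, ⟨hN₀L, hN₀n, hN₀ne⟩, hmin⟩ := Set.exists_min_image Sset (fun N : Subgroup X => Nat.card N)
    (Set.toFinite Sset) ⟨L, le_rfl, hL, hne⟩
  haveI := hN₀n
  have hab : ⁅N₀, N₀⁆ = ⊥ := by
    by_contra hD
    have hDle : ⁅N₀, N₀⁆ ≤ N₀ := Subgroup.commutator_le_left N₀ N₀
    have h1 := hmin ⁅N₀, N₀⁆ ⟨hDle.trans hN₀L, Subgroup.commutator_normal _ _, hD⟩
    have h2 : ⁅N₀, N₀⁆ = N₀ := Subgroup.eq_of_le_of_card_ge hDle h1
    obtain ⟨n, hn⟩ := (isSolvable_def X).1 hs
    have h3 : ∀ k, N₀ ≤ derivedSeries X k := by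
      intro k
      induction k with
      | zero => exact le_top
      | succ k ih =>
        rw [derivedSeries_succ, ← h2]
        exact Subgroup.commutator_mono ih ih
    apply hN₀ne
    rw [eq_bot_iff, ← hn]
    exact h3 n
  have hcomm : ∀ a b : N₀, a * b = b * a := by
    intro a b
    have h1 : ⁅(a : X), (b : X)⁆ ∈ ⁅N₀, N₀⁆ := Subgroup.commutator_mem_commutator a.2 b.2
    rw [hab, Subgroup.mem_bot, commutatorElement_eq_one_iff_mul_comm] at h1
    exact Subtype.ext h1
  have hcard : Nat.card N₀ ≠ 1 := by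
    intro h1
    apply hN₀ne
    exact Subgroup.eq_bot_of_card_eq N₀ h1
  obtain ⟨q, hq, hqd⟩ := Nat.exists_prime_and_dvd hcard
  haveI : Fact q.Prime := ⟨hq⟩
  obtain ⟨P⟩ : Nonempty (Sylow q N₀) := inferInstance
  have hPn : (P : Subgroup N₀).Normal := ⟨fun n hn g => by rw [hcomm g n]; simpa using hn⟩
  refine ⟨q, hq, (P : Subgroup N₀).map N₀.subtype, ?_, normal_map_of_char N₀ hN₀n _
    (P.characteristic_of_normal hPn), ?_, ?_⟩
  · rintro _ ⟨x, -, rfl⟩
    exact hN₀L x.2
  · intro h0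
    have h1 : (P : Subgroup N₀) = ⊥ := by
      rw [eq_bot_iff]
      intro x hx
      have h2 : (x : X) ∈ (P : Subgroup N₀).map N₀.subtype := ⟨x, hx, rfl⟩
      rw [h0, Subgroup.mem_bot] at h2
      exact Subgroup.mem_bot.2 (Subtype.ext h2)
    have h3 := P.not_dvd_index
    rw [h1, Subgroup.index_bot] at h3
    exact h3 hqd
  · have h1 : IsPGroup q (P : Subgroup N₀) := P.isPGroup'
    intro ⟨x, hx⟩
    obtain ⟨y, hy, rfl⟩ := hx
    obtain ⟨k, hk⟩ := h1 ⟨y, hy⟩
    refine ⟨k, Subtype.ext ?_⟩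
    have h2 := congrArg (fun z : (P : Subgroup N₀) => ((z : N₀) : X)) hk
    simpa using h2

/-- Nilpotent with abelian Sylow subgroups is abelian. -/
theorem comm_of_nilpotent {A : Type u} [Group A] [Finite A] (hn : Group.IsNilpotent A)
    (h : ∀ (q : ℕ) (_ : Fact q.Prime) (P : Sylow q A), ∀ a ∈ (P : Subgroup A), ∀ b ∈ (P : Subgroup A),
      a * b = b * a) : ∀ a b : A, a * b = b * a := by
  obtain ⟨e⟩ := (isNilpotent_of_finite_tfae (G := A)).out 0 4 |>.1 hn
  have hc : ∀ x y : (∀ p : (Nat.card A).primeFactors, ∀ P : Sylow p A, (↑P : Subgroup A)),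
      x * y = y * x := by
    intro x y
    funext r P
    apply Subtype.ext
    exact h r ⟨Nat.prime_of_mem_primeFactors r.2⟩ P _ (x r P).2 _ (y r P).2
  intro a b
  apply e.symm.injective
  rw [map_mul, map_mul, hc]

/-- The elements of order prime to `r` of an abelian subgroup. -/
def copPart {X : Type u} [Group X] (r : ℕ) (A : Subgroup X) (hA : ∀ a ∈ A, ∀ b ∈ A, a * b = b * a) :
    Subgroup X where
  carrier := {a | a ∈ A ∧ (orderOf a).Coprime r}
  mul_mem' := by
    rintro a b ⟨ha, ha'⟩ ⟨hb, hb'⟩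
    refine ⟨A.mul_mem ha hb, ?_⟩
    have h1 : Commute a b := hA a ha b hb
    exact Nat.Coprime.coprime_dvd_left h1.orderOf_mul_dvd_mul_orderOf (Nat.Coprime.mul_left ha' hb')
  one_mem' := ⟨A.one_mem, by simp⟩
  inv_mem' := by
    rintro a ⟨ha, ha'⟩
    exact ⟨A.inv_mem ha, by rwa [orderOf_inv]⟩

theorem mem_copPart {X : Type u} [Group X] {r : ℕ} {A : Subgroup X}
    {hA : ∀ a ∈ A, ∀ b ∈ A, a * b = b * a} {a : X} :
    a ∈ copPart r A hA ↔ a ∈ A ∧ (orderOf a).Coprime r := Iff.rfl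

theorem copPart_normal {X : Type u} [Group X] {r : ℕ} {A : Subgroup X}
    {hA : ∀ a ∈ A, ∀ b ∈ A, a * b = b * a} (hAn : A.Normal) : (copPart r A hA).Normal := by
  constructor
  rintro a ⟨ha, ha'⟩ g
  refine ⟨hAn.conj_mem a ha g, ?_⟩
  have h1 : orderOf (g * a * g⁻¹) = orderOf a :=
    orderOf_injective (MulAut.conj g).toMonoidHom (MulAut.conj g).injective a
  rw [h1]
  exact ha'

theorem copPart_not_dvd {X : Type u} [Group X] [Finite X] {r : ℕ} (hr : r.Prime) {A : Subgroup X}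
    {hA : ∀ a ∈ A, ∀ b ∈ A, a * b = b * a} : ¬ r ∣ Nat.card (copPart r A hA) := by
  intro hd
  haveI : Fact r.Prime := ⟨hr⟩
  obtain ⟨y, hy⟩ := exists_prime_orderOf_dvd_card' r hd
  have h1 : orderOf (y : X) = r := by rw [Subgroup.orderOf_coe, hy]
  have h2 := y.2.2
  rw [h1] at h2
  exact hr.one_lt.ne' ((Nat.coprime_self r).1 h2)

theorem copPart_pow {X : Type u} [Group X] [Finite X] {r : ℕ} (hr : r.Prime) {A : Subgroup X}
    {hA : ∀ a ∈ A, ∀ b ∈ A, a * b = b * a} {a : X} (ha : a ∈ A) :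
    ∃ k, a ^ (r ^ k) ∈ copPart r A hA := by
  have h0 : orderOf a ≠ 0 := (orderOf_pos a).ne'
  obtain ⟨e, m, hm, he⟩ := Nat.exists_eq_pow_mul_and_not_dvd h0 r hr.ne_one
  refine ⟨e, A.pow_mem ha _, ?_⟩
  rw [orderOf_pow_of_dvd (pow_ne_zero _ hr.ne_zero) ⟨m, he⟩, he,
    Nat.mul_div_cancel_left _ (pow_pos hr.pos _)]
  exact ((Nat.Prime.coprime_iff_not_dvd hr).2 hm).symm

section Main

variable {H : Type u} [Group H] [Fintype H] [hsol : Group.IsSolvable H]

/-- A character moved on a subgroup of `H'` is nonlinear. -/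
theorem degree_ne_one {N : Subgroup H} (hN : N ≤ commutator H) {χ : H → ℂ} (hχ : IsIrrCharacter H χ)
    (hm : ∃ x ∈ N, χ x ≠ χ 1) : charDegree χ ≠ 1 := by
  intro h1
  obtain ⟨x, hx, hne⟩ := hm
  have hc := isCharacter_of_isIrrCharacter hχ
  have h2 : χ 1 = 1 := by
    rw [← charDegree_natCast hc, h1]
    simp
  exact hne (by rw [linear_eq_one_of_mem_commutator hc h2 (hN hx), h2])

variable {p z u : ℕ} [hp : Fact p.Prime]

/-- Lemma Q: a normal `q`-subgroup of `H'`, `q ≠ p`, is abelian. -/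
theorem sylow_abelian
    (hcd : ∀ χ : IrrCharacter H, charDegree (χ : H → ℂ) = 1 ∨ charDegree (χ : H → ℂ) = z ∨
      charDegree (χ : H → ℂ) = u)
    (hT : ∀ (q : ℕ) [Fact q.Prime], q ≠ p → ∀ N : Subgroup H, N.Normal → N ≠ ⊥ → IsPGroup q N →
      ∃ T : Subgroup H, ¬ N ≤ T ∧ T.index = z)
    {q : ℕ} [Fact q.Prime] (hqp : q ≠ p) (R : Subgroup H) (hRn : R.Normal) (hRq : IsPGroup q R)
    (hRH : R ≤ commutator H) : ∀ a ∈ R, ∀ b ∈ R, a * b = b * a := by
  haveI := hRn
  by_contra hcon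
  push Not at hcon
  obtain ⟨a, ha, b, hb, hab⟩ := hcon
  have hD : ⁅R, R⁆ ≠ ⊥ := by
    intro h0
    have h1 : ⁅a, b⁆ ∈ ⁅R, R⁆ := Subgroup.commutator_mem_commutator ha hb
    rw [h0, Subgroup.mem_bot, commutatorElement_eq_one_iff_mul_comm] at h1
    exact hab h1
  haveI hDn : (⁅R, R⁆ : Subgroup H).Normal := Subgroup.commutator_normal R R
  have hDle : ⁅R, R⁆ ≤ R := Subgroup.commutator_le_left R R
  obtain ⟨T, hNT, hTi⟩ := hT q hqp ⁅R, R⁆ hDn hD (hRq.to_le hDle)
  obtain ⟨χ₁, hχ₁, ⟨x, hx, hne⟩, hval⟩ :=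
    Cfsg.Agent.Lib.FourDeg.Perm.exists_val_const T ⁅R, R⁆ (hRq.to_le hDle) hNT
  rw [hTi] at hval
  have h1 : charDegree χ₁ ≠ 1 := degree_ne_one (hDle.trans hRH) hχ₁ ⟨x, hx, hne⟩
  have h2 : charDegree χ₁ ≠ z := by
    intro h3
    rw [h3] at hval
    exact lt_irrefl _ hval
  have h3 : charDegree χ₁ = u := by
    rcases hcd ⟨χ₁, hχ₁⟩ with h | h | h
    · exact absurd h h1
    · exact absurd h h2
    · exact h
  obtain ⟨χ', hχ', ⟨y, hy, hne'⟩, hval'⟩ :=
    Cfsg.Agent.Lib.FourDeg.Chain.exists_lower_val R hRq hχ₁ hx hne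
  have h4 : charDegree χ' ≠ 1 := degree_ne_one hRH hχ' ⟨y, hy, hne'⟩
  rw [h3] at hval hval'
  rcases hcd ⟨χ', hχ'⟩ with h | h | h
  · exact h4 h
  · simp only at h
    rw [h] at hval'
    omega
  · simp only at h
    rw [h] at hval'
    exact lt_irrefl _ hval'

/-- `H'` is nontrivial, with a normal `q`-subgroup; `u < z`. -/
theorem u_lt_z
    (hOp : ∀ M : Subgroup H, M.Normal → IsPGroup p M → M = ⊥) (hu : u ≠ 1)
    (hcd : ∀ χ : IrrCharacter H, charDegree (χ : H → ℂ) = 1 ∨ charDegree (χ : H → ℂ) = z ∨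
      charDegree (χ : H → ℂ) = u)
    (hexu : ∃ χ : IrrCharacter H, charDegree (χ : H → ℂ) = u)
    (hT : ∀ (q : ℕ) [Fact q.Prime], q ≠ p → ∀ N : Subgroup H, N.Normal → N ≠ ⊥ → IsPGroup q N →
      ∃ T : Subgroup H, ¬ N ≤ T ∧ T.index = z) : u < z := by
  classical
  have hne : commutator H ≠ ⊥ := by
    intro h0
    have hc : ∀ a b : H, a * b = b * a := by
      intro a b
      have h1 : ⁅a, b⁆ ∈ commutator H :=
        Subgroup.commutator_mem_commutator (Subgroup.mem_top a) (Subgroup.mem_top b)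
      rw [h0, Subgroup.mem_bot, commutatorElement_eq_one_iff_mul_comm] at h1
      exact h1
    obtain ⟨χ, hχ⟩ := hexu
    have h1 := isIrr_deg_one_of_comm hc χ.2
    have h2 := charDegree_natCast (isCharacter_of_isIrrCharacter χ.2)
    rw [hχ, h1] at h2
    exact hu (by exact_mod_cast h2)
  obtain ⟨q, hq, N, hNL, hNn, hN1, hNq⟩ := exists_prime_normal (commutator H) inferInstance hne
  haveI : Fact q.Prime := ⟨hq⟩
  have hqp : q ≠ p := by
    rintro rfl
    exact hN1 (hOp N hNn hNq)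
  haveI := hNn
  obtain ⟨T, hNT, hTi⟩ := hT q hqp N hNn hN1 hNq
  obtain ⟨χ₁, hχ₁, hm, hlt⟩ := Cfsg.Agent.Lib.FourDeg.Perm.exists_small_const T N hNT
  rw [hTi] at hlt
  have h1 := degree_ne_one hNL hχ₁ hm
  rcases hcd ⟨χ₁, hχ₁⟩ with h | h | h
  · exact absurd h h1
  · simp only at h
    omega
  · simp only at h
    omega

/-- Lemma K. -/
theorem key_K
    (hOp : ∀ M : Subgroup H, M.Normal → IsPGroup p M → M = ⊥)
    (hcd : ∀ χ : IrrCharacter H, charDegree (χ : H → ℂ) = 1 ∨ charDegree (χ : H → ℂ) = z ∨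
      charDegree (χ : H → ℂ) = u)
    (hT : ∀ (q : ℕ) [Fact q.Prime], q ≠ p → ∀ N : Subgroup H, N.Normal → N ≠ ⊥ → IsPGroup q N →
      ∃ T : Subgroup H, ¬ N ≤ T ∧ T.index = z)
    {r : ℕ} [hr : Fact r.Prime] (hru : ¬ r ∣ u)
    (Y W : Subgroup H) (hYn : Y.Normal) (hWn : W.Normal) (hYW : Y ≤ W) (hWH : W ≤ commutator H)
    (hYab : ∀ a ∈ Y, ∀ b ∈ Y, a * b = b * a) (hYr : ¬ r ∣ Nat.card Y)
    (hWr : ∀ w ∈ W, ∃ k, w ^ (r ^ k) ∈ Y) (hK : ⁅Y, W⁆ ≠ ⊥) : False := by
  classical
  haveI := hYn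
  haveI := hWn
  set K : Subgroup H := ⁅Y, W⁆ with hKdef
  haveI hKn : K.Normal := Subgroup.commutator_normal Y W
  have hKY : K ≤ Y := Subgroup.commutator_le_left Y W
  have hKW : K ≤ W := Subgroup.commutator_le_right Y W
  obtain ⟨q, hq, N, hNK, hNn, hN1, hNq⟩ := exists_prime_normal K hKn hK
  haveI : Fact q.Prime := ⟨hq⟩
  haveI := hNn
  have hqp : q ≠ p := by
    rintro rfl
    exact hN1 (hOp N hNn hNq)
  obtain ⟨T, hNT, hTi⟩ := hT q hqp N hNn hN1 hNq
  obtain ⟨χ₁, hχ₁, ⟨x, hx, hne⟩, hlt⟩ := Cfsg.Agent.Lib.FourDeg.Perm.exists_small_const T N hNT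
  rw [hTi] at hlt
  have hd1 := degree_ne_one (hNK.trans (hKW.trans hWH)) hχ₁ ⟨x, hx, hne⟩
  have hdu : charDegree χ₁ = u := by
    rcases hcd ⟨χ₁, hχ₁⟩ with h | h | h
    · exact absurd h hd1
    · simp only at h
      omega
    · exact h
  letI : Fintype K := Fintype.ofFinite _
  obtain ⟨θ, hθ, hθ1, hov⟩ := Cfsg.Agent.Lib.Char.RelGraph.exists_over_of_moved hKn hχ₁
    ⟨x, hNK hx, hne⟩
  have hdv := Cfsg.Agent.Lib.Char.RelGraph.card_orbit_dvd hKn hχ₁ hθ hov
  rw [Cfsg.Agent.Lib.Char.CliffordCorr.card_orbit_eq_index, hdu] at hdv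
  set I := Cfsg.Agent.Lib.Char.CliffordCorr.inertia hKn θ with hI
  have hrI : ¬ r ∣ I.index := fun h => hru (h.trans hdv)
  have hKab : ∀ a b : K, a * b = b * a := fun a b => Subtype.ext (hYab a (hKY a.2) b (hKY b.2))
  have h1θ := isIrr_deg_one_of_comm hKab hθ
  obtain ⟨β, hβ⟩ := exists_hom_of_deg_one (isCharacter_of_isIrrCharacter hθ) h1θ
  obtain ⟨S₀⟩ : Nonempty (Sylow r W) := inferInstance
  have hS₀ : IsPGroup r (S₀ : Subgroup W) := S₀.isPGroup'
  let S : Subgroup H := (S₀ : Subgroup W).map W.subtype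
  have hSp : IsPGroup r S := hS₀.map W.subtype
  have hSW : S ≤ W := by
    rintro _ ⟨s, -, rfl⟩
    exact s.2
  -- `W = Y S`
  have hdec : ∀ w ∈ W, ∃ y ∈ Y, ∃ s ∈ S, w = y * s := by
    intro w hw
    let Yw : Subgroup W := Y.subgroupOf W
    haveI hYwn : Yw.Normal := Subgroup.Normal.subgroupOf hYn W
    let f : W →* W ⧸ Yw := QuotientGroup.mk' Yw
    have hf : Function.Surjective f := QuotientGroup.mk'_surjective Yw
    have hQp : IsPGroup r (W ⧸ Yw) := by
      intro a
      obtain ⟨a, rfl⟩ := hf a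
      obtain ⟨k, hk⟩ := hWr a a.2
      refine ⟨k, ?_⟩
      rw [← map_pow]
      change ((a ^ r ^ k : W) : W ⧸ Yw) = 1
      rw [QuotientGroup.eq_one_iff]
      exact Subgroup.mem_subgroupOf.2 (by simpa using hk)
    let P₁ : Sylow r (W ⧸ Yw) := S₀.mapSurjective hf
    have hP₁ : (⊤ : Subgroup (W ⧸ Yw)) = (P₁ : Subgroup (W ⧸ Yw)) :=
      P₁.is_maximal' (hQp.to_subgroup ⊤) le_top
    have hmem : f ⟨w, hw⟩ ∈ (P₁ : Subgroup (W ⧸ Yw)) := by
      rw [← hP₁]
      exact Subgroup.mem_top _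
    rw [Sylow.coe_mapSurjective] at hmem
    obtain ⟨s, hs, hse⟩ := hmem
    have h2 : s⁻¹ * ⟨w, hw⟩ ∈ Yw := QuotientGroup.eq.1 hse
    have h3 : (s : H)⁻¹ * w ∈ Y := Subgroup.mem_subgroupOf.1 h2
    refine ⟨s * ((s : H)⁻¹ * w) * (s : H)⁻¹, hYn.conj_mem _ h3 _, s, ⟨s, hs, rfl⟩, ?_⟩
    group
  -- a conjugate of `S` fixes `θ`
  obtain ⟨g, hg⟩ : ∃ g : H, ∀ s ∈ S, g⁻¹ * s * g ∈ I := by
    have hcard : ¬ r ∣ Nat.card (H ⧸ I) := by
      rwa [← Subgroup.index_eq_card]
    obtain ⟨c, hc⟩ := hSp.nonempty_fixed_point_of_prime_not_dvd_card (H ⧸ I) hcard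
    induction c using QuotientGroup.induction_on with
    | H g =>
      refine ⟨g, fun s hs => ?_⟩
      have h2 := hc ⟨s, hs⟩
      have h3 : ((s * g : H) : H ⧸ I) = (g : H ⧸ I) := h2
      have h4 := QuotientGroup.eq.1 h3
      have h5 : g⁻¹ * s * g = ((s * g)⁻¹ * g)⁻¹ := by group
      rw [h5]
      exact I.inv_mem h4
  let S' : Subgroup H := S.map (MulAut.conj g⁻¹).toMonoidHom
  have hS'I : S' ≤ I := by
    rintro _ ⟨s, hs, rfl⟩
    have h2 := hg s hs
    simpa [MulAut.conj_apply] using h2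
  have hS'p : IsPGroup r S' := hSp.map _
  have hS'W : S' ≤ W := by
    rintro _ ⟨s, hs, rfl⟩
    have h2 := hWn.conj_mem s (hSW hs) g⁻¹
    simpa [MulAut.conj_apply] using h2
  have hdec' : ∀ w ∈ W, ∃ y ∈ Y, ∃ s ∈ S', w = y * s := by
    intro w hw
    obtain ⟨y, hy, s, hs, e⟩ := hdec (g * w * g⁻¹) (hWn.conj_mem w hw g)
    refine ⟨g⁻¹ * y * g, ?_, g⁻¹ * s * g, ⟨s, hs, by simp [MulAut.conj_apply]⟩, ?_⟩
    · have h2 := hYn.conj_mem y hy g⁻¹
      simpa using h2
    · have h3 : w = g⁻¹ * (g * w * g⁻¹) * g := by group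
      rw [h3, e]
      group
  have h1 : K = ⁅Y, S'⁆ := by
    apply le_antisymm
    · rw [hKdef, Subgroup.commutator_le]
      intro y hy w hw
      obtain ⟨y₁, hy₁, s, hs, rfl⟩ := hdec' w hw
      have hc : s * y⁻¹ * s⁻¹ ∈ Y := hYn.conj_mem _ (Y.inv_mem hy) s
      have h2 : y₁ * (s * y⁻¹ * s⁻¹) = (s * y⁻¹ * s⁻¹) * y₁ := hYab _ hy₁ _ hc
      have h3 : y * y₁ = y₁ * y := hYab _ hy _ hy₁
      have h4 : ⁅y, y₁ * s⁆ = ⁅y, s⁆ := by
        rw [commutatorElement_def, commutatorElement_def]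
        calc y * (y₁ * s) * y⁻¹ * (y₁ * s)⁻¹ = y * (y₁ * (s * y⁻¹ * s⁻¹)) * y₁⁻¹ := by group
          _ = y * ((s * y⁻¹ * s⁻¹) * y₁) * y₁⁻¹ := by rw [h2]
          _ = y * s * y⁻¹ * s⁻¹ := by group
      rw [h4]
      exact Subgroup.commutator_mem_commutator hy hs
    · exact Subgroup.commutator_mono le_rfl hS'W
  have hnorm : S' ≤ Subgroup.normalizer (Y : Set H) := by
    have h2 : Subgroup.normalizer (Y : Set H) = ⊤ := Subgroup.normalizer_eq_top_iff.2 hYn
    rw [h2]
    exact le_top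
  have hcop : (Nat.card S').Coprime (Nat.card Y) := by
    obtain ⟨n, hn⟩ := IsPGroup.iff_card.1 hS'p
    rw [hn]
    exact Nat.Coprime.pow_left n ((Nat.Prime.coprime_iff_not_dvd hr.out).2 hYr)
  have h2 := Cfsg.Agent.Lib.Coprime.Action.commutator_commutator_eq hnorm hcop
    (Or.inr (solvable_of_solvable_injective Y.subtype_injective))
  let L : Subgroup H := β.ker.map K.subtype
  have hKL : K ≤ L := by
    rw [h1, ← h2, ← h1, Subgroup.commutator_le]
    intro x hxK s hs
    have hfix : conjOn hKn s θ = θ := hS'I hs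
    have hconj : s * x * s⁻¹ ∈ K := hKn.conj_mem x hxK s
    have hcomm : x * s * x⁻¹ * s⁻¹ ∈ K := by
      have e : x * s * x⁻¹ * s⁻¹ = x * (s * x * s⁻¹)⁻¹ := by group
      rw [e]
      exact K.mul_mem hxK (K.inv_mem hconj)
    refine ⟨⟨_, hcomm⟩, ?_, by simp [commutatorElement_def]⟩
    have e2 : (⟨x * s * x⁻¹ * s⁻¹, hcomm⟩ : K) = ⟨x, hxK⟩ * (⟨s * x * s⁻¹, hconj⟩ : K)⁻¹ := by
      apply Subtype.ext
      simp only [Subgroup.coe_mul, InvMemClass.coe_inv]
      group
    have e3 : β ⟨s * x * s⁻¹, hconj⟩ = β ⟨x, hxK⟩ := by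
      have h3 := congrFun hfix ⟨x, hxK⟩
      rw [conjOn_apply, hβ] at h3
      exact Units.ext h3
    rw [SetLike.mem_coe, MonoidHom.mem_ker, e2, map_mul, map_inv, e3, mul_inv_cancel]
  apply hθ1
  funext k
  rw [hβ]
  obtain ⟨k', hk', e⟩ := hKL k.2
  have hkk : k' = k := Subtype.ext e
  rw [hkk] at hk'
  have h3 : β k = 1 := hk'
  simp [h3]

/-- Characters of `H / F(H)` do not have the largest degree. -/
theorem quotient_degrees (hz : z ≠ 1) (huz : u < z)
    (hcd : ∀ χ : IrrCharacter H, charDegree (χ : H → ℂ) = 1 ∨ charDegree (χ : H → ℂ) = z ∨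
      charDegree (χ : H → ℂ) = u)
    [Fintype (H ⧸ fittingSubgroup H)] (φ : IrrCharacter (H ⧸ fittingSubgroup H)) :
    charDegree (φ : H ⧸ fittingSubgroup H → ℂ) = 1 ∨
      charDegree (φ : H ⧸ fittingSubgroup H → ℂ) = u := by
  set F := fittingSubgroup H with hFdef
  have hir := Cfsg.Agent.Lib.Char.Linear.isIrrCharacter_comp (QuotientGroup.mk' F)
    (QuotientGroup.mk'_surjective F) φ.2
  have hd := charDegree_comp_mk F (φ : H ⧸ F → ℂ)
  rcases hcd ⟨_, hir⟩ with h1 | h1 | h1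
  · left
    rw [← hd]
    exact h1
  · exfalso
    simp only at h1
    have hχc := isCharacter_of_isIrrCharacter hir
    have hFK : F ≤ charKer hχc := by
      intro x hx
      change ((φ : H ⧸ F → ℂ) ∘ QuotientGroup.mk' F) x = ((φ : H ⧸ F → ℂ) ∘ QuotientGroup.mk' F) 1
      have h2 : QuotientGroup.mk' F x = 1 := by
        rw [QuotientGroup.mk'_apply, QuotientGroup.eq_one_iff]
        exact hx
      simp only [Function.comp_apply, h2, map_one]
    have hcase : ¬ charKer hχc ≤ fittingSubgroup H ∨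
        (charKer hχc = fittingSubgroup H ∧ Group.IsSolvable (H ⧸ charKer hχc) ∧ charKer hχc ≠ ⊤) := by
      by_cases hle : charKer hχc ≤ fittingSubgroup H
      · right
        have heq : charKer hχc = fittingSubgroup H := le_antisymm hle hFK
        refine ⟨heq, inferInstance, ?_⟩
        intro htop
        have hFtop : F = ⊤ := heq.symm.trans htop
        have hcm : ∀ u v : H ⧸ F, u * v = v * u := by
          intro u v
          obtain ⟨u, rfl⟩ := QuotientGroup.mk'_surjective F u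
          obtain ⟨v, rfl⟩ := QuotientGroup.mk'_surjective F v
          have hu : QuotientGroup.mk' F u = 1 := by
            rw [QuotientGroup.mk'_apply, QuotientGroup.eq_one_iff, hFtop]
            exact Subgroup.mem_top u
          rw [hu, one_mul, mul_one]
        have h3 := isIrr_deg_one_of_comm hcm φ.2
        have h4 := charDegree_natCast (isCharacter_of_isIrrCharacter φ.2)
        rw [h3, ← hd, h1] at h4
        have h5 : z = 1 := by exact_mod_cast h4
        exact hz h5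
      · exact Or.inl hle
    obtain ⟨ψ, hψ, -⟩ := Cfsg.Agent.Lib.KerFit.Main.exists_larger_degree_smaller_kernel ⟨_, hir⟩
      (charKer hχc) (fun g => Iff.rfl) hcase
    simp only at hψ
    rw [h1] at hψ
    rcases hcd ψ with h2 | h2 | h2 <;> omega
  · right
    rw [← hd]
    exact h1

/-- A nonabelian quotient has a nonlinear character moved at a given commutator. -/
theorem exists_nonlinear {X : Type u} [Group X] [Fintype X] {x : X} (hx : x ∈ commutator X)
    (hx1 : x ≠ 1) : ∃ β : X → ℂ, IsIrrCharacter X β ∧ charDegree β ≠ 1 := by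
  by_contra hno
  push Not at hno
  apply hx1
  have h1 : IsConj x 1 := by
    rw [Cfsg.Agent.Lib.Char.Complete.isConj_iff_forall_irr]
    intro χ
    have hc := isCharacter_of_isIrrCharacter χ.2
    have h2 : (χ : X → ℂ) 1 = 1 := by
      rw [← charDegree_natCast hc, hno _ χ.2]
      simp
    rw [linear_eq_one_of_mem_commutator hc h2 hx, h2]
  exact isConj_one_left.1 h1

/-- The image of a commutator is a commutator. -/
theorem mk_mem_commutator {X : Type u} [Group X] (N : Subgroup X) [N.Normal] {x : X}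
    (hx : x ∈ commutator X) : QuotientGroup.mk' N x ∈ commutator (X ⧸ N) := by
  have h1 : (commutator X).map (QuotientGroup.mk' N) ≤ commutator (X ⧸ N) := by
    rw [commutator_def, Subgroup.map_commutator]
    exact Subgroup.commutator_mono le_top le_top
  exact h1 ⟨x, hx, rfl⟩

/-- The Gallagher step. -/
theorem gallagher_contra {M : Subgroup H} (hMn : M.Normal) {k : ℕ} (hidx : M.index = p ^ k)
    (hnab : ¬ commutator H ≤ M) {χ₀ : H → ℂ} (hχ₀ : IsIrrCharacter H χ₀) (hdz : charDegree χ₀ = z)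
    (hpz : ¬ p ∣ z) (hmax : ∀ χ : IrrCharacter H, charDegree (χ : H → ℂ) ≤ z) : False := by
  classical
  haveI := hMn
  letI : Fintype M := Fintype.ofFinite _
  letI : Fintype (H ⧸ M) := Fintype.ofFinite _
  have hχc := isCharacter_of_isIrrCharacter hχ₀
  have hres : IsCharacter M (fun n : M => χ₀ n) := isCharacter_restrict M hχc
  have hne : (fun n : M => χ₀ n) ≠ 0 := by
    intro h
    have h1 := congrFun h 1
    exact irr_one_ne_zero hχ₀ (by simpa using h1)
  obtain ⟨θ, hθ, hcon⟩ := exists_irr_constituent (isClassFunction_of_isCharacter hres) hne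
  obtain ⟨e, t, h1, hd⟩ := Cfsg.Agent.Lib.Char.DegDvd.dvd_index_of_constituent hMn hθ hχ₀ hcon
  obtain ⟨dd, hdd⟩ := exists_deg_of_isCharacter (isCharacter_of_isIrrCharacter hθ)
  have hz1 : χ₀ 1 = (z : ℂ) := by
    rw [← charDegree_natCast hχc, hdz]
  have hzn : z = (e * t) * dd := by
    rw [hz1, hdd] at h1
    exact_mod_cast h1
  have het : e * t = 1 := by
    have h2 : e * t ∣ p ^ k := hidx ▸ hd
    obtain ⟨j, -, hj⟩ := (Nat.dvd_prime_pow hp.out).1 h2
    rcases Nat.eq_zero_or_pos j with rfl | hjp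
    · simpa using hj
    · exfalso
      apply hpz
      rw [hzn, hj]
      exact Dvd.dvd.mul_right (dvd_pow_self p hjp.ne') dd
  have hθ1 : θ 1 = (z : ℂ) := by
    rw [hdd, hzn, het, one_mul]
  have hrestr : (fun n : M => χ₀ n) = θ :=
    eq_of_constituent_of_deg_le hres hθ hcon (a := z) (b := z) (by simpa using hz1) hθ1 le_rfl
  have hresirr : IsIrrCharacter M (fun n : M => χ₀ n) := by
    rw [hrestr]
    exact hθ
  obtain ⟨x, hx, hxM⟩ := SetLike.not_le_iff_exists.1 hnab
  have hx1 : QuotientGroup.mk' M x ≠ 1 := by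
    rw [QuotientGroup.mk'_apply, Ne, QuotientGroup.eq_one_iff]
    exact hxM
  obtain ⟨β, hβ, hβ1⟩ := exists_nonlinear (mk_mem_commutator M hx) hx1
  have hβ' : IsIrrCharacter H (β ∘ QuotientGroup.mk' M) :=
    Cfsg.Agent.Lib.Char.Linear.isIrrCharacter_comp (QuotientGroup.mk' M)
      (QuotientGroup.mk'_surjective M) hβ
  have hprod := Cfsg.Agent.Lib.CharDeep.GallagherExt.isIrr_mul M hχc hresirr hβ'
    (Cfsg.Agent.Lib.CharDeep.GallagherExt.leftInv_comp M β)
  have hdeg : charDegree (χ₀ * (β ∘ QuotientGroup.mk' M)) = z * charDegree β := by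
    apply charDegree_eq_of_eq_natCast
    have h2 : (β ∘ QuotientGroup.mk' M) 1 = (charDegree β : ℂ) := by
      rw [charDegree_natCast (isCharacter_of_isIrrCharacter hβ)]
      simp
    simp only [Pi.mul_apply]
    rw [h2, hz1]
    push_cast
    ring
  have h3 := hmax ⟨_, hprod⟩
  simp only at h3
  rw [hdeg] at h3
  have h4 := charDegree_pos hβ
  have h5 : 2 ≤ charDegree β := by omega
  have h6 : 0 < z := by
    have := charDegree_pos hχ₀
    omega
  nlinarith

/-- `H' ∩ F(H)` is abelian. -/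
theorem inf_abelian
    (hOp : ∀ M : Subgroup H, M.Normal → IsPGroup p M → M = ⊥)
    (hcd : ∀ χ : IrrCharacter H, charDegree (χ : H → ℂ) = 1 ∨ charDegree (χ : H → ℂ) = z ∨
      charDegree (χ : H → ℂ) = u)
    (hT : ∀ (q : ℕ) [Fact q.Prime], q ≠ p → ∀ N : Subgroup H, N.Normal → N ≠ ⊥ → IsPGroup q N →
      ∃ T : Subgroup H, ¬ N ≤ T ∧ T.index = z) :
    ∀ a ∈ commutator H ⊓ fittingSubgroup H, ∀ b ∈ commutator H ⊓ fittingSubgroup H, a * b = b * a := by
  classical
  set A : Subgroup H := commutator H ⊓ fittingSubgroup H with hAdef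
  haveI hFn : (fittingSubgroup H).Normal := fittingSubgroup_normal'
  have hAn : A.Normal := Subgroup.normal_inf_normal _ _
  have hnil : Group.IsNilpotent A := by
    haveI h1 : Group.IsNilpotent (fittingSubgroup H) := fittingSubgroup_isNilpotent
    have hle : A ≤ fittingSubgroup H := inf_le_right
    exact nilpotent_of_mulEquiv (Subgroup.subgroupOfEquivOfLe hle)
  have hc := comm_of_nilpotent hnil (by
    intro q hq P a ha b hb
    have hall : ∀ (p : ℕ) (_hp : Fact p.Prime) (P : Sylow p A), (↑P : Subgroup A).Normal :=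
      (Group.isNilpotent_of_finite_tfae (G := A)).out 0 3 |>.1 hnil
    have hPn : (P : Subgroup A).Normal := hall q hq P
    have hRn := normal_map_of_char A hAn _ (P.characteristic_of_normal hPn)
    have hRp : IsPGroup q ((P : Subgroup A).map A.subtype) := P.isPGroup'.map A.subtype
    have hRH : (P : Subgroup A).map A.subtype ≤ commutator H := by
      rintro _ ⟨x, -, rfl⟩
      exact x.2.1
    by_cases hqp : q = p
    · subst hqp
      have h0 := hOp _ hRn hRp
      have hamem : (a : H) ∈ (P : Subgroup A).map A.subtype := ⟨a, ha, rfl⟩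
      rw [h0, Subgroup.mem_bot] at hamem
      have ha1 : a = 1 := Subtype.ext hamem
      rw [ha1, one_mul, mul_one]
    · have h1 := sylow_abelian hcd hT hqp _ hRn hRp hRH (a : H) ⟨a, ha, rfl⟩ (b : H) ⟨b, hb, rfl⟩
      exact Subtype.ext h1)
  intro a ha b hb
  exact congrArg Subtype.val (hc ⟨a, ha⟩ ⟨b, hb⟩)

/-- The heart: `H' ≤ F(H)`. -/
theorem comm_le_fit
    (hOp : ∀ M : Subgroup H, M.Normal → IsPGroup p M → M = ⊥) (hz : z ≠ 1) (hu : u ≠ 1)
    (hcd : ∀ χ : IrrCharacter H, charDegree (χ : H → ℂ) = 1 ∨ charDegree (χ : H → ℂ) = z ∨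
      charDegree (χ : H → ℂ) = u)
    (hexz : ∃ χ : IrrCharacter H, charDegree (χ : H → ℂ) = z)
    (hpu : p ∣ u) (hpz : ¬ p ∣ z) (huz : u < z)
    (hT : ∀ (q : ℕ) [Fact q.Prime], q ≠ p → ∀ N : Subgroup H, N.Normal → N ≠ ⊥ → IsPGroup q N →
      ∃ T : Subgroup H, ¬ N ≤ T ∧ T.index = z) :
    commutator H ≤ fittingSubgroup H := by
  classical
  by_contra hnot
  set J := fittingSubgroup H with hJdef
  haveI hJn : J.Normal := fittingSubgroup_normal'
  letI : Fintype (H ⧸ J) := Fintype.ofFinite _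
  let X := H ⧸ J
  let π : H →* X := QuotientGroup.mk' J
  have hπ : Function.Surjective π := QuotientGroup.mk'_surjective J
  have hcdX : ∀ φ : IrrCharacter X, charDegree (φ : X → ℂ) = 1 ∨ charDegree (φ : X → ℂ) = u :=
    fun φ => quotient_degrees hz huz hcd φ
  obtain ⟨x₀, hx₀, hx₀J⟩ := SetLike.not_le_iff_exists.1 hnot
  have hx₀1 : π x₀ ≠ 1 := by
    change QuotientGroup.mk' J x₀ ≠ 1
    rw [QuotientGroup.mk'_apply, Ne, QuotientGroup.eq_one_iff]
    exact hx₀J
  have hx₀c : π x₀ ∈ commutator X := mk_mem_commutator J hx₀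
  have hexX : ∃ φ : IrrCharacter X, charDegree (φ : X → ℂ) = u := by
    obtain ⟨β, hβ, hβ1⟩ := exists_nonlinear hx₀c hx₀1
    exact ⟨⟨β, hβ⟩, (hcdX ⟨β, hβ⟩).resolve_left hβ1⟩
  obtain ⟨⟨Mh, hMhn, hMhp, k, hidx⟩, -, h3⟩ :=
    Cfsg.Agent.Lib.FourDeg.TwoStruct.two_struct hp.out hu hpu hcdX hexX
  haveI := hMhn
  set Ch : Subgroup X := commutator X ⊓ Mh with hCh
  have hChn : Ch.Normal := Subgroup.normal_inf_normal _ _
  have hmaxdeg : ∀ χ : IrrCharacter H, charDegree (χ : H → ℂ) ≤ z := by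
    intro χ
    rcases hcd χ with h | h | h <;> omega
  obtain ⟨χ₀, hχ₀⟩ := hexz
  by_cases hCh1 : Ch = ⊥
  · -- `H / M` is a nonabelian `p`-group
    let M : Subgroup H := Mh.comap π
    have hMn : M.Normal := Subgroup.Normal.comap hMhn π
    have hMi : M.index = p ^ k := by
      rw [← hidx]
      exact Subgroup.index_comap_of_surjective Mh hπ
    refine gallagher_contra hMn hMi ?_ χ₀.2 hχ₀ hpz hmaxdeg
    intro hle
    have h1 : π x₀ ∈ Ch := ⟨hx₀c, hle hx₀⟩
    rw [hCh1, Subgroup.mem_bot] at h1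
    exact hx₀1 h1
  · -- a normal `r`-subgroup of `X` inside `X' ∩ Mh`
    haveI : Group.IsSolvable X := inferInstance
    obtain ⟨r, hr, Rh, hRCh, hRhn, hRh1, hRhr⟩ := exists_prime_normal Ch hChn hCh1
    haveI hrf : Fact r.Prime := ⟨hr⟩
    have hRcard : r ∣ Nat.card Rh := by
      obtain ⟨n, hn⟩ := IsPGroup.iff_card.1 hRhr
      rw [hn]
      refine dvd_pow_self r ?_
      rintro rfl
      rw [pow_zero] at hn
      exact hRh1 (Subgroup.eq_bot_of_card_eq Rh hn)
    have hrp : r ≠ p := by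
      rintro rfl
      apply hMhp
      exact hRcard.trans (Subgroup.card_dvd_of_le (hRCh.trans inf_le_right))
    have hrX' : r ∣ Nat.card (commutator X) :=
      hRcard.trans (Subgroup.card_dvd_of_le (hRCh.trans inf_le_left))
    have hru : ¬ r ∣ u := h3 r hr hrp hrX'
    -- the sections
    set A : Subgroup H := commutator H ⊓ J with hAdef
    have hAn : A.Normal := Subgroup.normal_inf_normal _ _
    have hAab : ∀ a ∈ A, ∀ b ∈ A, a * b = b * a := inf_abelian hOp hcd hT
    let Y : Subgroup H := copPart r A hAab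
    have hYn : Y.Normal := copPart_normal hAn
    let W : Subgroup H := commutator H ⊓ Rh.comap π
    have hWn : W.Normal := Subgroup.normal_inf_normal _ _ (hK := Subgroup.Normal.comap hRhn π)
    have hYW : Y ≤ W := by
      intro a ha
      refine ⟨ha.1.1, ?_⟩
      have h1 : π a = 1 := by
        change QuotientGroup.mk' J a = 1
        rw [QuotientGroup.mk'_apply, QuotientGroup.eq_one_iff]
        exact ha.1.2
      change π a ∈ Rh
      rw [h1]
      exact Rh.one_mem
    have hWr : ∀ w ∈ W, ∃ k, w ^ (r ^ k) ∈ Y := by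
      intro w hw
      obtain ⟨i, hi⟩ := hRhr ⟨π w, hw.2⟩
      have h1 : π (w ^ r ^ i) = 1 := by
        have := congrArg Subtype.val hi
        simpa using this
      have h2 : w ^ r ^ i ∈ A := by
        refine ⟨Subgroup.pow_mem _ hw.1 _, ?_⟩
        have h3 : QuotientGroup.mk' J (w ^ r ^ i) = 1 := h1
        rw [QuotientGroup.mk'_apply, QuotientGroup.eq_one_iff] at h3
        exact h3
      obtain ⟨j, hj⟩ := copPart_pow (hA := hAab) hr h2
      refine ⟨i + j, ?_⟩
      rw [pow_add, pow_mul]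
      exact hj
    have hKne : ⁅Y, W⁆ ≠ ⊥ := by
      intro h0
      -- `W` is nilpotent
      have hWc : Y.subgroupOf W ≤ Subgroup.center W := by
        intro y hy
        rw [Subgroup.mem_center_iff]
        intro w
        have h1 : ⁅(y : H), (w : H)⁆ ∈ ⁅Y, W⁆ :=
          Subgroup.commutator_mem_commutator (Subgroup.mem_subgroupOf.1 hy) w.2
        rw [h0, Subgroup.mem_bot, commutatorElement_eq_one_iff_mul_comm] at h1
        exact Subtype.ext h1.symm
      haveI hYwn : (Y.subgroupOf W).Normal := Subgroup.Normal.subgroupOf hYn W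
      have hQp : IsPGroup r (W ⧸ Y.subgroupOf W) := by
        intro a
        induction a using QuotientGroup.induction_on with
        | H a =>
          obtain ⟨k, hk⟩ := hWr a a.2
          refine ⟨k, ?_⟩
          rw [← QuotientGroup.mk_pow, QuotientGroup.eq_one_iff]
          exact Subgroup.mem_subgroupOf.2 (by simpa using hk)
      have hWnil : Group.IsNilpotent W := by
        haveI := hQp.isNilpotent
        exact Subgroup.isNilpotent_of_ker_le_center (QuotientGroup.mk' (Y.subgroupOf W))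
          (by rw [QuotientGroup.ker_mk']; exact hWc)
      have hWJ : W ≤ J := le_fittingSubgroup hWn hWnil
      apply hRh1
      rw [eq_bot_iff]
      intro y hy
      have hyX : y ∈ commutator X := (hRCh hy).1
      -- `X' = π(H')`
      have hcomm : commutator X ≤ (commutator H).map π := by
        rw [commutator_def, commutator_def, Subgroup.map_commutator]
        have h1 : (⊤ : Subgroup H).map π = ⊤ := Subgroup.map_top_of_surjective π hπ
        rw [h1]
      obtain ⟨h, hh, rfl⟩ := hcomm hyX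
      have hhW : h ∈ W := ⟨hh, hy⟩
      have h5 : QuotientGroup.mk' J h = 1 := by
        rw [QuotientGroup.mk'_apply, QuotientGroup.eq_one_iff]
        exact hWJ hhW
      exact Subgroup.mem_bot.2 h5
    exact key_K hOp hcd hT hru Y W hYn hWn hYW (fun w hw => hw.1)
      (fun a ha b hb => hAab a ha.1 b hb.1) (copPart_not_dvd hr) hWr hKne

/-- Structure of `H` in case D2b: `cd(H) = {1, z, u}`, `p ∣ u`, `p ∤ z`, `O_p(H) = 1`, and each nontrivial
normal `q`-subgroup (`q ≠ p`) is not contained in some subgroup of index `z`. -/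
theorem d2b_struct
    (hOp : ∀ M : Subgroup H, M.Normal → IsPGroup p M → M = ⊥) (hz : z ≠ 1) (hu : u ≠ 1)
    (hcd : ∀ χ : IrrCharacter H, charDegree (χ : H → ℂ) = 1 ∨ charDegree (χ : H → ℂ) = z ∨
      charDegree (χ : H → ℂ) = u)
    (hexz : ∃ χ : IrrCharacter H, charDegree (χ : H → ℂ) = z)
    (hexu : ∃ χ : IrrCharacter H, charDegree (χ : H → ℂ) = u) (hpu : p ∣ u) (hpz : ¬ p ∣ z)
    (hT : ∀ (q : ℕ) [Fact q.Prime], q ≠ p → ∀ N : Subgroup H, N.Normal → N ≠ ⊥ → IsPGroup q N →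
      ∃ T : Subgroup H, ¬ N ≤ T ∧ T.index = z) :
    u < z ∧ (∀ a ∈ commutator H, ∀ b ∈ commutator H, a * b = b * a) ∧
      (∃ M : Subgroup H, M.Normal ∧ ¬ p ∣ Nat.card M ∧ ∃ k, M.index = p ^ k) ∧
      (∀ P : Subgroup H, IsPGroup p P → ∀ a ∈ P, ∀ b ∈ P, a * b = b * a) ∧
      ∀ k, p ^ k ∣ Nat.card H → p ^ k ∣ u := by
  classical
  have huz := u_lt_z hOp hu hcd hexu hT
  have hle := comm_le_fit hOp hz hu hcd hexz hpu hpz huz hT
  set J := fittingSubgroup H with hJdef
  have hJn : J.Normal := fittingSubgroup_normal'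
  haveI := hJn
  have hAab := inf_abelian hOp hcd hT
  have hHab : ∀ a ∈ commutator H, ∀ b ∈ commutator H, a * b = b * a :=
    fun a ha b hb => hAab a ⟨ha, hle ha⟩ b ⟨hb, hle hb⟩
  have hJp : ¬ p ∣ Nat.card J := by
    intro hd
    obtain ⟨P⟩ : Nonempty (Sylow p J) := inferInstance
    haveI hnil : Group.IsNilpotent J := fittingSubgroup_isNilpotent
    have hall : ∀ (p : ℕ) (_hp : Fact p.Prime) (P : Sylow p J), (↑P : Subgroup J).Normal :=
      (Group.isNilpotent_of_finite_tfae (G := J)).out 0 3 |>.1 hnil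
    have hRn := normal_map_of_char J hJn _ (P.characteristic_of_normal (hall p hp P))
    have h0 := hOp _ hRn (P.isPGroup'.map J.subtype)
    have h1 : (P : Subgroup J) = ⊥ := by
      rw [eq_bot_iff]
      intro x hx
      have h2 : (x : H) ∈ (P : Subgroup J).map J.subtype := ⟨x, hx, rfl⟩
      rw [h0, Subgroup.mem_bot] at h2
      exact Subgroup.mem_bot.2 (Subtype.ext h2)
    have h3 := P.not_dvd_index
    rw [h1, Subgroup.index_bot] at h3
    exact h3 hd
  have hHp : ¬ p ∣ Nat.card (commutator H) := fun h => hJp (h.trans (Subgroup.card_dvd_of_le hle))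
  have hcopH : (Nat.card (commutator H)).Coprime p :=
    ((Nat.Prime.coprime_iff_not_dvd hp.out).2 hHp).symm
  have hPab : ∀ P : Subgroup H, IsPGroup p P → ∀ a ∈ P, ∀ b ∈ P, a * b = b * a := by
    intro P hP a ha b hb
    have hcP : a * b * a⁻¹ * b⁻¹ ∈ P := P.mul_mem (P.mul_mem (P.mul_mem ha hb) (P.inv_mem ha)) (P.inv_mem hb)
    have hcH : a * b * a⁻¹ * b⁻¹ ∈ commutator H := by
      have := Subgroup.commutator_mem_commutator (Subgroup.mem_top a) (Subgroup.mem_top b)
      rwa [commutatorElement_def] at this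
    obtain ⟨k, hk⟩ := hP ⟨_, hcP⟩
    have h1 : orderOf (a * b * a⁻¹ * b⁻¹) ∣ p ^ k := by
      apply orderOf_dvd_of_pow_eq_one
      have := congrArg Subtype.val hk
      simpa using this
    have h2 : orderOf (a * b * a⁻¹ * b⁻¹) ∣ Nat.card (commutator H) :=
      Subgroup.orderOf_dvd_natCard _ hcH
    have h3 : orderOf (a * b * a⁻¹ * b⁻¹) = 1 :=
      Nat.eq_one_of_dvd_coprimes (Nat.Coprime.pow_right k hcopH) h2 h1
    rw [orderOf_eq_one_iff, ← commutatorElement_def, commutatorElement_eq_one_iff_mul_comm] at h3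
    exact h3
  refine ⟨huz, hHab, ?_, hPab, ?_⟩
  · -- the normal `p`-complement
    have hXc : ∀ a b : H ⧸ commutator H, a * b = b * a := by
      intro a b
      induction a using QuotientGroup.induction_on with
      | H a =>
      induction b using QuotientGroup.induction_on with
      | H b =>
      rw [← QuotientGroup.mk_mul, ← QuotientGroup.mk_mul, QuotientGroup.eq]
      have := Subgroup.commutator_mem_commutator (Subgroup.mem_top b⁻¹) (Subgroup.mem_top a⁻¹)
      rw [commutatorElement_def, inv_inv, inv_inv] at this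
      have e : (a * b)⁻¹ * (b * a) = b⁻¹ * a⁻¹ * b * a := by group
      rw [e]
      exact this
    let Mb : Subgroup (H ⧸ commutator H) := copPart p ⊤ (fun a _ b _ => hXc a b)
    have hMbn : Mb.Normal := copPart_normal inferInstance
    let π : H →* H ⧸ commutator H := QuotientGroup.mk' _
    have hπ : Function.Surjective π := QuotientGroup.mk'_surjective _
    refine ⟨Mb.comap π, Subgroup.Normal.comap hMbn π, ?_, ?_⟩
    · intro hd
      obtain ⟨y, hy⟩ := exists_prime_orderOf_dvd_card' p hd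
      have h1 : orderOf (y : H) = p := by rw [Subgroup.orderOf_coe, hy]
      have h2 : π y ∈ Mb := y.2
      have h3 : (orderOf (π y)).Coprime p := h2.2
      have h4 : orderOf (π y) ∣ p := by
        apply orderOf_dvd_of_pow_eq_one
        rw [← map_pow, ← h1, pow_orderOf_eq_one, map_one]
      have h5 : orderOf (π y) = 1 := Nat.eq_one_of_dvd_coprimes h3 dvd_rfl h4
      rw [orderOf_eq_one_iff] at h5
      have h6 : (y : H) ∈ commutator H := by
        have h7 : QuotientGroup.mk' (commutator H) (y : H) = 1 := h5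
        rwa [QuotientGroup.mk'_apply, QuotientGroup.eq_one_iff] at h7
      have h8 : orderOf (y : H) ∣ Nat.card (commutator H) := Subgroup.orderOf_dvd_natCard _ h6
      rw [h1] at h8
      exact hHp h8
    · rw [Subgroup.index_comap_of_surjective Mb hπ]
      haveI := hMbn
      have hQp : IsPGroup p ((H ⧸ commutator H) ⧸ Mb) := by
        intro a
        induction a using QuotientGroup.induction_on with
        | H a =>
          obtain ⟨k, hk⟩ := copPart_pow (hA := fun a _ b _ => hXc a b) hp.out (Subgroup.mem_top a)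
          refine ⟨k, ?_⟩
          rw [← QuotientGroup.mk_pow, QuotientGroup.eq_one_iff]
          exact hk
      obtain ⟨n, hn⟩ := IsPGroup.iff_card.1 hQp
      exact ⟨n, by rw [Subgroup.index_eq_card, hn]⟩
  · -- the `p`-part of `u`
    intro k hk
    letI : Fintype J := Fintype.ofFinite _
    obtain ⟨P⟩ : Nonempty (Sylow p H) := inferInstance
    have hP₀ : IsPGroup p (P : Subgroup H) := P.isPGroup'
    have hP₀c := hPab _ hP₀
    obtain ⟨ρ, hρ⟩ := Cfsg.Agent.Lib.FourDeg.Reg.exists_linear_regular hOp J hJdef hJn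
      (P : Subgroup H) hP₀ hP₀c
    obtain ⟨χ, hχ, hover⟩ := Cfsg.Agent.Lib.FourDeg.Reg.exists_over_linear J ρ
    have hE : (J ⊔ (P : Subgroup H)).Normal := by
      constructor
      intro n hn g
      have h1 : g * n * g⁻¹ * n⁻¹ ∈ J := hle (by
        have := Subgroup.commutator_mem_commutator (Subgroup.mem_top g) (Subgroup.mem_top n)
        rwa [commutatorElement_def] at this)
      have e : g * n * g⁻¹ = (g * n * g⁻¹ * n⁻¹) * n := by group
      rw [e]
      exact Subgroup.mul_mem _ (Subgroup.mem_sup_left h1) hn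
    have hS : ∀ g, g ∈ (⊥ : Subgroup H) ↔ g ∈ (P : Subgroup H) ∧
        Cfsg.Agent.Lib.FourDeg.Reg.FixesLin hJn ρ g := by
      intro g
      constructor
      · intro h
        rw [Subgroup.mem_bot] at h
        subst h
        refine ⟨Subgroup.one_mem _, fun n => ?_⟩
        congr 1
        exact Subtype.ext (by simp)
      · rintro ⟨h1, h2⟩
        exact Subgroup.mem_bot.2 (hρ g h1 h2)
    have hval := Cfsg.Agent.Lib.FourDeg.Reg.val_over_linear J hJn hJp (P : Subgroup H) hP₀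
      P.not_dvd_index hP₀c hE ρ hχ hover ⊥ hS
    rw [Subgroup.card_bot, Nat.factorization_one, Finsupp.zero_apply, add_zero,
      Sylow.card_eq_multiplicity, hp.out.factorization_pow, Finsupp.single_eq_same] at hval
    have hcard0 : Nat.card H ≠ 0 := Nat.card_pos.ne'
    obtain ⟨χu, hχu⟩ := hexu
    have hu0 : u ≠ 0 := by
      rw [← hχu]
      exact (charDegree_pos χu.2).ne'
    have hpH : p ∣ Nat.card H := hpu.trans (hχu ▸ charDegree_dvd_card χu.2)
    have hpos : 1 ≤ (Nat.card H).factorization p :=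
      (hp.out.dvd_iff_one_le_factorization hcard0).1 hpH
    have hd0 : charDegree χ ≠ 0 := (charDegree_pos hχ).ne'
    have hpd : p ∣ charDegree χ := (hp.out.dvd_iff_one_le_factorization hd0).2 (by omega)
    have hdu : charDegree χ = u := by
      rcases hcd ⟨χ, hχ⟩ with h | h | h
      · simp only at h
        rw [h] at hpd
        exact absurd (Nat.dvd_one.1 hpd) hp.out.ne_one
      · simp only at h
        rw [h] at hpd
        exact absurd hpd hpz
      · exact h
    rw [hdu] at hval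
    rw [hp.out.pow_dvd_iff_le_factorization hu0, hval]
    exact (hp.out.pow_dvd_iff_le_factorization hcard0).1 hk

end Main

end Cfsg.Agent.Lib.FourDeg.HStructD
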