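import Cfsg.Agent.Lib.FourDeg.Chain
import Cfsg.Agent.Lib.Coprime.Abelian
import Cfsg.Agent.Lib.Char.Extend
import Cfsg.Agent.Lib.OddChar.Inertia
import Mathlib

set_option autoImplicit false
set_option linter.unusedSectionVars false

namespace Cfsg.Agent.Lib.FourDeg.LamT

open Cfsg Module
open Cfsg.Agent.Lib.Char.Basic Cfsg.Agent.Lib.Char.Ortho Cfsg.Agent.Lib.Char.Complete
open Cfsg.Agent.Lib.Char.Degree Cfsg.Agent.Lib.Char.Clifford Cfsg.Agent.Lib.Char.Induced
open Cfsg.Agent.Lib.Char.Linear Cfsg.Agent.Lib.Char.Conj Cfsg.Agent.Lib.Char.CliffordCorr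
open Cfsg.Agent.Lib.CharDeg.ThreeDeg.Perfect Cfsg.Agent.Lib.CharDeg.ThreeDeg.Uniform
open Cfsg.Agent.Lib.CharDeg.ThreeDeg.Lift Cfsg.Agent.Lib.CharDeg.ThreeDeg.Sec
open Cfsg.Agent.Lib.CharDeg.ThreeDeg.Cases Cfsg.Agent.Lib.CharDeg.ThreeDeg.Solv
open Cfsg.Agent.Lib.CharDeg.ThreeDeg.Derived
open Cfsg.Agent.Lib.Core.Basic
open Cfsg.Agent.Lib.Coprime.Action
open scoped commutatorElement

universe u

variable {G : Type u} [Group G] [Fintype G]

/-- Coprime fixed points in `M = [M, Q]` lie in `M'`. -/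
theorem fixed_le_derived {p q : ℕ} [hp : Fact p.Prime] [hq : Fact q.Prime] (hqp : q ≠ p)
    (M Q : Subgroup G) [hMn : M.Normal] (hMp : IsPGroup p M)
    (hQq : IsPGroup q Q) (hMQ : ⁅M, Q⁆ = M) {c : G} (hcM : c ∈ M)
    (hcQ : c ∈ Subgroup.centralizer (Q : Set G)) : c ∈ (⁅M, M⁆ : Subgroup G) := by
  classical
  haveI hDn : (⁅M, M⁆ : Subgroup G).Normal := Subgroup.commutator_normal M M
  set D : Subgroup G := ⁅M, M⁆ with hD
  let π : G →* G ⧸ D := QuotientGroup.mk' D
  have hπs : Function.Surjective π := QuotientGroup.mk'_surjective D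
  let V : Subgroup (G ⧸ D) := M.map π
  let A : Subgroup (G ⧸ D) := Q.map π
  have hVc : ∀ a ∈ V, ∀ b ∈ V, a * b = b * a := by
    rintro _ ⟨x, hx, rfl⟩ _ ⟨y, hy, rfl⟩
    have h1 : ⁅x, y⁆ ∈ D := Subgroup.commutator_mem_commutator hx hy
    have h2 : π ⁅x, y⁆ = 1 := (QuotientGroup.eq_one_iff _).mpr h1
    rw [map_commutatorElement, commutatorElement_eq_one_iff_mul_comm] at h2
    exact h2
  haveI : IsMulCommutative V := ⟨⟨fun a b => Subtype.ext (hVc a a.2 b b.2)⟩⟩
  haveI hVn : V.Normal := hMn.map π hπs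
  have hAV : A ≤ Subgroup.normalizer (V : Set (G ⧸ D)) := by
    rw [Subgroup.normalizer_eq_top_iff.mpr hVn]
    exact le_top
  have hcop : (Nat.card A).Coprime (Nat.card V) :=
    IsPGroup.coprime_card_of_ne q p hqp A V (hQq.map π) (hMp.map π)
  have hcomm : ⁅V, A⁆ = V := by
    show ⁅M.map π, Q.map π⁆ = M.map π
    rw [← Subgroup.map_commutator, hMQ]
  have h := Cfsg.Agent.Lib.Coprime.Abelian.inf_commutator_eq_bot hAV hcop
  have hmem : π c ∈ (V ⊓ Subgroup.centralizer (A : Set (G ⧸ D))) ⊓ ⁅V, A⁆ := by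
    refine Subgroup.mem_inf.mpr ⟨Subgroup.mem_inf.mpr ⟨⟨c, hcM, rfl⟩, ?_⟩, ?_⟩
    · rw [Subgroup.mem_centralizer_iff]
      rintro _ ⟨y, hy, rfl⟩
      have := (Subgroup.mem_centralizer_iff.mp hcQ) y hy
      rw [← map_mul, ← map_mul, this]
    · rw [hcomm]
      exact ⟨c, hcM, rfl⟩
  rw [h, Subgroup.mem_bot] at hmem
  exact (QuotientGroup.eq_one_iff _).mp hmem

/-- In a `p`-group, a nontrivial subgroup is not contained in its commutator with the group. -/
theorem not_le_commutator_of_pGroup {p : ℕ} [hp : Fact p.Prime] (M P : Subgroup G) (hMP : M ≤ P)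
    (hP : IsPGroup p P) (hM : M ≠ ⊥) : ¬ M ≤ ⁅M, P⁆ := by
  intro hle
  haveI : Group.IsNilpotent P := hP.isNilpotent
  obtain ⟨c, hc⟩ := (Subgroup.nilpotent_iff_lowerCentralSeries (G := P)).mp inferInstance
  have hind : ∀ n : ℕ, M ≤ ((⊤ : Subgroup P).lowerCentralSeries n).map P.subtype := by
    intro n
    induction n with
    | zero =>
      intro x hx
      exact ⟨⟨x, hMP hx⟩, by simp, rfl⟩
    | succ n ih =>
      refine hle.trans ?_
      rw [Subgroup.commutator_le]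
      intro m hm g hg
      obtain ⟨x, hx, rfl⟩ := ih hm
      refine ⟨⁅x, (⟨g, hg⟩ : P)⁆, ?_, rfl⟩
      exact Subgroup.commutator_mem_commutator hx (Subgroup.mem_top _)
  apply hM
  rw [eq_bot_iff]
  have := hind c
  rw [hc] at this
  simpa using this

/-- The group-theoretic heart of Lemma 5. -/
theorem not_le_commutator_sylow {p q : ℕ} [hp : Fact p.Prime] [hq : Fact q.Prime] (hqp : q ≠ p)
    (F : Subgroup G) [hF : F.Normal] (hFp : IsPGroup p F)
    (hcent : Subgroup.centralizer (F : Set G) ≤ F)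
    (Q : Subgroup G) (hQq : IsPGroup q Q) (hQ : Q ≠ ⊥)
    (hFL : F ⊔ Subgroup.normalizer (Q : Set G) = ⊤) (P : Sylow p G) :
    ¬ ⁅F, Q⁆ ≤ ⁅(P : Subgroup G), (P : Subgroup G)⁆ := by
  intro hle
  classical
  set L : Subgroup G := Subgroup.normalizer (Q : Set G) with hL
  set M : Subgroup G := ⁅F, Q⁆ with hM
  have hFQ : ∀ x, x ∈ F → x ∈ Q → x = 1 := by
    intro x hx hx'
    have h := IsPGroup.disjoint_of_ne p q hqp.symm F Q hFp hQq
    exact Subgroup.disjoint_def.mp h hx hx'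
  have hnorm : ∀ A : Subgroup G, A ≤ Subgroup.normalizer (F : Set G) := by
    intro A
    rw [Subgroup.normalizer_eq_top_iff.mpr hF]
    exact le_top
  have hcop : (Nat.card Q).Coprime (Nat.card F) := IsPGroup.coprime_card_of_ne q p hqp Q F hQq hFp
  haveI : Group.IsNilpotent F := hFp.isNilpotent
  have hsolv : Group.IsSolvable Q ∨ Group.IsSolvable F := Or.inr inferInstance
  have hMF : M ≤ F := commutator_le_of_le_normalizer (hnorm Q)
  have hMQ : ⁅M, Q⁆ = M := commutator_commutator_eq (hnorm Q) hcop hsolv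
  have hsup : M ⊔ (F ⊓ Subgroup.centralizer (Q : Set G)) = F := commutator_sup_fixed (hnorm Q) hcop hsolv
  have hQL : Q ≤ L := by
    intro y hy
    rw [hL, Subgroup.mem_normalizer_iff]
    intro h
    constructor
    · intro hh
      exact Q.mul_mem (Q.mul_mem hy hh) (Q.inv_mem hy)
    · intro hh
      have : h = y⁻¹ * (y * h * y⁻¹) * y := by group
      rw [this]
      exact Q.mul_mem (Q.mul_mem (Q.inv_mem hy) hh) hy
  -- `M` is nontrivial
  have hM1 : M ≠ ⊥ := by
    intro h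
    apply hQ
    have h1 : Q ≤ Subgroup.centralizer (F : Set G) := by
      have h2 : ⁅Q, F⁆ = ⊥ := by rw [Subgroup.commutator_comm]; exact h
      exact Subgroup.commutator_eq_bot_iff_le_centralizer.mp h2
    rw [eq_bot_iff]
    intro y hy
    exact Subgroup.mem_bot.mpr (hFQ y (hcent (h1 hy)) hy)
  -- `M` is normal
  have hMn : M.Normal := by
    rw [← Subgroup.normalizer_eq_top_iff]
    rw [eq_top_iff, ← hFL]
    refine sup_le (le_normalizer_commutator_left F Q) ?_
    refine le_normalizer_commutator_of_le (hnorm L) ?_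
    intro x hx
    exact hx
  have hnormM : ∀ A : Subgroup G, A ≤ Subgroup.normalizer (M : Set G) := by
    intro A
    rw [Subgroup.normalizer_eq_top_iff.mpr hMn]
    exact le_top
  have hFP : F ≤ (P : Subgroup G) := by
    have h1 : IsPGroup p ((P : Subgroup G) ⊔ F : Subgroup G) :=
      P.isPGroup'.to_sup_of_normal_right hFp
    have h2 := P.is_maximal' h1 le_sup_left
    rw [← h2]
    exact le_sup_right
  let S : Subgroup G := (P : Subgroup G) ⊓ L
  have hMP : M ≤ (P : Subgroup G) := hMF.trans hFP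
  have hdec : ∀ x ∈ (P : Subgroup G), ∃ m ∈ M, ∃ s ∈ S, x = m * s := by
    intro x hx
    have hx' : x ∈ F ⊔ L := by rw [hFL]; exact Subgroup.mem_top x
    obtain ⟨f, hf, l, hl, rfl⟩ := exists_mul_of_mem_sup (hnorm L) hx'
    have hf' : f ∈ M ⊔ (F ⊓ Subgroup.centralizer (Q : Set G)) := by rw [hsup]; exact hf
    obtain ⟨m, hm, c, hc, rfl⟩ := exists_mul_of_mem_sup (hnormM _) hf'
    refine ⟨m, hm, c * l, ⟨?_, ?_⟩, by group⟩
    · have : c * l = m⁻¹ * (m * c * l) := by group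
      rw [this]
      exact Subgroup.mul_mem _ (Subgroup.inv_mem _ (hMP hm)) hx
    · refine L.mul_mem ?_ hl
      rw [hL, Subgroup.mem_normalizer_iff]
      intro h
      have hcc := (Subgroup.mem_centralizer_iff.mp hc.2)
      constructor
      · intro hh
        have : c * h * c⁻¹ = h := by
          rw [← hcc h hh]; group
        rwa [this]
      · intro hh
        have hh2 : c⁻¹ * (c * h * c⁻¹) * c ∈ Q := by
          have h3 := hcc (c * h * c⁻¹) hh
          have : c⁻¹ * (c * h * c⁻¹) * c = c * h * c⁻¹ := by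
            calc c⁻¹ * (c * h * c⁻¹) * c = c⁻¹ * ((c * h * c⁻¹) * c) := by group
              _ = c⁻¹ * (c * (c * h * c⁻¹)) := by rw [h3]
              _ = c * h * c⁻¹ := by group
          rw [this]; exact hh
        have h5 : c⁻¹ * (c * h * c⁻¹) * c = h := by group
        rwa [h5] at hh2
  let Ω : Subgroup G := ⁅M, (P : Subgroup G)⁆
  have hΩM : Ω ≤ M := commutator_le_of_le_normalizer (hnormM _)
  let W : Subgroup G := Ω ⊔ S
  have hWP : W ≤ (P : Subgroup G) := sup_le (hΩM.trans hMP) inf_le_left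
  have hΩW : Ω ≤ W := le_sup_left
  have hSW : S ≤ W := le_sup_right
  have hconj : ∀ m ∈ M, ∀ w ∈ W, m * w * m⁻¹ ∈ W := by
    intro m hm w hw
    have h1 : ⁅m, w⁆ ∈ Ω := Subgroup.commutator_mem_commutator hm (hWP hw)
    have h2 : m * w * m⁻¹ = ⁅m, w⁆ * w := by
      rw [commutatorElement_def]; group
    rw [h2]
    exact W.mul_mem (hΩW h1) hw
  have hcomm : ∀ x ∈ (P : Subgroup G), ∀ y ∈ (P : Subgroup G), ⁅x, y⁆ ∈ W := by
    intro x hx y hy
    obtain ⟨m, hm, s, hs, rfl⟩ := hdec x hx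
    obtain ⟨m', hm', s', hs', rfl⟩ := hdec y hy
    have e1 : ⁅m * s, m' * s'⁆ = m * ⁅s, m' * s'⁆ * m⁻¹ * ⁅m, m' * s'⁆ := by
      simp only [commutatorElement_def]; group
    have e2 : ⁅s, m' * s'⁆ = ⁅m', s⁆⁻¹ * (m' * ⁅s, s'⁆ * m'⁻¹) := by
      simp only [commutatorElement_def]; group
    rw [e1]
    refine W.mul_mem (hconj m hm _ ?_) (hΩW (Subgroup.commutator_mem_commutator hm hy))
    rw [e2]
    refine W.mul_mem (W.inv_mem (hΩW (Subgroup.commutator_mem_commutator hm' hs.1))) (hconj m' hm' _ ?_)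
    refine hSW ?_
    rw [commutatorElement_def]
    exact S.mul_mem (S.mul_mem (S.mul_mem hs hs') (S.inv_mem hs)) (S.inv_mem hs')
  have hMW : M ≤ W := by
    refine hle.trans ?_
    rw [Subgroup.commutator_le]
    exact hcomm
  have hMΩ : M ≤ Ω := by
    intro m hm
    have h1 : S ≤ Subgroup.normalizer (Ω : Set G) :=
      inf_le_left.trans (le_normalizer_commutator_right M (P : Subgroup G))
    obtain ⟨ω, hω, s, hs, rfl⟩ := exists_mul_of_mem_sup h1 (hMW hm)
    refine Ω.mul_mem hω ?_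
    have hsM : s ∈ M := by
      have : s = ω⁻¹ * (ω * s) := by group
      rw [this]
      exact M.mul_mem (M.inv_mem (hΩM hω)) hm
    have hsC : s ∈ Subgroup.centralizer (Q : Set G) := by
      rw [Subgroup.mem_centralizer_iff]
      intro y hy
      have h2 : s * y * s⁻¹ ∈ Q := (Subgroup.mem_normalizer_iff.mp hs.2 y).mp hy
      have h3 : s * y * s⁻¹ * y⁻¹ ∈ Q := Q.mul_mem h2 (Q.inv_mem hy)
      have h4 : s * (y * s⁻¹ * y⁻¹) ∈ F :=
        F.mul_mem (hMF hsM) (hF.conj_mem _ (F.inv_mem (hMF hsM)) y)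
      have h5 : s * y * s⁻¹ * y⁻¹ = s * (y * s⁻¹ * y⁻¹) := by group
      have h6 := hFQ _ (h5 ▸ h4) h3
      have h7 : y * s = s * y := by
        have : s * y = (s * y * s⁻¹ * y⁻¹) * (y * s) := by group
        rw [this, h6, one_mul]
      exact h7
    have hsD := fixed_le_derived hqp M Q (hFp.to_le hMF) hQq hMQ hsM hsC
    exact Subgroup.commutator_mono le_rfl hMP hsD
  exact not_le_commutator_of_pGroup M _ hMP P.isPGroup' hM1 hMΩ

/-- An invariant character of a normal `p`-subgroup that extends to a subgroup of index prime to `p` extends. -/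
theorem exists_ext_of_p_ext {X : Type u} [Group X] [Fintype X] {N : Subgroup X} (hN : N.Normal)
    [Fintype N] {p : ℕ} [hp : Fact p.Prime] (hNp : IsPGroup p N) {θ : N → ℂ} (hθ : IsIrrCharacter N θ)
    (hinv : ∀ c : X, Cfsg.Agent.Lib.Char.Conj.conjOn hN c θ = θ)
    (P : Subgroup X) (hNP : N ≤ P) (η : P → ℂ) (hcop : Nat.Coprime P.index p) (hη : IsCharacter P η)
    (hext : ∀ n : N, η ⟨n, hNP n.2⟩ = θ n) :
    ∃ ψ : X → ℂ, IsIrrCharacter X ψ ∧ ∀ n : N, ψ n = θ n := by
  classical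
  have hpp : p.Prime := hp.out
  refine Cfsg.Agent.Lib.Char.Extend.exists_irr_ext_of_local hN hθ hinv ?_
  intro q hq
  by_cases hqp : q = p
  · subst hqp
    exact ⟨P, hNP, η, hcop, hη, hext⟩
  haveI hqf : Fact q.Prime := ⟨hq⟩
  let Q₁ : Sylow q X := default
  let P : Subgroup X := N ⊔ (Q₁ : Subgroup X)
  have hNP : N ≤ P := le_sup_left
  have hQP : (Q₁ : Subgroup X) ≤ P := le_sup_right
  have hidx : Nat.Coprime P.index q := by
    have h1 := Subgroup.relIndex_mul_index hQP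
    have h2 : P.index ∣ (Q₁ : Subgroup X).index := Dvd.intro_left _ h1
    have h3 : ¬ q ∣ (Q₁ : Subgroup X).index := Q₁.not_dvd_index
    apply Nat.Coprime.symm
    rw [Nat.Prime.coprime_iff_not_dvd hq]
    exact fun h4 => h3 (h4.trans h2)
  letI : Fintype P := Fintype.ofFinite _
  letI : Fintype (N.subgroupOf P) := Fintype.ofFinite _
  let eqv : N.subgroupOf P ≃* N := Subgroup.subgroupOfEquivOfLe hNP
  have hθ' : IsIrrCharacter (N.subgroupOf P) (θ ∘ eqv) := isIrrCharacter_comp_mulEquiv eqv hθ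
  have hinv' : ∀ c : P, Cfsg.Agent.Lib.Char.Conj.conjOn (hN.subgroupOf P) c (θ ∘ eqv) = θ ∘ eqv := fun c =>
    transfer_inv' hN hNP hinv c
  have hext' : ∃ η : P → ℂ, IsIrrCharacter P η ∧ ∀ n : N.subgroupOf P, η n = (θ ∘ eqv) n := by
    haveI := hN
    refine Cfsg.Agent.Lib.OddChar.Inertia.exists_ext_of_coprime (hN.subgroupOf P) hθ' hinv' ?_
    have h1 : Nat.card (N.subgroupOf P) = Nat.card N := Nat.card_congr eqv.toEquiv
    have h2 : (N.subgroupOf P).index = N.relIndex (Q₁ : Subgroup X) :=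
      Subgroup.relIndex_sup_left (Q₁ : Subgroup X) N
    rw [h1, h2]
    have h3 : N.relIndex (Q₁ : Subgroup X) ∣ Nat.card (Q₁ : Subgroup X) := Subgroup.relIndex_dvd_card _ _
    obtain ⟨k, hk⟩ := IsPGroup.iff_card.mp hNp
    obtain ⟨l, hl⟩ := IsPGroup.iff_card.mp Q₁.isPGroup'
    rw [hl] at h3
    rw [hk]
    have h4 : Nat.Coprime (p ^ k) (q ^ l) :=
      Nat.Coprime.pow k l ((Nat.coprime_primes hpp hq).mpr (Ne.symm hqp))
    exact Nat.Coprime.coprime_dvd_right h3 h4
  obtain ⟨η, hη, hηe⟩ := hext'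
  refine ⟨P, hNP, η, hidx, isCharacter_of_isIrrCharacter hη, ?_⟩
  intro n
  exact hηe (eqv.symm n) |>.trans (by simp)

/-- **Lemma 5.** `F ⊲ G` a `p`-group with `C_G(F) ≤ F`, `N` a nontrivial normal `q`-subgroup of `G/F`,
`q ≠ p`. There is `T ≤ G/F`, not containing `N`, of index prime to `p`, with
`|G/F : T| β(1) ∈ cd(G)` for every `β ∈ Irr(T)`. -/
theorem exists_inertia_bar {p q : ℕ} [hp : Fact p.Prime] [hq : Fact q.Prime] (hqp : q ≠ p)
    (F : Subgroup G) [hF : F.Normal] (hFp : IsPGroup p F)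
    (hcent : Subgroup.centralizer (F : Set G) ≤ F)
    (N : Subgroup (G ⧸ F)) (hNn : N.Normal) (hN : N ≠ ⊥) (hNq : IsPGroup q N) :
    ∃ T : Subgroup (G ⧸ F), ¬ N ≤ T ∧ ¬ p ∣ T.index ∧
      ∀ β : T → ℂ, IsIrrCharacter T β →
        ∃ χ : IrrCharacter G, charDegree (χ : G → ℂ) = T.index * charDegree β := by
  classical
  have hpp : p.Prime := hp.out
  have hqq : q.Prime := hq.out
  let N' : Subgroup G := N.comap (QuotientGroup.mk' F)
  haveI hN'n : N'.Normal := hNn.comap _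
  have hFN' : F ≤ N' := by
    intro x hx
    show QuotientGroup.mk' F x ∈ N
    have : QuotientGroup.mk' F x = 1 := (QuotientGroup.eq_one_iff _).mpr hx
    rw [this]
    exact N.one_mem
  let Q₀ : Sylow q N' := default
  let Q : Subgroup G := (Q₀ : Subgroup N').map N'.subtype
  have hQq : IsPGroup q Q := Q₀.isPGroup'.map _
  have hQN' : Q ≤ N' := Subgroup.map_subtype_le _
  have hFrat : Subgroup.normalizer (Q : Set G) ⊔ N' = ⊤ := Sylow.normalizer_sup_eq_top Q₀
  -- `N' = F Q`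
  have hN'le : N' ≤ F ⊔ Q := by
    have hKle : F ⊔ Q ≤ N' := sup_le hFN' hQN'
    have h1 : (F ⊔ Q).relIndex N' ∣ Q.relIndex N' := Subgroup.relIndex_dvd_of_le_left _ le_sup_right
    have h2 : (F ⊔ Q).relIndex N' ∣ F.relIndex N' := Subgroup.relIndex_dvd_of_le_left _ le_sup_left
    have h3 : Q.relIndex N' = (Q₀ : Subgroup N').index := by
      show (Q.subgroupOf N').index = _
      congr 1
      exact Subgroup.comap_map_eq_self_of_injective N'.subtype_injective _
    have h4 : ¬ q ∣ Q.relIndex N' := by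
      rw [h3]
      exact Q₀.not_dvd_index
    let f : N' →* G ⧸ F := (QuotientGroup.mk' F).comp N'.subtype
    have hfk : f.ker = F.subgroupOf N' := by
      ext x
      rw [MonoidHom.mem_ker, Subgroup.mem_subgroupOf]
      simp [f, QuotientGroup.eq_one_iff]
    have h5 : F.relIndex N' = Nat.card f.range := by
      show (F.subgroupOf N').index = _
      rw [← hfk, Subgroup.index_ker]
    have hfr : f.range ≤ N := by
      rintro _ ⟨x, rfl⟩
      exact x.2
    have h6 : IsPGroup q f.range := hNq.to_le hfr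
    obtain ⟨k, hk⟩ := IsPGroup.iff_card.mp h6
    rw [h5, hk] at h2
    obtain ⟨j, -, hj⟩ := (Nat.dvd_prime_pow hqq).mp h2
    have hj0 : j = 0 := by
      by_contra hne
      apply h4
      refine dvd_trans ?_ h1
      rw [hj]
      exact dvd_pow_self q hne
    have h7 : (F ⊔ Q).relIndex N' = 1 := by
      rw [hj, hj0, pow_zero]
    exact Subgroup.relIndex_eq_one.mp h7
  have hQ : Q ≠ ⊥ := by
    intro h
    apply hN
    rw [eq_bot_iff]
    intro x hx
    obtain ⟨g, rfl⟩ := QuotientGroup.mk_surjective x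
    have hg : g ∈ N' := hx
    have hg' := hN'le hg
    rw [h, sup_bot_eq] at hg'
    exact Subgroup.mem_bot.mpr ((QuotientGroup.eq_one_iff _).mpr hg')
  have hQL : Q ≤ Subgroup.normalizer (Q : Set G) := Subgroup.le_normalizer
  have hFL : F ⊔ Subgroup.normalizer (Q : Set G) = ⊤ := by
    rw [eq_top_iff, ← hFrat]
    exact sup_le le_sup_right (hN'le.trans (sup_le le_sup_left (hQL.trans le_sup_right)))
  let P : Sylow p G := default
  have hnot := not_le_commutator_sylow hqp F hFp hcent Q hQq hQ hFL P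
  obtain ⟨m, hmM, hmP'⟩ := SetLike.not_le_iff_exists.mp hnot
  -- `F ≤ P`
  have hFP : F ≤ (P : Subgroup G) := by
    have h1 : IsPGroup p ((P : Subgroup G) ⊔ F : Subgroup G) :=
      P.isPGroup'.to_sup_of_normal_right hFp
    have h2 := P.is_maximal' h1 le_sup_left
    rw [← h2]
    exact le_sup_right
  have hmF : m ∈ F := (Cfsg.Agent.Lib.Coprime.Action.commutator_le_of_le_normalizer
    (by rw [Subgroup.normalizer_eq_top_iff.mpr hF]; exact le_top)) hmM
  have hmP : m ∈ (P : Subgroup G) := hFP hmF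
  -- the linear character of `P`
  let Ph : Subgroup G := (P : Subgroup G)
  haveI : Finite (Abelianization Ph) := inferInstance
  have hane : (Abelianization.of (⟨m, hmP⟩ : Ph)) ≠ 1 := by
    intro h
    apply hmP'
    have h1 : (⟨m, hmP⟩ : Ph) ∈ commutator Ph := (QuotientGroup.eq_one_iff _).mp h
    rw [← Subgroup.map_subtype_commutator]
    exact ⟨_, h1, rfl⟩
  haveI : NeZero ((Monoid.exponent (Abelianization Ph) : ℕ) : ℂ) :=
    ⟨by exact_mod_cast (Monoid.exponent_ne_zero_of_finite (G := Abelianization Ph))⟩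
  obtain ⟨φ, hφ⟩ := CommGroup.exists_apply_ne_one_of_hasEnoughRootsOfUnity (Abelianization Ph) ℂ hane
  let ξ : Ph →* ℂˣ := φ.comp Abelianization.of
  have hξm : ξ ⟨m, hmP⟩ ≠ 1 := hφ
  let lam : F →* ℂˣ := ξ.comp (Subgroup.inclusion hFP)
  letI : Fintype F := Fintype.ofFinite _
  let θ : F → ℂ := fun n => ((lam n : ℂˣ) : ℂ)
  have hθc : IsCharacter F θ := Cfsg.Agent.Lib.CharDeep.LinearChar.isCharacter_of_hom lam
  have hθ1 : θ 1 = 1 := by simp [θ]
  have hθ : IsIrrCharacter F θ := isIrrCharacter_of_deg_one hθc hθ1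
  let T₀ : Subgroup G := inertia hF θ
  have hFT₀ : F ≤ T₀ := le_inertia hF (isClassFunction_of_isIrrCharacter hθ)
  -- `P` fixes `θ`
  have hPT₀ : (P : Subgroup G) ≤ T₀ := by
    intro g hg
    show conjOn hF g θ = θ
    funext n
    rw [conjOn_apply]
    show ((lam _ : ℂˣ) : ℂ) = ((lam n : ℂˣ) : ℂ)
    congr 1
    show ξ _ = ξ _
    have e : (⟨g * n * g⁻¹, hFP (hF.conj_mem n n.2 g)⟩ : Ph) =
        (⟨g, hg⟩ : Ph) * ⟨n, hFP n.2⟩ * (⟨g, hg⟩ : Ph)⁻¹ := rfl
    show ξ (⟨g * n * g⁻¹, hFP (hF.conj_mem n n.2 g)⟩ : Ph) = ξ ⟨n, hFP n.2⟩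
    rw [e, map_mul, map_mul, map_inv]
    exact mul_inv_cancel_comm _ _
  -- `Q` does not fix `θ`
  have hQT₀ : ¬ Q ≤ T₀ := by
    intro hQT
    have hle : ⁅F, Q⁆ ≤ (ξ.ker).map Ph.subtype := by
      rw [Subgroup.commutator_le]
      intro n hn y hy
      have hy' : conjOn hF y θ = θ := hQT hy
      have h1 := congrFun hy' ⟨n⁻¹, F.inv_mem hn⟩
      rw [conjOn_apply] at h1
      have h2 : lam ⟨y * n⁻¹ * y⁻¹, hF.conj_mem _ (F.inv_mem hn) y⟩ = lam ⟨n⁻¹, F.inv_mem hn⟩ :=
        Units.ext h1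
      have h3 : lam (⟨n, hn⟩ * ⟨y * n⁻¹ * y⁻¹, hF.conj_mem _ (F.inv_mem hn) y⟩) = 1 := by
        rw [map_mul, h2, ← map_mul]
        have : (⟨n, hn⟩ : F) * ⟨n⁻¹, F.inv_mem hn⟩ = 1 := Subtype.ext (mul_inv_cancel n)
        rw [this, map_one]
      refine ⟨⟨⁅n, y⁆, hFP ?_⟩, ?_, ?_⟩
      · rw [commutatorElement_def, mul_assoc, mul_assoc]
        exact F.mul_mem hn (by
          rw [← mul_assoc]
          exact hF.conj_mem _ (F.inv_mem hn) y)
      · show ξ _ = 1
        have e : (⟨⁅n, y⁆, hFP (by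
            rw [commutatorElement_def, mul_assoc, mul_assoc]
            exact F.mul_mem hn (by
              rw [← mul_assoc]
              exact hF.conj_mem _ (F.inv_mem hn) y))⟩ : Ph) =
            Subgroup.inclusion hFP (⟨n, hn⟩ * ⟨y * n⁻¹ * y⁻¹, hF.conj_mem _ (F.inv_mem hn) y⟩) := by
          apply Subtype.ext
          simp [commutatorElement_def, mul_assoc]
        rw [e]
        exact h3
      · rfl
    obtain ⟨z, hz, hzm⟩ := hle hmM
    apply hξm
    have : z = ⟨m, hmP⟩ := Subtype.ext hzm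
    rw [← this]
    exact hz
  let T : Subgroup (G ⧸ F) := T₀.map (QuotientGroup.mk' F)
  have hTi : T.index = T₀.index := index_map_mk hFT₀
  refine ⟨T, ?_, ?_, ?_⟩
  · intro hNT
    apply hQT₀
    intro y hy
    have h1 : QuotientGroup.mk' F y ∈ T := hNT (hQN' hy)
    obtain ⟨t, ht, hte⟩ := h1
    have h2 : t⁻¹ * y ∈ F := by
      have h4 : QuotientGroup.mk' F (t⁻¹ * y) = 1 := by rw [map_mul, map_inv, hte, inv_mul_cancel]
      exact (QuotientGroup.eq_one_iff _).mp h4
    have h3 : y = t * (t⁻¹ * y) := by group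
    rw [h3]
    exact T₀.mul_mem ht (hFT₀ h2)
  · rw [hTi]
    intro h
    exact P.not_dvd_index (h.trans (Subgroup.index_dvd_of_le hPT₀))
  · intro β hβ
    letI : Fintype T₀ := Fintype.ofFinite _
    let N'' : Subgroup T₀ := F.subgroupOf T₀
    haveI hN'' : N''.Normal := hF.subgroupOf T₀
    letI : Fintype N'' := Fintype.ofFinite _
    let eqv : N'' ≃* F := Subgroup.subgroupOfEquivOfLe hFT₀
    have hθ' : IsIrrCharacter N'' (θ ∘ eqv) := isIrrCharacter_comp_mulEquiv eqv hθ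
    have hN''p : IsPGroup p N'' := hFp.of_equiv eqv.symm
    have hN''P : N'' ≤ (P : Subgroup G).subgroupOf T₀ := Subgroup.subgroupOf_mono T₀ hFP
    let e₂ : (P : Subgroup G).subgroupOf T₀ ≃* Ph := Subgroup.subgroupOfEquivOfLe hPT₀
    let ηh : (P : Subgroup G).subgroupOf T₀ →* ℂˣ := ξ.comp e₂.toMonoidHom
    have hηc : IsCharacter _ (fun x => ((ηh x : ℂˣ) : ℂ)) :=
      Cfsg.Agent.Lib.CharDeep.LinearChar.isCharacter_of_hom ηh
    have hcop : Nat.Coprime ((P : Subgroup G).subgroupOf T₀).index p := by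
      have h1 : (P : Subgroup G).relIndex T₀ * T₀.index = (P : Subgroup G).index :=
        Subgroup.relIndex_mul_index hPT₀
      have h2 : ((P : Subgroup G).subgroupOf T₀).index ∣ (P : Subgroup G).index := Dvd.intro _ h1
      apply Nat.Coprime.symm
      rw [Nat.Prime.coprime_iff_not_dvd hpp]
      exact fun h3 => P.not_dvd_index (h3.trans h2)
    obtain ⟨ψ, hψ, hψe⟩ := exists_ext_of_p_ext hN'' hN''p hθ'
      (fun c => inv_of_inertia hF hFT₀ rfl c) _ hN''P _ hcop hηc
      (by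
        intro n
        rfl)
    have hext : ∀ n : F, ψ ⟨n, hFT₀ n.2⟩ = θ n := fun n => (hψe (eqv.symm n)).trans (by simp)
    let π : T₀ →* T := (QuotientGroup.mk' F).subgroupMap T₀
    have hπ : Function.Surjective π := (QuotientGroup.mk' F).subgroupMap_surjective T₀
    let β' : T₀ → ℂ := β ∘ π
    have hβ' : IsIrrCharacter T₀ β' := Cfsg.Agent.Lib.Char.Conj.isIrrCharacter_comp π hπ hβ
    have hβN : ∀ n : F, β' ⟨n, hFT₀ n.2⟩ = β' 1 := by
      intro n
      show β (π _) = β (π 1)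
      congr 1
      apply Subtype.ext
      rw [map_one]
      exact (QuotientGroup.eq_one_iff _).mpr n.2
    obtain ⟨χ, hχ, -, hχ1⟩ := exists_irr_of_ext hF hθ hFT₀ rfl hψ hext hβ' hβN
    refine ⟨⟨χ, hχ⟩, ?_⟩
    have h1 : β' 1 = β 1 := by
      show β (π 1) = β 1
      rw [map_one]
    have h2 := charDegree_natCast (isCharacter_of_isIrrCharacter hχ)
    have h3 := charDegree_natCast (isCharacter_of_isIrrCharacter hβ)
    have h4 : ((charDegree χ : ℕ) : ℂ) = ((T.index * charDegree β : ℕ) : ℂ) := by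
      push_cast
      rw [h2, h3, hχ1, h1, hθ1, mul_one, hTi]
    exact_mod_cast h4

end Cfsg.Agent.Lib.FourDeg.LamT
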