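import Cfsg.Agent.Lib.FourDeg.Chain
import Cfsg.Agent.Lib.FourDeg.Big
import Cfsg.Agent.Lib.FourDeg.LamT
import Cfsg.Agent.Lib.FourDeg.HStructD
import Cfsg.Agent.Lib.TI.FrattiniAction
import Cfsg.Agent.Lib.OddLocal.CN
import Cfsg.Agent.Lib.Char.Ito
import Mathlib

set_option autoImplicit false
set_option linter.unusedSectionVars false

namespace Cfsg.Agent.Lib.FourDeg.CaseD2b

open Cfsg Module
open Cfsg.Agent.Lib.Char.Basic Cfsg.Agent.Lib.Char.Ortho Cfsg.Agent.Lib.Char.Complete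
open Cfsg.Agent.Lib.Char.Degree Cfsg.Agent.Lib.Char.Clifford Cfsg.Agent.Lib.Char.Induced
open Cfsg.Agent.Lib.Char.Linear
open Cfsg.Agent.Lib.CharDeg.ThreeDeg.Perfect Cfsg.Agent.Lib.CharDeg.ThreeDeg.Uniform
open Cfsg.Agent.Lib.CharDeg.ThreeDeg.Lift Cfsg.Agent.Lib.CharDeg.ThreeDeg.Sec
open Cfsg.Agent.Lib.CharDeg.ThreeDeg.Cases Cfsg.Agent.Lib.CharDeg.ThreeDeg.Solv
open Cfsg.Agent.Lib.CharDeg.ThreeDeg.Derived
open Cfsg.Agent.Lib.Core.Basic
open scoped commutatorElement

universe u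

variable {G : Type u} [Group G] [Fintype G]

/-- Ito, for characters. -/
theorem deg_dvd_index_aux {X : Type u} [Group X] [Finite X] {χ : X → ℂ} (hχ : IsIrrCharacter X χ)
    (A : Subgroup X) [A.Normal] (hA : ∀ a ∈ A, ∀ b ∈ A, a * b = b * a) : charDegree χ ∣ A.index := by
  obtain ⟨n, ρ, hρ, rfl⟩ := hχ
  rw [Cfsg.Agent.Lib.Char.Degree.charDegree_character]
  haveI := hρ
  exact Cfsg.Agent.Lib.Char.Ito.finrank_dvd_index_of_abelian_normal ρ A hA

/-- The Fitting subgroup of `G/F'` is `F/F'`. -/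
theorem fitting_le_gen {p : ℕ} [hp : Fact p.Prime] (F : Subgroup G) [hF : F.Normal]
    (hFp : IsPGroup p F) (hcent : Subgroup.centralizer (F : Set G) ≤ F)
    (hfit : ∀ M : Subgroup G, M.Normal → IsPGroup p M → M ≤ F) (R : Subgroup G) [hRn : R.Normal]
    (hRdef : R = ⁅F, F⁆) :
    fittingSubgroup (G ⧸ R) ≤ F.map (QuotientGroup.mk' R) := by
  classical
  have hpp : p.Prime := hp.out
  let π : G →* G ⧸ R := QuotientGroup.mk' R
  have hπs : Function.Surjective π := QuotientGroup.mk'_surjective R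
  have hFb : (F.map π).Normal := hF.map π hπs
  have hFbp : IsPGroup p (F.map π) := hFp.map π
  have hFbnil : F.map π ≤ fittingSubgroup (G ⧸ R) := le_fittingSubgroup hFb hFbp.isNilpotent
  have hYn : ((fittingSubgroup (G ⧸ R)).comap π).Normal :=
    (fittingSubgroup_normal' (G := G ⧸ R)).comap π
  have hNF : R ≤ (frattini F).map F.subtype := by
    rw [hRdef, ← Subgroup.map_subtype_commutator F]
    exact Subgroup.map_mono (Cfsg.Agent.Lib.PGroups.Basic.commutator_le_frattini hFp)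
  -- every element of the preimage has `p`-power order
  have hYp : IsPGroup p ((fittingSubgroup (G ⧸ R)).comap π) := by
    intro y
    obtain ⟨a, m, hcop, ho⟩ : ∃ a m : ℕ, m.Coprime p ∧ orderOf (y : G) = p ^ a * m := by
      have h0 : orderOf (y : G) ≠ 0 := (orderOf_pos _).ne'
      refine ⟨(orderOf (y : G)).factorization p, orderOf (y : G) / p ^ (orderOf (y : G)).factorization p, ?_, ?_⟩
      · exact (Nat.coprime_ordCompl hpp h0).symm
      · exact (Nat.ordProj_mul_ordCompl_eq_self _ _).symm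
    -- the `p'`-part
    set u : G := (y : G) ^ p ^ a with hu
    have hum : u ^ m = 1 := by
      rw [hu, ← pow_mul, ← ho, pow_orderOf_eq_one]
    have huo : (orderOf u).Coprime p := Nat.Coprime.coprime_dvd_left (orderOf_dvd_of_pow_eq_one hum) hcop
    have huY : u ∈ (fittingSubgroup (G ⧸ R)).comap π := Subgroup.pow_mem _ y.2 _
    have htriv : u ∈ Cfsg.Agent.Lib.TI.FrattiniAction.trivOn F R := by
      rw [Cfsg.Agent.Lib.TI.FrattiniAction.mem_trivOn]
      intro f hf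
      have hfb : π f ∈ fittingSubgroup (G ⧸ R) := hFbnil ⟨f, hf, rfl⟩
      have hco : (orderOf (π u)).Coprime (orderOf (π f)) := by
        obtain ⟨k, hk⟩ := hFp ⟨f, hf⟩
        have h1 : π f ^ p ^ k = 1 := by
          have h2 : f ^ p ^ k = 1 := by simpa using congrArg Subtype.val hk
          rw [← map_pow, h2, map_one]
        have h2 : orderOf (π f) ∣ p ^ k := orderOf_dvd_of_pow_eq_one h1
        have h3 : orderOf (π u) ∣ orderOf u := orderOf_map_dvd π u
        exact Nat.Coprime.coprime_dvd_left h3 (Nat.Coprime.coprime_dvd_right h2 (huo.pow_right k))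
      have hcomm := Cfsg.Agent.Lib.OddLocal.CN.commute_of_coprime' fittingSubgroup_isNilpotent huY hfb hco
      have h4 : π (u * f * u⁻¹ * f⁻¹) = 1 := by
        simp only [map_mul, map_inv]
        rw [hcomm.eq]
        group
      rw [← QuotientGroup.eq_one_iff]
      exact h4
    have hc := Cfsg.Agent.Lib.TI.FrattiniAction.centralizes_of_coprime F R hFp hNF htriv huo
    have huC : u ∈ Subgroup.centralizer (F : Set G) := by
      rw [Subgroup.mem_centralizer_iff]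
      intro q hq
      exact (hc q hq).symm
    have huF := hcent huC
    obtain ⟨k, hk⟩ := hFp ⟨u, huF⟩
    have hk' : u ^ p ^ k = 1 := by simpa using congrArg Subtype.val hk
    have hu1 : u = 1 := by
      have h5 : orderOf u ∣ p ^ k := orderOf_dvd_of_pow_eq_one hk'
      have h6 : orderOf u = 1 := Nat.Coprime.eq_one_of_dvd (huo.pow_right k) h5
      exact orderOf_eq_one_iff.mp h6
    refine ⟨a, Subtype.ext ?_⟩
    simpa [hu] using hu1
  have hle := hfit _ hYn hYp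
  intro x hx
  obtain ⟨g, rfl⟩ := hπs x
  exact ⟨g, hle hx, rfl⟩

/-- Step (7): the large degree divides `|G/F|`. -/
theorem c_dvd_aux [Group.IsSolvable G] {p : ℕ} [hp : Fact p.Prime] (F : Subgroup G) [hF : F.Normal]
    (hFp : IsPGroup p F) (hcent : Subgroup.centralizer (F : Set G) ≤ F)
    (hfit : ∀ M : Subgroup G, M.Normal → IsPGroup p M → M ≤ F) {z u c : ℕ}
    (hz : z ≠ 1) (huz : u < z)
    (hdeg : ∀ χ : IrrCharacter G, charDegree (χ : G → ℂ) = 1 ∨ charDegree (χ : G → ℂ) = z ∨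
      charDegree (χ : G → ℂ) = u ∨ charDegree (χ : G → ℂ) = c)
    {χ₀ : G ⧸ F → ℂ} (hχ₀ : IsIrrCharacter (G ⧸ F) χ₀) (hχ₀z : charDegree χ₀ = z) :
    c ∣ Nat.card (G ⧸ F) := by
  classical
  have hRF : (⁅F, F⁆ : Subgroup G) ≤ F := Subgroup.commutator_le_left F F
  let π : G →* G ⧸ (⁅F, F⁆ : Subgroup G) := QuotientGroup.mk' _
  have hπs : Function.Surjective π := QuotientGroup.mk'_surjective _
  let ι : G ⧸ (⁅F, F⁆ : Subgroup G) →* G ⧸ F :=
    QuotientGroup.map _ _ (MonoidHom.id G) (fun x hx => hRF hx)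
  have hιπ : ∀ g : G, ι (π g) = QuotientGroup.mk' F g := fun g => rfl
  have hιs : Function.Surjective ι := by
    intro x
    obtain ⟨g, rfl⟩ := QuotientGroup.mk'_surjective F x
    exact ⟨π g, rfl⟩
  have hir := Cfsg.Agent.Lib.Char.Linear.isIrrCharacter_comp ι hιs hχ₀
  have hχc := isCharacter_of_isIrrCharacter hir
  have hdz : charDegree (χ₀ ∘ ι) = z := by
    rw [← hχ₀z]
    unfold charDegree
    simp
  have hFK : F.map π ≤ charKer hχc := by
    rintro _ ⟨f, hf, rfl⟩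
    change (χ₀ ∘ ι) (π f) = (χ₀ ∘ ι) 1
    have h2 : ι (π f) = 1 := by
      rw [hιπ, QuotientGroup.mk'_apply, QuotientGroup.eq_one_iff]
      exact hf
    simp only [Function.comp_apply, h2, map_one]
  have hcase : ¬ charKer hχc ≤ fittingSubgroup (G ⧸ (⁅F, F⁆ : Subgroup G)) ∨
      (charKer hχc = fittingSubgroup (G ⧸ (⁅F, F⁆ : Subgroup G)) ∧
        Group.IsSolvable ((G ⧸ (⁅F, F⁆ : Subgroup G)) ⧸ charKer hχc) ∧ charKer hχc ≠ ⊤) := by
    by_cases hle : charKer hχc ≤ fittingSubgroup (G ⧸ (⁅F, F⁆ : Subgroup G))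
    · right
      have hfl := fitting_le_gen F hFp hcent hfit (⁅F, F⁆ : Subgroup G) rfl
      have heq : charKer hχc = fittingSubgroup (G ⧸ (⁅F, F⁆ : Subgroup G)) :=
        le_antisymm hle (hfl.trans hFK)
      refine ⟨heq, inferInstance, ?_⟩
      intro htop
      have hFtop : F.map π = ⊤ := by
        rw [eq_top_iff, ← htop, heq]
        exact hfl
      have hone : ∀ x : G ⧸ F, x = 1 := by
        intro x
        obtain ⟨g, rfl⟩ := QuotientGroup.mk'_surjective F x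
        have hg : π g ∈ F.map π := by rw [hFtop]; exact Subgroup.mem_top _
        obtain ⟨f, hf, hfg⟩ := hg
        rw [← hιπ, ← hfg, hιπ, QuotientGroup.mk'_apply, QuotientGroup.eq_one_iff]
        exact hf
      have hcm : ∀ a b : G ⧸ F, a * b = b * a := by
        intro a b
        rw [hone a, hone b]
      have h3 := isIrr_deg_one_of_comm hcm hχ₀
      have h4 := charDegree_natCast (isCharacter_of_isIrrCharacter hχ₀)
      rw [h3, hχ₀z] at h4
      exact hz (by exact_mod_cast h4)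
    · exact Or.inl hle
  obtain ⟨ψ, hψ, -⟩ := Cfsg.Agent.Lib.KerFit.Main.exists_larger_degree_smaller_kernel ⟨_, hir⟩
    (charKer hχc) (fun g => Iff.rfl) hcase
  simp only at hψ
  rw [hdz] at hψ
  have hir2 := Cfsg.Agent.Lib.Char.Linear.isIrrCharacter_comp π hπs ψ.2
  have hd2 : charDegree ((ψ : G ⧸ (⁅F, F⁆ : Subgroup G) → ℂ) ∘ π) = charDegree (ψ : G ⧸ (⁅F, F⁆ : Subgroup G) → ℂ) :=
    charDegree_comp_mk _ _
  have hc : charDegree (ψ : G ⧸ (⁅F, F⁆ : Subgroup G) → ℂ) = c := by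
    rcases hdeg ⟨_, hir2⟩ with h2 | h2 | h2 | h2 <;> simp only at h2 <;> rw [hd2] at h2 <;> omega
  rw [← hc]
  haveI hFbn : (F.map π).Normal := hF.map π hπs
  have hdv := deg_dvd_index_aux ψ.2 (F.map π) (by
    rintro _ ⟨a, ha, rfl⟩ _ ⟨b, hb, rfl⟩
    rw [← map_mul, ← map_mul]
    have h1 : π (a * b) * (π (b * a))⁻¹ = 1 := by
      rw [← map_inv, ← map_mul, QuotientGroup.mk'_apply, QuotientGroup.eq_one_iff]
      have h2 : a * b * (b * a)⁻¹ = ⁅a, b⁆ := by
        rw [commutatorElement_def]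
        group
      rw [h2]
      exact Subgroup.commutator_mem_commutator ha hb
    exact mul_inv_eq_one.mp h1)
  have hidx : (F.map π).index = Nat.card (G ⧸ F) := by
    have h1 : (F.map π).index = F.index :=
      Subgroup.index_map_eq F hπs (by rw [QuotientGroup.ker_mk']; exact hRF)
    rw [h1, Subgroup.index_eq_card]
  rw [hidx] at hdv
  exact hdv

/-- **Case D2b.** -/
theorem main [Group.IsSolvable G] {p : ℕ} [hp : Fact p.Prime] (F : Subgroup G) [hF : F.Normal] (hFp : IsPGroup p F)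
    (hcent : Subgroup.centralizer (F : Set G) ≤ F)
    (hfit : ∀ M : Subgroup G, M.Normal → IsPGroup p M → M ≤ F)
    (hOp : ∀ M : Subgroup (G ⧸ F), M.Normal → IsPGroup p M → M = ⊥) {z u c : ℕ}
    (hz : z ≠ 1) (hu : u ≠ 1) (hzc : z < c) (huc : u < c)
    (hdeg : ∀ χ : IrrCharacter G, charDegree (χ : G → ℂ) = 1 ∨ charDegree (χ : G → ℂ) = z ∨
      charDegree (χ : G → ℂ) = u ∨ charDegree (χ : G → ℂ) = c)
    (hQ : ∀ χ : IrrCharacter (G ⧸ F), charDegree (χ : G ⧸ F → ℂ) = 1 ∨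
      charDegree (χ : G ⧸ F → ℂ) = z ∨ charDegree (χ : G ⧸ F → ℂ) = u)
    (hexz : ∃ χ : IrrCharacter (G ⧸ F), charDegree (χ : G ⧸ F → ℂ) = z)
    (hexu : ∃ χ : IrrCharacter (G ⧸ F), charDegree (χ : G ⧸ F → ℂ) = u)
    (hpu : p ∣ u) (hpz : ¬ p ∣ z) (hpc : p ∣ c) : derivedSeries G 4 = ⊥ := by
  classical
  have hpp : p.Prime := hp.out
  letI : Fintype (G ⧸ F) := Fintype.ofFinite _
  letI : Fintype F := Fintype.ofFinite _
  have hT : ∀ (q : ℕ) [Fact q.Prime], q ≠ p → ∀ N : Subgroup (G ⧸ F), N.Normal → N ≠ ⊥ → IsPGroup q N →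
      ∃ T : Subgroup (G ⧸ F), ¬ N ≤ T ∧ T.index = z := by
    intro q _ hqp N hNn hN hNq
    obtain ⟨T, hNT, hpT, hβ⟩ := Cfsg.Agent.Lib.FourDeg.LamT.exists_inertia_bar hqp F hFp hcent N hNn hN hNq
    refine ⟨T, hNT, ?_⟩
    obtain ⟨χ, hχ⟩ := hβ (fun _ => 1)
      (Cfsg.Agent.Lib.Char.Linear.isIrrCharacter_of_deg_one isCharacter_one rfl)
    have h1 : charDegree (fun _ : T => (1 : ℂ)) = 1 := by simp [charDegree]
    rw [h1, mul_one] at hχ
    have hT1 : T.index ≠ 1 := by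
      intro h
      rw [Subgroup.index_eq_one] at h
      exact hNT (h ▸ le_top)
    rcases hdeg χ with h2 | h2 | h2 | h2
    · omega
    · omega
    · exfalso
      apply hpT
      rw [← hχ, h2]
      exact hpu
    · exfalso
      apply hpT
      rw [← hχ, h2]
      exact hpc
  obtain ⟨huz, hab, ⟨M, hMn, hMp, hMi⟩, -, hval⟩ :=
    Cfsg.Agent.Lib.FourDeg.HStructD.d2b_struct hOp hz hu hQ hexz hexu hpu hpz hT
  obtain ⟨χ₀, hχ₀⟩ := hexz
  -- `G'' ≤ F`
  have hQ2 : derivedSeries (G ⧸ F) 2 = ⊥ := by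
    change ⁅derivedSeries (G ⧸ F) 1, derivedSeries (G ⧸ F) 1⁆ = ⊥
    rw [derivedSeries_one, eq_bot_iff, Subgroup.commutator_le]
    intro a ha b hb
    rw [Subgroup.mem_bot, commutatorElement_eq_one_iff_mul_comm]
    exact hab a ha b hb
  have hYF : derivedSeries G 2 ≤ F := by
    have h1 := map_derivedSeries_eq (QuotientGroup.mk'_surjective F) 2
    rw [hQ2] at h1
    intro x hx
    have h2 : QuotientGroup.mk' F x ∈ (derivedSeries G 2).map (QuotientGroup.mk' F) := ⟨x, hx, rfl⟩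
    rw [h1, Subgroup.mem_bot, QuotientGroup.mk'_apply, QuotientGroup.eq_one_iff] at h2
    exact h2
  obtain ⟨R, hRdef⟩ : ∃ R : Subgroup G, R = ⁅F, F⁆ := ⟨_, rfl⟩
  haveI hRn : R.Normal := by rw [hRdef]; exact Subgroup.commutator_normal F F
  have hRF : R ≤ F := by rw [hRdef]; exact Subgroup.commutator_le_left F F
  have hRp : IsPGroup p R := hFp.to_le hRF
  have h3R : derivedSeries G 3 ≤ R := by
    rw [hRdef]
    exact Subgroup.commutator_mono hYF hYF
  have h4R : derivedSeries G 4 ≤ ⁅R, R⁆ := Subgroup.commutator_mono h3R h3R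
  by_contra hne
  have hRR : (⁅R, R⁆ : Subgroup G) ≠ ⊥ := by
    intro h0
    rw [h0] at h4R
    exact hne (le_bot_iff.mp h4R)
  obtain ⟨x₀, hx₀, hx₀1⟩ : ∃ x ∈ (⁅R, R⁆ : Subgroup G), x ≠ 1 := by
    rcases Subgroup.bot_or_exists_ne_one (⁅R, R⁆ : Subgroup G) with h0 | h0
    · exact absurd h0 hRR
    · exact h0
  have hx₀R : x₀ ∈ R := Subgroup.commutator_le_left R R hx₀
  -- the character `θ` of `F`
  obtain ⟨θ, hθne⟩ : ∃ θ : IrrCharacter F, (θ : F → ℂ) ⟨x₀, hRF hx₀R⟩ ≠ (θ : F → ℂ) 1 := by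
    by_contra hcon
    push Not at hcon
    apply hx₀1
    have := eq_one_of_forall_irr hcon
    simpa using congrArg Subtype.val this
  have hθc := isCharacter_of_isIrrCharacter θ.2
  have hθ2 : 2 ≤ charDegree (θ : F → ℂ) := by
    have hpos := charDegree_pos θ.2
    by_contra hlt
    have h1 : charDegree (θ : F → ℂ) = 1 := by omega
    have hω1 : (θ : F → ℂ) 1 = 1 := by
      rw [← charDegree_natCast hθc, h1]
      simp
    apply hθne
    rw [hω1]
    have hm : x₀ ∈ (commutator F).map F.subtype := by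
      rw [Subgroup.map_subtype_commutator F, ← hRdef]
      exact hx₀R
    obtain ⟨w, hw, hwy⟩ := hm
    have h3 : w = ⟨x₀, hRF hx₀R⟩ := Subtype.ext hwy
    rw [← h3]
    exact linear_eq_one_of_mem_commutator hθc hω1 hw
  obtain ⟨χ, hχ, hχin, hχle⟩ := Cfsg.Agent.Lib.FourDeg.Big.big_pnil F hFp M hMn hMp hMi χ₀.2
    (by rw [hχ₀]; exact hpz) θ.2
  rw [hχ₀] at hχle
  have hz0 : 0 < z := by
    rw [← hχ₀]
    exact charDegree_pos χ₀.2
  have hχc : charDegree χ = c := by
    have hgt : z < charDegree χ := by nlinarith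
    rcases hdeg ⟨χ, hχ⟩ with h2 | h2 | h2 | h2 <;> simp only at h2 <;> omega
  have hχne : χ x₀ ≠ χ 1 := by
    intro h
    apply hθne
    exact Cfsg.Agent.Lib.KerFit.Main.ker_of_constituent
      (isCharacter_restrict F (isCharacter_of_isIrrCharacter hχ)) θ.2 hχin
      (y := ⟨x₀, hRF hx₀R⟩) (by simpa using h)
  obtain ⟨χ', hχ', ⟨x, hxR, hxne⟩, hlt⟩ := Cfsg.Agent.Lib.FourDeg.Chain.exists_lower_val R hRp hχ hx₀ hχne
  rw [hχc] at hlt
  have hpχ' : p ∣ charDegree χ' := dvd_of_ne_on_commutator F hFp hχ' (hRdef ▸ hxR) hxne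
  have hχ'u : charDegree χ' = u := by
    rcases hdeg ⟨χ', hχ'⟩ with h2 | h2 | h2 | h2 <;> simp only at h2
    · exfalso
      rw [h2] at hpχ'
      exact hpp.one_lt.ne' (Nat.dvd_one.mp hpχ')
    · exfalso
      rw [h2] at hpχ'
      exact hpz hpχ'
    · exact h2
    · exfalso
      rw [h2] at hlt
      exact lt_irrefl _ hlt
  rw [hχ'u] at hlt
  have hcd := c_dvd_aux F hFp hcent hfit hz huz hdeg χ₀.2 hχ₀
  have hc0 : c ≠ 0 := by omega
  have hu0 : u ≠ 0 := by
    obtain ⟨χu, hχu⟩ := hexu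
    rw [← hχu]
    exact (charDegree_pos χu.2).ne'
  have h5 : p ^ c.factorization p ∣ Nat.card (G ⧸ F) := (Nat.ordProj_dvd c p).trans hcd
  have h6 := hval _ h5
  have h7 := (hpp.pow_dvd_iff_le_factorization hu0).mp h6
  omega

end Cfsg.Agent.Lib.FourDeg.CaseD2b
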