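import Cfsg.Agent.Lib.FourDeg.Chain
import Cfsg.Agent.Lib.FourDeg.Reg
import Cfsg.Agent.Lib.FourDeg.TwoStruct
import Cfsg.Agent.Lib.FourDeg.Perm
import Cfsg.Agent.S4493
import Mathlib

set_option autoImplicit false
set_option linter.unusedSectionVars false

namespace Cfsg.Agent.Lib.FourDeg.HStructB

open Cfsg Module
open Cfsg.Agent.Lib.Char.Basic Cfsg.Agent.Lib.Char.Ortho Cfsg.Agent.Lib.Char.Complete
open Cfsg.Agent.Lib.Char.Degree Cfsg.Agent.Lib.Char.Clifford Cfsg.Agent.Lib.Char.Induced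
open Cfsg.Agent.Lib.Char.Linear
open Cfsg.Agent.Lib.CharDeg.ThreeDeg.Perfect Cfsg.Agent.Lib.CharDeg.ThreeDeg.Uniform
open Cfsg.Agent.Lib.CharDeg.ThreeDeg.Lift Cfsg.Agent.Lib.CharDeg.ThreeDeg.Sec
open Cfsg.Agent.Lib.CharDeg.ThreeDeg.Cases Cfsg.Agent.Lib.CharDeg.ThreeDeg.Solv
open Cfsg.Agent.Lib.CharDeg.ThreeDeg.Derived
open Cfsg.Agent.Lib.Core.Basic

universe u

variable {H : Type u} [Group H] [Fintype H] [Group.IsSolvable H]

/-- The stabiliser of a linear character of `J` inside `P` is a subgroup. -/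
theorem exists_fix_subgroup {J : Subgroup H} (hJ : J.Normal) (P : Subgroup H) (ρ : J →* ℂˣ) :
    ∃ S : Subgroup H, ∀ g, g ∈ S ↔ g ∈ P ∧ Reg.FixesLin hJ ρ g := by
  refine ⟨{ carrier := {g | g ∈ P ∧ Reg.FixesLin hJ ρ g}
            mul_mem' := ?_
            one_mem' := ?_
            inv_mem' := ?_ }, fun g => Iff.rfl⟩
  · rintro a b ⟨ha, hfa⟩ ⟨hb, hfb⟩
    refine ⟨P.mul_mem ha hb, fun n => ?_⟩
    have h1 := hfa ⟨b * n * b⁻¹, hJ.conj_mem n n.2 b⟩
    have h2 := hfb n
    rw [← h2, ← h1]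
    congr 1
    apply Subtype.ext
    simp only
    group
  · refine ⟨P.one_mem, fun n => ?_⟩
    congr 1
    apply Subtype.ext
    simp
  · rintro a ⟨ha, hfa⟩
    refine ⟨P.inv_mem ha, fun n => ?_⟩
    have h1 := hfa ⟨a⁻¹ * n * a⁻¹⁻¹, hJ.conj_mem n n.2 a⁻¹⟩
    rw [← h1]
    congr 1
    apply Subtype.ext
    simp only
    group

/-- If `O_p(H) = 1`, then `F(H)` is a `p'`-group. -/
theorem not_dvd_card_fitting {p : ℕ} [hp : Fact p.Prime]
    (hOp : ∀ M : Subgroup H, M.Normal → IsPGroup p M → M = ⊥) :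
    ¬ p ∣ Nat.card (fittingSubgroup H) := by
  classical
  intro hd
  set K := fittingSubgroup H with hK
  have hKn : K.Normal := Cfsg.Agent.Lib.Components.Basic.fittingSubgroup_normal'
  have hnil : Group.IsNilpotent K := fittingSubgroup_isNilpotent
  have h : pCore p H = ⊥ := hOp _ inferInstance pCore_isPGroup
  have hmap := map_pCore_of_isSubnormal (p := p) (K := K) (Subgroup.Normal.isSubnormal hKn)
  rw [h, bot_inf_eq] at hmap
  have hbot : pCore p K = ⊥ := (Subgroup.map_eq_bot_iff_of_injective _ K.subtype_injective).1 hmap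
  obtain ⟨y, hy⟩ := exists_prime_orderOf_dvd_card' p hd
  obtain ⟨Q⟩ := (inferInstance : Nonempty (Sylow p K))
  have htf : ∀ (q : ℕ) (_ : Fact q.Prime) (P : Sylow q K), (P : Subgroup K).Normal :=
    (Group.isNilpotent_of_finite_tfae (G := K)).out 0 3 |>.mp hnil
  have hQn := htf p inferInstance Q
  have hQb : (Q : Subgroup K) ≤ pCore p K := le_pCore hQn Q.isPGroup'
  rw [hbot] at hQb
  have hz : IsPGroup p (Subgroup.zpowers y) := by
    rw [IsPGroup.iff_card, Nat.card_zpowers, hy]
    exact ⟨1, (pow_one p).symm⟩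
  obtain ⟨R, hR⟩ := hz.exists_le_sylow
  have hRQ : R = Q := by
    haveI := Sylow.unique_of_normal Q hQn
    exact Subsingleton.elim R Q
  have hyQ : y ∈ (Q : Subgroup K) := by
    rw [← hRQ]
    exact hR (Subgroup.mem_zpowers y)
  have h1 : y = 1 := hQb hyQ
  rw [h1, orderOf_one] at hy
  exact hp.out.one_lt.ne hy

/-- Structure of `H` with `cd(H) = {1, z, u}`, `p ∣ u`, `p ∤ z`, `O_p(H) = 1`:
either all `p`-subgroups are cyclic or `H` is `p`-nilpotent with `u < z`. -/
theorem b1ii_struct {p z u : ℕ} [hp : Fact p.Prime]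
    (hOp : ∀ M : Subgroup H, M.Normal → IsPGroup p M → M = ⊥) (hz : z ≠ 1) (hu : u ≠ 1)
    (hcd : ∀ χ : IrrCharacter H, charDegree (χ : H → ℂ) = 1 ∨ charDegree (χ : H → ℂ) = z ∨
      charDegree (χ : H → ℂ) = u)
    (hexz : ∃ χ : IrrCharacter H, charDegree (χ : H → ℂ) = z)
    (hexu : ∃ χ : IrrCharacter H, charDegree (χ : H → ℂ) = u) (hpu : p ∣ u) (hpz : ¬ p ∣ z) :
    (∀ P : Subgroup H, IsPGroup p P → IsCyclic P) ∨
      (u < z ∧ ∃ M : Subgroup H, M.Normal ∧ ¬ p ∣ Nat.card M ∧ ∃ k, M.index = p ^ k) := by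
  classical
  have hpp : p.Prime := hp.out
  obtain ⟨J, hJdef⟩ : ∃ J : Subgroup H, J = fittingSubgroup H := ⟨_, rfl⟩
  haveI hJn : J.Normal := by
    rw [hJdef]
    exact Cfsg.Agent.Lib.Components.Basic.fittingSubgroup_normal'
  letI : Fintype J := Fintype.ofFinite _
  letI : Fintype (H ⧸ J) := Fintype.ofFinite _
  have hJp : ¬ p ∣ Nat.card J := by
    rw [hJdef]
    exact not_dvd_card_fitting hOp
  have hu0 : 0 < u := by
    obtain ⟨χ, hχ⟩ := hexu
    rw [← hχ]
    exact charDegree_pos χ.2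
  have hz0 : 0 < z := by
    obtain ⟨χ, hχ⟩ := hexz
    rw [← hχ]
    exact charDegree_pos χ.2
  -- the largest degree does not occur in the quotient
  have hnotmax : ∀ φ : IrrCharacter (H ⧸ J), z ≤ charDegree (φ : H ⧸ J → ℂ) →
      u ≤ charDegree (φ : H ⧸ J → ℂ) → False := by
    intro φ hφz hφu
    have hir := Cfsg.Agent.Lib.Char.Linear.isIrrCharacter_comp (QuotientGroup.mk' J)
      (QuotientGroup.mk'_surjective J) φ.2
    have hd := charDegree_comp_mk J (φ : H ⧸ J → ℂ)
    have hχc := isCharacter_of_isIrrCharacter hir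
    have hFK : J ≤ charKer hχc := by
      intro x hx
      change ((φ : H ⧸ J → ℂ) ∘ QuotientGroup.mk' J) x = ((φ : H ⧸ J → ℂ) ∘ QuotientGroup.mk' J) 1
      have h2 : QuotientGroup.mk' J x = 1 := by
        rw [QuotientGroup.mk'_apply, QuotientGroup.eq_one_iff]
        exact hx
      simp only [Function.comp_apply, h2, map_one]
    have hcase : ¬ charKer hχc ≤ fittingSubgroup H ∨
        (charKer hχc = fittingSubgroup H ∧ Group.IsSolvable (H ⧸ charKer hχc) ∧ charKer hχc ≠ ⊤) := by
      by_cases hle : charKer hχc ≤ fittingSubgroup H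
      · right
        have heq : charKer hχc = fittingSubgroup H := le_antisymm hle (hJdef ▸ hFK)
        refine ⟨heq, inferInstance, ?_⟩
        intro htop
        have hFtop : J = ⊤ := by rw [hJdef]; exact heq.symm.trans htop
        have hcm : ∀ u v : H ⧸ J, u * v = v * u := by
          intro u v
          obtain ⟨u, rfl⟩ := QuotientGroup.mk'_surjective J u
          obtain ⟨v, rfl⟩ := QuotientGroup.mk'_surjective J v
          have hu : QuotientGroup.mk' J u = 1 := by
            rw [QuotientGroup.mk'_apply, QuotientGroup.eq_one_iff, hFtop]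
            exact Subgroup.mem_top u
          rw [hu, one_mul, mul_one]
        have h3 := isIrr_deg_one_of_comm hcm φ.2
        have h4 := charDegree_natCast (isCharacter_of_isIrrCharacter φ.2)
        rw [h3] at h4
        have h5 : charDegree (φ : H ⧸ J → ℂ) = 1 := by exact_mod_cast h4
        omega
      · exact Or.inl hle
    obtain ⟨ψ, hψ, -⟩ := Cfsg.Agent.Lib.KerFit.Main.exists_larger_degree_smaller_kernel ⟨_, hir⟩
      (charKer hχc) (fun g => Iff.rfl) hcase
    simp only at hψ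
    rw [hd] at hψ
    have h1 : 1 ≤ charDegree (φ : H ⧸ J → ℂ) := charDegree_pos φ.2
    rcases hcd ψ with h2 | h2 | h2 <;> omega
  have hdegu : ∀ χ : IrrCharacter H, p ∣ charDegree (χ : H → ℂ) → charDegree (χ : H → ℂ) = u := by
    intro χ hχ
    rcases hcd χ with h1 | h1 | h1
    · exfalso
      rw [h1] at hχ
      exact hpp.one_lt.ne' (Nat.dvd_one.mp hχ)
    · exfalso
      rw [h1] at hχ
      exact hpz hχ
    · exact h1
  by_cases hall : ∀ φ : IrrCharacter (H ⧸ J), ¬ p ∣ charDegree (φ : H ⧸ J → ℂ)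
  · -- case (a)
    left
    obtain ⟨Phat, hPn, hPc, hPp, hPi⟩ := (Cfsg.Agent.S4493.result (G := H ⧸ J) inferInstance p hpp).mpr hall
    let P₀ : Sylow p H := default
    obtain ⟨P, hPdef⟩ : ∃ P : Subgroup H, P = (P₀ : Subgroup H) := ⟨_, rfl⟩
    have hPg : IsPGroup p P := by rw [hPdef]; exact P₀.isPGroup'
    have hPs : ¬ p ∣ P.index := by rw [hPdef]; exact P₀.not_dvd_index
    have hQp : IsPGroup p (P.map (QuotientGroup.mk' J)) := hPg.map _
    have hQi : ¬ p ∣ (P.map (QuotientGroup.mk' J)).index := fun h =>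
      hPs (h.trans (Subgroup.index_map_dvd P (QuotientGroup.mk'_surjective J)))
    have hQP : P.map (QuotientGroup.mk' J) = Phat := by
      let S1 : Sylow p (H ⧸ J) := hQp.toSylow hQi
      let S2 : Sylow p (H ⧸ J) := hPp.toSylow hPi
      haveI := Sylow.unique_of_normal S2 (by simpa [S2] using hPn)
      have h1 : S1 = S2 := Subsingleton.elim _ _
      have h2 := congrArg (fun S : Sylow p (H ⧸ J) => (S : Subgroup (H ⧸ J))) h1
      simpa [S1, S2] using h2
    have hE : (J ⊔ P).Normal := by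
      have h1 : (P.map (QuotientGroup.mk' J)).comap (QuotientGroup.mk' J) = P ⊔ J := by
        rw [Subgroup.comap_map_eq, QuotientGroup.ker_mk']
      rw [sup_comm, ← h1, hQP]
      exact hPn.comap _
    have hinter : ∀ x ∈ J, x ∈ P → x = 1 := by
      intro x hxJ hxP
      obtain ⟨k, hk⟩ := IsPGroup.iff_card.mp hPg
      have h1 : orderOf x ∣ p ^ k := by
        rw [← hk, ← Subgroup.orderOf_mk x hxP]
        exact orderOf_dvd_natCard _
      have h2 : orderOf x ∣ Nat.card J := by
        rw [← Subgroup.orderOf_mk x hxJ]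
        exact orderOf_dvd_natCard _
      have hcop : Nat.Coprime (p ^ k) (Nat.card J) :=
        Nat.Coprime.pow_left k ((Nat.Prime.coprime_iff_not_dvd hpp).mpr hJp)
      have h3 := Nat.eq_one_of_dvd_coprimes hcop h1 h2
      exact orderOf_eq_one_iff.mp h3
    have hPab : ∀ a ∈ P, ∀ b ∈ P, a * b = b * a := by
      intro a ha b hb
      have hma : QuotientGroup.mk' J a ∈ Phat := hQP ▸ ⟨a, ha, rfl⟩
      have hmb : QuotientGroup.mk' J b ∈ Phat := hQP ▸ ⟨b, hb, rfl⟩
      have h1 := hPc _ hma _ hmb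
      have h2 : a * b * (b * a)⁻¹ ∈ J := by
        rw [← QuotientGroup.eq_one_iff]
        change QuotientGroup.mk' J (a * b * (b * a)⁻¹) = 1
        rw [map_mul, map_mul, map_inv, map_mul, h1, mul_inv_cancel]
      have h3 : a * b * (b * a)⁻¹ ∈ P := P.mul_mem (P.mul_mem ha hb) (P.inv_mem (P.mul_mem hb ha))
      have h4 := hinter _ h2 h3
      exact mul_inv_eq_one.mp h4
    have hcyc : IsCyclic P := by
      by_contra hnc
      obtain ⟨ρ₂, ⟨g, hgP, hg1, hgf⟩, ⟨g', hg'P, hg'f⟩⟩ :=
        Reg.exists_linear_nonregular hOp J hJdef hJn P hPg hPab hnc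
      obtain ⟨ρ₁, hρ₁⟩ := Reg.exists_linear_regular hOp J hJdef hJn P hPg hPab
      obtain ⟨χ₁, hχ₁, hov₁⟩ := Reg.exists_over_linear J ρ₁
      obtain ⟨χ₂, hχ₂, hov₂⟩ := Reg.exists_over_linear J ρ₂
      obtain ⟨S₂, hS₂⟩ := exists_fix_subgroup hJn P ρ₂
      have hS₁ : ∀ g : H, g ∈ (⊥ : Subgroup H) ↔ g ∈ P ∧ Reg.FixesLin hJn ρ₁ g := by
        intro g
        constructor
        · intro hg
          rw [Subgroup.mem_bot] at hg
          subst hg
          refine ⟨P.one_mem, fun n => ?_⟩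
          congr 1
          apply Subtype.ext
          simp
        · rintro ⟨h1, h2⟩
          rw [Subgroup.mem_bot]
          exact hρ₁ g h1 h2
      have hv₁ := Reg.val_over_linear J hJn hJp P hPg hPs hPab hE ρ₁ hχ₁ hov₁ ⊥ hS₁
      have hv₂ := Reg.val_over_linear J hJn hJp P hPg hPs hPab hE ρ₂ hχ₂ hov₂ S₂ hS₂
      have hS₂P : S₂ ≤ P := fun x hx => ((hS₂ x).mp hx).1
      have hS₂g : IsPGroup p S₂ := hPg.to_le hS₂P
      obtain ⟨s, hs⟩ := IsPGroup.iff_card.mp hS₂g
      obtain ⟨k, hk⟩ := IsPGroup.iff_card.mp hPg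
      have hs0 : 0 < s := by
        rcases Nat.eq_zero_or_pos s with h0 | h0
        · exfalso
          rw [h0, pow_zero] at hs
          have h1 : S₂ = ⊥ := (Subgroup.card_eq_one).mp hs
          have h2 : g ∈ S₂ := (hS₂ g).mpr ⟨hgP, hgf⟩
          rw [h1, Subgroup.mem_bot] at h2
          exact hg1 h2
        · exact h0
      have hsk : s < k := by
        have h1 : Nat.card S₂ ∣ Nat.card P := Subgroup.card_dvd_of_le hS₂P
        rw [hs, hk] at h1
        have h2 : s ≤ k := (Nat.pow_dvd_pow_iff_le_right hpp.one_lt).mp h1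
        rcases h2.lt_or_eq with h3 | h3
        · exact h3
        · exfalso
          have h4 : S₂ = P := Subgroup.eq_of_le_of_card_ge hS₂P (by rw [hs, hk, h3])
          apply hg'f
          have h5 : g' ∈ S₂ := h4 ▸ hg'P
          exact ((hS₂ g').mp h5).2
      have hfs : (Nat.card S₂).factorization p = s := by
        rw [hs, hpp.factorization_pow]
        simp
      have hfk : (Nat.card P).factorization p = k := by
        rw [hk, hpp.factorization_pow]
        simp
      rw [hfs, hfk] at hv₂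
      have hcb : Nat.card (⊥ : Subgroup H) = 1 := Subgroup.card_bot
      rw [hcb, hfk] at hv₁
      simp only [Nat.factorization_one, Finsupp.coe_zero, Pi.zero_apply, add_zero] at hv₁
      have hdvd : ∀ d : ℕ, d ≠ 0 → 0 < d.factorization p → p ∣ d := by
        intro d hd h
        exact Nat.dvd_of_factorization_pos h.ne'
      have hm1 : 0 < (charDegree χ₁).factorization p := by omega
      have hm2 : 0 < (charDegree χ₂).factorization p := by omega
      have h1 : charDegree χ₁ = u := hdegu ⟨χ₁, hχ₁⟩ (hdvd _ (charDegree_pos hχ₁).ne' hm1)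
      have h2 : charDegree χ₂ = u := hdegu ⟨χ₂, hχ₂⟩ (hdvd _ (charDegree_pos hχ₂).ne' hm2)
      rw [h1] at hv₁
      rw [h2] at hv₂
      omega
    intro R hR
    obtain ⟨S', hS'⟩ := hR.exists_le_sylow
    have hP₀c : IsCyclic (P₀ : Subgroup H) := by
      rw [← hPdef]
      exact hcyc
    have hS'c : IsCyclic (S' : Subgroup H) :=
      isCyclic_of_surjective (Sylow.equiv P₀ S').toMonoidHom (Sylow.equiv P₀ S').surjective
    exact isCyclic_of_injective (Subgroup.inclusion hS') (Subgroup.inclusion_injective hS')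
  · -- case (b)
    right
    push Not at hall
    obtain ⟨φ, hφ⟩ := hall
    -- degrees of the quotient
    have hQdeg : ∀ ψ : IrrCharacter (H ⧸ J), charDegree (ψ : H ⧸ J → ℂ) = 1 ∨
        charDegree (ψ : H ⧸ J → ℂ) = z ∨ charDegree (ψ : H ⧸ J → ℂ) = u := by
      intro ψ
      have hir := Cfsg.Agent.Lib.Char.Linear.isIrrCharacter_comp (QuotientGroup.mk' J)
        (QuotientGroup.mk'_surjective J) ψ.2
      have hd := charDegree_comp_mk J (ψ : H ⧸ J → ℂ)
      have := hcd ⟨_, hir⟩
      simp only at this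
      rwa [hd] at this
    have hφu : charDegree (φ : H ⧸ J → ℂ) = u := by
      rcases hQdeg φ with h1 | h1 | h1
      · exfalso
        rw [h1] at hφ
        exact hpp.one_lt.ne' (Nat.dvd_one.mp hφ)
      · exfalso
        rw [h1] at hφ
        exact hpz hφ
      · exact h1
    have huz : u < z := by
      by_contra hcon
      push Not at hcon
      exact hnotmax φ (by omega) (by omega)
    refine ⟨huz, ?_⟩
    have hQ2 : ∀ ψ : IrrCharacter (H ⧸ J), charDegree (ψ : H ⧸ J → ℂ) = 1 ∨
        charDegree (ψ : H ⧸ J → ℂ) = u := by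
      intro ψ
      rcases hQdeg ψ with h1 | h1 | h1
      · exact Or.inl h1
      · exfalso
        exact hnotmax ψ (by omega) (by omega)
      · exact Or.inr h1
    obtain ⟨⟨Mhat, hMn, hMp, k, hk⟩, -, -⟩ := TwoStruct.two_struct hpp hu hpu hQ2 ⟨φ, hφu⟩
    refine ⟨Mhat.comap (QuotientGroup.mk' J), hMn.comap _, ?_, k, ?_⟩
    · intro hdvd
      have hi : (Mhat.comap (QuotientGroup.mk' J)).index = Mhat.index :=
        Subgroup.index_comap_of_surjective Mhat (QuotientGroup.mk'_surjective J)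
      have h1 := Subgroup.card_mul_index (Mhat.comap (QuotientGroup.mk' J))
      have h2 := Subgroup.card_mul_index Mhat
      have h3 := Subgroup.card_mul_index J
      rw [Subgroup.index_eq_card] at h3
      rw [hi] at h1
      have hpos : 0 < Mhat.index := by
        rw [hk]
        exact pow_pos hpp.pos k
      have h4 : Nat.card (Mhat.comap (QuotientGroup.mk' J)) = Nat.card J * Nat.card Mhat := by
        apply Nat.eq_of_mul_eq_mul_right hpos
        rw [h1, mul_assoc, h2, h3]
      rw [h4] at hdvd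
      rcases hpp.dvd_mul.mp hdvd with h5 | h5
      · exact hJp h5
      · exact hMp h5
    · rw [Subgroup.index_comap_of_surjective Mhat (QuotientGroup.mk'_surjective J), hk]

end Cfsg.Agent.Lib.FourDeg.HStructB
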