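import Cfsg.Agent.Lib.FourDeg.Chain
import Cfsg.Agent.Lib.FourDeg.TwoStruct
import Cfsg.Agent.Lib.FourDeg.Big
import Cfsg.Agent.Lib.FourDeg.LamT
import Cfsg.Agent.Lib.FourDeg.HStructB
import Cfsg.Agent.Lib.FourDeg.HStructD
import Cfsg.Agent.Lib.FourDeg.CaseD2b
import Cfsg.Agent.Lib.Solvable.Fitting
import Mathlib

set_option autoImplicit false
set_option linter.unusedSectionVars false

namespace Cfsg.Agent.Lib.FourDeg.CaseB

open Cfsg Module
open Cfsg.Agent.Lib.Char.Basic Cfsg.Agent.Lib.Char.Ortho Cfsg.Agent.Lib.Char.Complete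
open Cfsg.Agent.Lib.Char.Degree Cfsg.Agent.Lib.Char.Clifford Cfsg.Agent.Lib.Char.Induced
open Cfsg.Agent.Lib.Char.Linear
open Cfsg.Agent.Lib.CharDeg.ThreeDeg.Perfect Cfsg.Agent.Lib.CharDeg.ThreeDeg.Uniform
open Cfsg.Agent.Lib.CharDeg.ThreeDeg.Lift Cfsg.Agent.Lib.CharDeg.ThreeDeg.Sec
open Cfsg.Agent.Lib.CharDeg.ThreeDeg.Cases Cfsg.Agent.Lib.CharDeg.ThreeDeg.Solv
open Cfsg.Agent.Lib.CharDeg.ThreeDeg.Derived
open Cfsg.Agent.Lib.Core.Basic

universe u

variable {G : Type u} [Group G] [Fintype G] [Group.IsSolvable G]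

/-! ### Auxiliary lemmas -/

namespace Aux

/-- A character over `θ` has degree divisible by that of `θ`. -/
lemma deg_dvd_of_over {G : Type u} [Group G] [Fintype G] {F : Subgroup G} (hF : F.Normal) [Fintype F]
    {θ : F → ℂ} (hθ : IsIrrCharacter F θ)
    {χ : G → ℂ} (hχ : IsIrrCharacter G χ) (hcon : classInner (fun n : F => χ n) θ ≠ 0) :
    charDegree θ ∣ charDegree χ := by
  obtain ⟨e, t, h1, -⟩ := Cfsg.Agent.Lib.Char.DegDvd.dvd_index_of_constituent hF hθ hχ hcon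
  have hθ1 : θ 1 = (charDegree θ : ℂ) := (charDegree_natCast (isCharacter_of_isIrrCharacter hθ)).symm
  have h2 : χ 1 = ((e * t * charDegree θ : ℕ) : ℂ) := by
    rw [h1, hθ1]
    push_cast
    ring
  have h3 := charDegree_natCast (isCharacter_of_isIrrCharacter hχ)
  rw [h2] at h3
  have h4 : charDegree χ = e * t * charDegree θ := by exact_mod_cast h3
  rw [h4]
  exact Dvd.intro_left _ rfl

/-- `F` is abelian unless there is an irreducible character of degree divisible by `p`. -/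
lemma abelian_of_big {G : Type u} [Group G] [Fintype G] {p : ℕ} [hp : Fact p.Prime] (F : Subgroup G)
    [Fintype F] (hFp : IsPGroup p F)
    (hbig : ∀ θ : F → ℂ, IsIrrCharacter F θ → p ∣ charDegree θ → False) :
    ∀ x ∈ F, ∀ y ∈ F, x * y = y * x := by
  have hpp : p.Prime := hp.out
  have hcomm : ∀ x y : F, x * y = y * x := by
    rw [comm_iff_all_deg_one]
    intro θi
    by_contra hne
    set θ : F → ℂ := (θi : F → ℂ) with hθdef
    have hθ : IsIrrCharacter F θ := θi.2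
    have hθc := isCharacter_of_isIrrCharacter hθ
    obtain ⟨k, hk⟩ := IsPGroup.iff_card.mp hFp
    have hdvd := charDegree_dvd_card hθ
    rw [hk] at hdvd
    obtain ⟨i, -, hi⟩ := (Nat.dvd_prime_pow hpp).mp hdvd
    have hθ1 : θ 1 = (charDegree θ : ℂ) := (charDegree_natCast hθc).symm
    have hne' : charDegree θ ≠ 1 := by
      intro h
      apply hne
      change θ 1 = 1
      rw [hθ1, h]
      simp
    have hi0 : i ≠ 0 := by
      rintro rfl
      exact hne' (by simpa using hi)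
    have hpθ : p ∣ charDegree θ := by
      rw [hi]
      exact dvd_pow_self p hi0
    exact hbig θ hθ hpθ
  intro x hx y hy
  exact congrArg Subtype.val (hcomm ⟨x, hx⟩ ⟨y, hy⟩)

/-- `p`-subgroups lie in conjugates of a subgroup of index prime to `p`. -/
lemma pgroup_abelian_of_index {X : Type*} [Group X] [Finite X] {p : ℕ} [hp : Fact p.Prime]
    (T : Subgroup X) (hT : ¬ p ∣ T.index) (hTab : ∀ a ∈ T, ∀ b ∈ T, a * b = b * a)
    (P : Subgroup X) (hP : IsPGroup p P) : ∀ a ∈ P, ∀ b ∈ P, a * b = b * a := by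
  obtain ⟨c, hc⟩ := hP.nonempty_fixed_point_of_prime_not_dvd_card (X ⧸ T) hT
  obtain ⟨g, rfl⟩ := QuotientGroup.mk_surjective c
  have key : ∀ a ∈ P, g⁻¹ * a * g ∈ T := by
    intro a ha
    have h1 := hc ⟨a, ha⟩
    have h2 : ((a * g : X) : X ⧸ T) = (g : X ⧸ T) := h1
    rw [QuotientGroup.eq] at h2
    have h3 := T.inv_mem h2
    have e : ((a * g)⁻¹ * g)⁻¹ = g⁻¹ * a * g := by group
    rwa [e] at h3
  intro a ha b hb
  have h := hTab _ (key a ha) _ (key b hb)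
  have h3 : g⁻¹ * (a * b) * g = g⁻¹ * (b * a) * g := by
    calc g⁻¹ * (a * b) * g = (g⁻¹ * a * g) * (g⁻¹ * b * g) := by group
      _ = (g⁻¹ * b * g) * (g⁻¹ * a * g) := h
      _ = g⁻¹ * (b * a) * g := by group
  exact mul_left_cancel (mul_right_cancel h3)

/-- A solvable nontrivial group with `O_p = 1` has a nontrivial normal `q`-subgroup, `q ≠ p`. -/
lemma exists_normal_q {H : Type u} [Group H] [Finite H] [Group.IsSolvable H] [hnt : Nontrivial H]
    {p : ℕ} [hp : Fact p.Prime] (hOp : ∀ M : Subgroup H, M.Normal → IsPGroup p M → M = ⊥) :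
    ∃ (q : ℕ) (_ : Fact q.Prime), q ≠ p ∧ ∃ N : Subgroup H, N.Normal ∧ N ≠ ⊥ ∧ IsPGroup q N := by
  have hF : fittingSubgroup H ≠ ⊥ := by
    intro h0
    have h1 := Cfsg.Agent.Lib.Solvable.Fitting.centralizer_fittingSubgroup_le (G := H)
    rw [h0] at h1
    obtain ⟨x, hx⟩ := exists_ne (1 : H)
    have h2 : x ∈ Subgroup.centralizer (((⊥ : Subgroup H) : Subgroup H) : Set H) := by
      refine Subgroup.mem_centralizer_iff.2 ?_
      intro y hy
      have hy1 : y = 1 := hy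
      rw [hy1]
      group
    exact hx (h1 h2)
  by_contra hno
  apply hF
  rw [fittingSubgroup_eq_iSup_pCore, eq_bot_iff]
  refine iSup_le fun q => ?_
  haveI hqf : Fact (q : ℕ).Prime := ⟨q.2⟩
  by_cases hq : (q : ℕ) = p
  · rw [hq, hOp _ (pCore_normal p H) pCore_isPGroup]
  · by_contra hne
    apply hno
    refine ⟨q, hqf, hq, pCore (q : ℕ) H, pCore_normal _ H, ?_, pCore_isPGroup⟩
    intro h0
    rw [h0] at hne
    exact hne le_rfl

/-- A group with a nonlinear irreducible character is nontrivial. -/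
lemma nontrivial_of_deg {H : Type u} [Group H] [Finite H] {χ : H → ℂ} (hχ : IsIrrCharacter H χ)
    (h : charDegree χ ≠ 1) : Nontrivial H := by
  by_contra hnt
  rw [not_nontrivial_iff_subsingleton] at hnt
  have h1 := isIrr_deg_one_of_comm (fun a b => Subsingleton.elim _ _) hχ
  have h2 := charDegree_natCast (isCharacter_of_isIrrCharacter hχ)
  rw [h1] at h2
  exact h (by exact_mod_cast h2)

end Aux

/-- **Case B1.** `cd(G) = {1, a, b, c}`, `cd(G/F) = {1, a, b}`, `p ∣ a, b`, `p ∤ c`, so `F` is abelian. -/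
theorem case_B1 {p : ℕ} [hp : Fact p.Prime] (F : Subgroup G) [hF : F.Normal] (hFp : IsPGroup p F)
    (hcent : Subgroup.centralizer (F : Set G) ≤ F)
    (hOp : ∀ M : Subgroup (G ⧸ F), M.Normal → IsPGroup p M → M = ⊥) {a b c : ℕ}
    (hab : a < b) (ha : 1 < a) (hbc : b < c)
    (hdeg : ∀ χ : IrrCharacter G, charDegree (χ : G → ℂ) = 1 ∨ charDegree (χ : G → ℂ) = a ∨
      charDegree (χ : G → ℂ) = b ∨ charDegree (χ : G → ℂ) = c)
    (hQ : ∀ χ : IrrCharacter (G ⧸ F), charDegree (χ : G ⧸ F → ℂ) = 1 ∨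
      charDegree (χ : G ⧸ F → ℂ) = a ∨ charDegree (χ : G ⧸ F → ℂ) = b)
    (hexb : ∃ χ : IrrCharacter (G ⧸ F), charDegree (χ : G ⧸ F → ℂ) = b)
    (hpa : p ∣ a) (hpb : p ∣ b) (hpc : ¬ p ∣ c) : ∀ x ∈ F, ∀ y ∈ F, x * y = y * x := by
  classical
  have hpp : p.Prime := hp.out
  letI : Fintype F := Fintype.ofFinite _
  letI : Fintype (G ⧸ F) := Fintype.ofFinite _
  obtain ⟨χb, hχb⟩ := hexb
  have hb1 : 1 < b := by omega
  obtain ⟨M, hMn, hMc, k, hk⟩ := Cfsg.Agent.S4456.result (G := G ⧸ F) p hpp (by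
    intro χ hχ
    rcases hQ χ with h | h | h
    · exact absurd h hχ
    · rw [h]
      exact hpa
    · rw [h]
      exact hpb)
  have hMp : ¬ p ∣ Nat.card M := by
    rw [Nat.coprime_comm, Nat.Prime.coprime_iff_not_dvd hpp] at hMc
    exact hMc
  haveI hnt : Nontrivial (G ⧸ F) := Aux.nontrivial_of_deg χb.2 (by omega)
  obtain ⟨q, hqf, hqp, N, hNn, hN, hNq⟩ := Aux.exists_normal_q hOp
  obtain ⟨T, hNT, hpT, hβ⟩ := LamT.exists_inertia_bar hqp F hFp hcent N hNn hN hNq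
  have hT1 : T.index ≠ 1 := by
    intro h
    apply hNT
    rw [Subgroup.index_eq_one.mp h]
    exact le_top
  letI : Fintype T := Fintype.ofFinite _
  obtain ⟨χ₁, h₁⟩ := hβ _ Cfsg.Agent.Lib.Char.Burnside.isIrrCharacter_one
  have hdeg1 : charDegree (fun _ : T => (1 : ℂ)) = 1 := by simp [charDegree]
  rw [hdeg1, mul_one] at h₁
  have hTc : T.index = c := by
    rcases hdeg χ₁ with h | h | h | h
    · omega
    · exfalso
      apply hpT
      rw [← h₁, h]
      exact hpa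
    · exfalso
      apply hpT
      rw [← h₁, h]
      exact hpb
    · omega
  have hTab : ∀ x y : T, x * y = y * x := by
    rw [comm_iff_all_deg_one]
    intro βi
    obtain ⟨χ, hχ⟩ := hβ _ βi.2
    have hβc := charDegree_natCast (isCharacter_of_isIrrCharacter βi.2)
    have hβ0 := charDegree_pos βi.2
    have hone : charDegree (βi : T → ℂ) = 1 := by
      rw [hTc] at hχ
      have hle : c * 1 ≤ c * charDegree (βi : T → ℂ) := Nat.mul_le_mul_left _ hβ0
      rcases hdeg χ with h | h | h | h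
      · omega
      · omega
      · omega
      · have hc0 : 0 < c := by omega
        rw [h] at hχ
        exact (Nat.eq_of_mul_eq_mul_left hc0 (by rw [mul_one]; exact hχ)).symm
    rw [← hβc, hone]
    simp
  have hab : ∀ P : Subgroup (G ⧸ F), IsPGroup p P → ∀ a ∈ P, ∀ b ∈ P, a * b = b * a :=
    fun P hP => Aux.pgroup_abelian_of_index T hpT
      (fun x hx y hy => congrArg Subtype.val (hTab ⟨x, hx⟩ ⟨y, hy⟩)) P hP
  apply Aux.abelian_of_big F hFp
  intro θ hθ hpθ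
  obtain ⟨χ, hχ, hcon, hle⟩ := Big.big_abelian F hFp M hMn hMp ⟨k, hk⟩ hab χb.2 hθ
  have hdvd : p ∣ charDegree χ := hpθ.trans (Aux.deg_dvd_of_over hF hθ hχ hcon)
  have h2 : 2 ≤ charDegree θ := hpp.two_le.trans (Nat.le_of_dvd (charDegree_pos hθ) hpθ)
  rw [hχb] at hle
  have h3 : b * 2 ≤ charDegree χ := (Nat.mul_le_mul_left _ h2).trans hle
  rcases hdeg ⟨χ, hχ⟩ with h | h | h | h <;> simp only at h
  · omega
  · omega
  · omega
  · rw [h] at hdvd
    exact hpc hdvd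

/-- **Case B2.** `cd(G) = {1, z, u, c}`, `cd(G/F) = {1, z, u}`, `p ∣ u`, `p ∤ z, c`, so `F` is abelian. -/
theorem case_B2 {p : ℕ} [hp : Fact p.Prime] (F : Subgroup G) [hF : F.Normal] (hFp : IsPGroup p F)
    (hOp : ∀ M : Subgroup (G ⧸ F), M.Normal → IsPGroup p M → M = ⊥) {z u c : ℕ}
    (hz : z ≠ 1) (hu : u ≠ 1)
    (hdeg : ∀ χ : IrrCharacter G, charDegree (χ : G → ℂ) = 1 ∨ charDegree (χ : G → ℂ) = z ∨
      charDegree (χ : G → ℂ) = u ∨ charDegree (χ : G → ℂ) = c)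
    (hQ : ∀ χ : IrrCharacter (G ⧸ F), charDegree (χ : G ⧸ F → ℂ) = 1 ∨
      charDegree (χ : G ⧸ F → ℂ) = z ∨ charDegree (χ : G ⧸ F → ℂ) = u)
    (hexz : ∃ χ : IrrCharacter (G ⧸ F), charDegree (χ : G ⧸ F → ℂ) = z)
    (hexu : ∃ χ : IrrCharacter (G ⧸ F), charDegree (χ : G ⧸ F → ℂ) = u)
    (hpu : p ∣ u) (hpz : ¬ p ∣ z) (hpc : ¬ p ∣ c) : ∀ x ∈ F, ∀ y ∈ F, x * y = y * x := by
  classical
  have hpp : p.Prime := hp.out
  letI : Fintype F := Fintype.ofFinite _
  letI : Fintype (G ⧸ F) := Fintype.ofFinite _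
  have hfin : ∀ (χ : G → ℂ), IsIrrCharacter G χ → p ∣ charDegree χ → charDegree χ = u := by
    intro χ hχ hdvd
    rcases hdeg ⟨χ, hχ⟩ with h | h | h | h <;> simp only at h
    · rw [h] at hdvd
      exact absurd (Nat.dvd_one.mp hdvd) hpp.ne_one
    · rw [h] at hdvd
      exact absurd hdvd hpz
    · exact h
    · rw [h] at hdvd
      exact absurd hdvd hpc
  rcases HStructB.b1ii_struct hOp hz hu hQ hexz hexu hpu hpz with hcyc | ⟨huz, M, hMn, hMp, hMi⟩
  · obtain ⟨χu, hχu⟩ := hexu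
    apply Aux.abelian_of_big F hFp
    intro θ hθ hpθ
    obtain ⟨χ, hχ, hcon, hle⟩ := Big.big_cyclic F hFp hcyc χu.2 hθ
    have hdvd : p ∣ charDegree χ := hpθ.trans (Aux.deg_dvd_of_over hF hθ hχ hcon)
    have h2 : 2 ≤ charDegree θ := hpp.two_le.trans (Nat.le_of_dvd (charDegree_pos hθ) hpθ)
    have hu0 := charDegree_pos χu.2
    rw [hχu] at hle hu0
    have h3 : u * 2 ≤ charDegree χ := (Nat.mul_le_mul_left _ h2).trans hle
    have h4 := hfin χ hχ hdvd
    omega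
  · obtain ⟨χz, hχz⟩ := hexz
    apply Aux.abelian_of_big F hFp
    intro θ hθ hpθ
    obtain ⟨χ, hχ, hcon, hle⟩ := Big.big_pnil F hFp M hMn hMp hMi χz.2 (by rw [hχz]; exact hpz) hθ
    have hdvd : p ∣ charDegree χ := hpθ.trans (Aux.deg_dvd_of_over hF hθ hχ hcon)
    have h2 : 2 ≤ charDegree θ := hpp.two_le.trans (Nat.le_of_dvd (charDegree_pos hθ) hpθ)
    have hz0 := charDegree_pos χz.2
    rw [hχz] at hle hz0
    have h3 : z * 2 ≤ charDegree χ := (Nat.mul_le_mul_left _ h2).trans hle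
    have h4 := hfin χ hχ hdvd
    omega

/-- **Case D2b.** `cd(G) = {1, z, u, c}`, `cd(G/F) = {1, z, u}`, `p ∣ u, c`, `p ∤ z`, `u, z < c`. -/
theorem case_D2b {p : ℕ} [hp : Fact p.Prime] (F : Subgroup G) [hF : F.Normal] (hFp : IsPGroup p F)
    (hcent : Subgroup.centralizer (F : Set G) ≤ F)
    (hfit : ∀ M : Subgroup G, M.Normal → IsPGroup p M → M ≤ F)
    (hOp : ∀ M : Subgroup (G ⧸ F), M.Normal → IsPGroup p M → M = ⊥) {z u c : ℕ}
    (hz : z ≠ 1) (hu : u ≠ 1) (hzc : z < c) (huc : u < c)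
    (hdeg : ∀ χ : IrrCharacter G, charDegree (χ : G → ℂ) = 1 ∨ charDegree (χ : G → ℂ) = z ∨
      charDegree (χ : G → ℂ) = u ∨ charDegree (χ : G → ℂ) = c)
    (hQ : ∀ χ : IrrCharacter (G ⧸ F), charDegree (χ : G ⧸ F → ℂ) = 1 ∨
      charDegree (χ : G ⧸ F → ℂ) = z ∨ charDegree (χ : G ⧸ F → ℂ) = u)
    (hexz : ∃ χ : IrrCharacter (G ⧸ F), charDegree (χ : G ⧸ F → ℂ) = z)
    (hexu : ∃ χ : IrrCharacter (G ⧸ F), charDegree (χ : G ⧸ F → ℂ) = u)
    (hpu : p ∣ u) (hpz : ¬ p ∣ z) (hpc : p ∣ c) : derivedSeries G 4 = ⊥ := by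
  exact Cfsg.Agent.Lib.FourDeg.CaseD2b.main F hFp hcent hfit hOp hz hu hzc huc hdeg hQ hexz hexu hpu hpz hpc

end Cfsg.Agent.Lib.FourDeg.CaseB
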