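import Cfsg.Agent.Lib.FourDeg.Chain
import Cfsg.Agent.Lib.Char.TwoDeg.OneP
import Mathlib

set_option autoImplicit false
set_option linter.unusedSectionVars false

namespace Cfsg.Agent.Lib.FourDeg.CaseI

open Cfsg Module
open Cfsg.Agent.Lib.Char.Basic Cfsg.Agent.Lib.Char.Ortho Cfsg.Agent.Lib.Char.Complete
open Cfsg.Agent.Lib.Char.Degree Cfsg.Agent.Lib.Char.Clifford Cfsg.Agent.Lib.Char.Induced
open Cfsg.Agent.Lib.Char.Linear
open Cfsg.Agent.Lib.CharDeg.ThreeDeg.Perfect Cfsg.Agent.Lib.CharDeg.ThreeDeg.Uniform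
open Cfsg.Agent.Lib.CharDeg.ThreeDeg.Lift Cfsg.Agent.Lib.CharDeg.ThreeDeg.Sec
open Cfsg.Agent.Lib.CharDeg.ThreeDeg.Cases Cfsg.Agent.Lib.CharDeg.ThreeDeg.Solv
open Cfsg.Agent.Lib.CharDeg.ThreeDeg.Derived
open Cfsg.Agent.Lib.Core.Basic

universe u

variable {G : Type u} [Group G] [Fintype G]

/-- Inflated irreducible characters. -/
theorem infl_irr (N : Subgroup G) [hN : N.Normal] [Fintype (G ⧸ N)] (φ : IrrCharacter (G ⧸ N)) :
    IsIrrCharacter G ((φ : G ⧸ N → ℂ) ∘ QuotientGroup.mk' N) :=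
  Cfsg.Agent.Lib.Char.Linear.isIrrCharacter_comp (QuotientGroup.mk' N)
    (QuotientGroup.mk'_surjective N) φ.2

/-- If a derived term of the quotient is trivial, then it lies in `N`. -/
theorem derived_le_of_quot (N : Subgroup G) [hN : N.Normal] {n : ℕ}
    (h : derivedSeries (G ⧸ N) n = ⊥) : derivedSeries G n ≤ N := by
  have h1 := map_derivedSeries_eq (QuotientGroup.mk'_surjective N) n
  rw [h] at h1
  intro x hx
  have h2 : QuotientGroup.mk' N x ∈ (derivedSeries G n).map (QuotientGroup.mk' N) := ⟨x, hx, rfl⟩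
  rw [h1, Subgroup.mem_bot, QuotientGroup.mk'_apply, QuotientGroup.eq_one_iff] at h2
  exact h2

/-- Nontrivial elements are detected by irreducible characters. -/
theorem exists_ne_of_ne_bot (R : Subgroup G) (hR : R ≠ ⊥) :
    ∃ x₀ ∈ R, ∃ χ : IrrCharacter G, (χ : G → ℂ) x₀ ≠ (χ : G → ℂ) 1 := by
  obtain ⟨x₀, hx₀, hx₀1⟩ : ∃ x ∈ R, x ≠ 1 := by
    rcases Subgroup.bot_or_exists_ne_one R with h0 | h0
    · exact absurd h0 hR
    · exact h0
  refine ⟨x₀, hx₀, ?_⟩
  by_contra hcon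
  push Not at hcon
  exact hx₀1 (eq_one_of_forall_irr hcon)

/-- **Case I.** `p ∤ |G/F|`. -/
theorem case_I {p : ℕ} [hp : Fact p.Prime] (F : Subgroup G) [hF : F.Normal] (hFp : IsPGroup p F)
    (hpH : ¬ p ∣ F.index) (hG3 : derivedSeries G 3 ≤ F) {D : Finset ℕ}
    (hD : ∀ χ : IrrCharacter G, charDegree (χ : G → ℂ) ∈ D) (hcard : D.card ≤ 4) (h1 : 1 ∈ D)
    (hDp : (D.filter (p ∣ ·)).card ≤ 2) : derivedSeries G 4 = ⊥ := by
  classical
  have hpp : p.Prime := hp.out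
  let R : Subgroup G := ⁅F, F⁆
  haveI hRn : R.Normal := Subgroup.commutator_normal F F
  have hRp : IsPGroup p R := hFp.to_le (Subgroup.commutator_le_left F F)
  have hRF : R ≤ F := Subgroup.commutator_le_left F F
  letI : Fintype (G ⧸ R) := Fintype.ofFinite _
  set Dp := D.filter (p ∣ ·) with hDpdef
  -- characters over `R`
  have hover : ∀ χ : IrrCharacter G, (∃ x ∈ R, (χ : G → ℂ) x ≠ (χ : G → ℂ) 1) →
      charDegree (χ : G → ℂ) ∈ Dp := by
    rintro χ ⟨x, hx, hne⟩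
    rw [hDpdef, Finset.mem_filter]
    exact ⟨hD χ, dvd_of_ne_on_commutator F hFp χ.2 hx hne⟩
  -- the quotient has no degree divisible by `p`
  let Fb : Subgroup (G ⧸ R) := F.map (QuotientGroup.mk' R)
  haveI hFbn : Fb.Normal := Subgroup.Normal.map hF _ (QuotientGroup.mk'_surjective R)
  have hFbc : ∀ a ∈ Fb, ∀ b ∈ Fb, a * b = b * a := by
    rintro _ ⟨a, ha, rfl⟩ _ ⟨b, hb, rfl⟩
    rw [← commutatorElement_eq_one_iff_mul_comm, ← map_commutatorElement,
      QuotientGroup.mk'_apply, QuotientGroup.eq_one_iff]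
    exact Subgroup.commutator_mem_commutator ha hb
  have hFbi : Fb.index = F.index := by
    rw [Subgroup.index_map, QuotientGroup.ker_mk', sup_eq_left.mpr hRF,
      MonoidHom.range_eq_top.mpr (QuotientGroup.mk'_surjective R), Subgroup.index_top, mul_one]
  have hQnd : ∀ φ : IrrCharacter (G ⧸ R), ¬ p ∣ charDegree (φ : G ⧸ R → ℂ) := by
    intro φ hd
    apply hpH
    rw [← hFbi]
    exact hd.trans (Cfsg.Agent.Lib.Char.TwoDeg.OneP.deg_dvd_index_abelian φ Fb hFbc)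
  have hQmem : ∀ φ : IrrCharacter (G ⧸ R), charDegree (φ : G ⧸ R → ℂ) ∈ D \ Dp := by
    intro φ
    rw [Finset.mem_sdiff]
    have hd := charDegree_comp_mk R (φ : G ⧸ R → ℂ)
    constructor
    · rw [← hd]
      exact hD ⟨_, infl_irr R φ⟩
    · rw [hDpdef, Finset.mem_filter]
      rintro ⟨-, h2⟩
      exact hQnd φ h2
  have hsd : (D \ Dp).card = D.card - Dp.card := by
    rw [Finset.card_sdiff_of_subset (Finset.filter_subset _ _)]
  -- series
  have hV : derivedSeries G 4 = ⁅derivedSeries G 3, derivedSeries G 3⁆ := rfl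
  have hVle : derivedSeries G 4 ≤ R := by
    rw [hV]
    exact Subgroup.commutator_mono hG3 hG3
  rcases (Finset.eq_empty_or_nonempty Dp) with h0 | hne
  · -- `R` is trivial
    by_contra hV0
    have hRne : R ≠ ⊥ := by
      intro h0
      rw [h0] at hVle
      exact hV0 (le_bot_iff.mp hVle)
    obtain ⟨x₀, hx₀, χ, hχ⟩ := exists_ne_of_ne_bot R hRne
    have := hover χ ⟨x₀, hx₀, hχ⟩
    rw [h0] at this
    simp at this
  have hc12 : Dp.card = 1 ∨ Dp.card = 2 := by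
    have := hne.card_pos
    omega
  rcases hc12 with hc | hc
  · -- one degree
    obtain ⟨d, hd⟩ := Finset.card_eq_one.mp hc
    have hRab : ∀ a ∈ R, ∀ b ∈ R, a * b = b * a :=
      abelian_of_uniform R hRp (d := d) (fun χ hχ => by
        have := hover χ hχ
        rw [hd] at this
        exact Finset.mem_singleton.mp this)
    have h3 : derivedSeries (G ⧸ R) 3 = ⊥ :=
      derived_of_hyp3 ⟨D \ Dp, by omega, hQmem⟩
    have h4 := derived_le_of_quot R h3
    have h5 : ⁅R, R⁆ = ⊥ := by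
      rw [eq_bot_iff, Subgroup.commutator_le]
      intro u hu v hv
      rw [Subgroup.mem_bot, commutatorElement_eq_one_iff_mul_comm]
      exact hRab u hu v hv
    rw [eq_bot_iff, ← h5, hV]
    exact Subgroup.commutator_mono h4 h4
  · -- two degrees
    have hcq : (D \ Dp).card ≤ 2 := by omega
    have h1q : 1 ∈ D \ Dp := by
      rw [Finset.mem_sdiff, hDpdef, Finset.mem_filter]
      refine ⟨h1, ?_⟩
      rintro ⟨-, h2⟩
      exact hpp.one_lt.ne' (Nat.dvd_one.mp h2)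
    obtain ⟨m, hm⟩ : ∃ m, ∀ φ : IrrCharacter (G ⧸ R), charDegree (φ : G ⧸ R → ℂ) = 1 ∨
        charDegree (φ : G ⧸ R → ℂ) = m := by
      have hcase : ((D \ Dp).erase 1).card ≤ 1 := by
        rw [Finset.card_erase_of_mem h1q]
        omega
      rcases Finset.card_le_one_iff_subset_singleton.mp hcase with ⟨m, hm⟩
      refine ⟨m, fun φ => ?_⟩
      by_cases h2 : charDegree (φ : G ⧸ R → ℂ) = 1
      · exact Or.inl h2
      · right
        exact Finset.mem_singleton.mp (hm (Finset.mem_erase.mpr ⟨h2, hQmem φ⟩))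
    have h3 := derived_le_of_quot R (derived_two hm)
    -- `G'' ≤ R`, so `G⁽⁴⁾ ≤ F⁽³⁾`
    let R₂ : Subgroup G := ⁅R, R⁆
    let R₃ : Subgroup G := ⁅R₂, R₂⁆
    haveI hR₂n : R₂.Normal := Subgroup.commutator_normal R R
    have hR₂R : R₂ ≤ R := Subgroup.commutator_le_left R R
    have hR₂p : IsPGroup p R₂ := hRp.to_le hR₂R
    have h4 : derivedSeries G 3 ≤ R₂ := Subgroup.commutator_mono h3 h3
    have h5 : derivedSeries G 4 ≤ R₃ := Subgroup.commutator_mono h4 h4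
    by_contra hV0
    have hR₃ne : R₃ ≠ ⊥ := by
      intro h0
      rw [h0] at h5
      exact hV0 (le_bot_iff.mp h5)
    obtain ⟨x₀, hx₀, χ₃, hχ₃⟩ := exists_ne_of_ne_bot R₃ hR₃ne
    obtain ⟨χ₂, hχ₂, ⟨x₂, hx₂, hne₂⟩, hv₂⟩ :=
      Cfsg.Agent.Lib.FourDeg.Chain.exists_lower_val R₂ hR₂p χ₃.2 hx₀ hχ₃
    obtain ⟨χ₁, hχ₁, ⟨x₁, hx₁, hne₁⟩, hv₁⟩ :=
      Cfsg.Agent.Lib.FourDeg.Chain.exists_lower_val R hRp hχ₂ hx₂ hne₂
    have m₃ := hover χ₃ ⟨x₀, hR₂R (Subgroup.commutator_le_left R₂ R₂ hx₀), hχ₃⟩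
    have m₂ := hover ⟨χ₂, hχ₂⟩ ⟨x₂, hR₂R hx₂, hne₂⟩
    have m₁ := hover ⟨χ₁, hχ₁⟩ ⟨x₁, hx₁, hne₁⟩
    simp only at m₂ m₁
    have hsub : ({charDegree χ₁, charDegree χ₂, charDegree (χ₃ : G → ℂ)} : Finset ℕ) ⊆ Dp := by
      intro d hd
      simp only [Finset.mem_insert, Finset.mem_singleton] at hd
      rcases hd with rfl | rfl | rfl <;> assumption
    have h3c : ({charDegree χ₁, charDegree χ₂, charDegree (χ₃ : G → ℂ)} : Finset ℕ).card = 3 := by
      rw [Finset.card_eq_three]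
      refine ⟨_, _, _, ?_, ?_, ?_, rfl⟩
      · intro h
        rw [h] at hv₁
        exact lt_irrefl _ hv₁
      · intro h
        rw [h] at hv₁
        exact lt_asymm hv₁ hv₂
      · intro h
        rw [h] at hv₂
        exact lt_irrefl _ hv₂
    have := Finset.card_le_card hsub
    omega

end Cfsg.Agent.Lib.FourDeg.CaseI
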