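import Cfsg.Agent.Lib.FourDeg.Chain
import Cfsg.Agent.Lib.FourDeg.TwoStruct
import Mathlib

set_option autoImplicit false
set_option linter.unusedSectionVars false

namespace Cfsg.Agent.Lib.FourDeg.CaseIIA

open Cfsg Module
open Cfsg.Agent.Lib.Char.Basic Cfsg.Agent.Lib.Char.Ortho Cfsg.Agent.Lib.Char.Complete
open Cfsg.Agent.Lib.Char.Degree Cfsg.Agent.Lib.Char.Clifford Cfsg.Agent.Lib.Char.Induced
open Cfsg.Agent.Lib.Char.Linear Cfsg.Agent.Lib.Char.Conj Cfsg.Agent.Lib.Char.IndRep
open Cfsg.Agent.Lib.Char.CliffordCorr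
open Cfsg.Agent.Lib.CharDeg.ThreeDeg.Perfect Cfsg.Agent.Lib.CharDeg.ThreeDeg.Uniform
open Cfsg.Agent.Lib.CharDeg.ThreeDeg.Lift Cfsg.Agent.Lib.CharDeg.ThreeDeg.Sec
open Cfsg.Agent.Lib.CharDeg.ThreeDeg.Cases Cfsg.Agent.Lib.CharDeg.ThreeDeg.Solv
open Cfsg.Agent.Lib.CharDeg.ThreeDeg.Derived
open Cfsg.Agent.Lib.Core.Basic

universe u

/-- A `p`-element acts without fixed points on the derived subgroup. -/
theorem fpf_key {Q : Type u} [Group Q] [Fintype Q] {p : ℕ} [hp : Fact p.Prime] {a : ℕ}
    (hcd : ∀ χ : IrrCharacter Q, charDegree (χ : Q → ℂ) = 1 ∨ charDegree (χ : Q → ℂ) = a)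
    (A : Subgroup Q) (hAn : A.Normal) (hAc : ∀ a ∈ A, ∀ b ∈ A, a * b = b * a) (hAi : A.index = a)
    (hcomm : commutator Q ≤ A) (hAp : ¬ p ∣ Nat.card A)
    {s : Q} (hs : ∃ k, orderOf s ∣ p ^ k) (hs1 : s ≠ 1) {v : Q} (hv : v ∈ commutator Q)
    (hsv : s * v = v * s) : v = 1 := by
  classical
  have hpp : p.Prime := hp.out
  letI : Fintype A := Fintype.ofFinite _
  have hcopS : Nat.Coprime (orderOf s) (Nat.card A) := by
    obtain ⟨k, hk⟩ := hs
    have h1 : Nat.Coprime (p ^ k) (Nat.card A) :=
      Nat.Coprime.pow_left k ((Nat.Prime.coprime_iff_not_dvd hpp).mpr hAp)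
    exact Nat.Coprime.coprime_dvd_left hk h1
  have hdisj : s ∈ A → s = 1 := by
    intro hsA
    have h2 : orderOf s ∣ Nat.card A := Subgroup.orderOf_dvd_natCard A hsA
    have h3 : orderOf s = 1 := by
      have := Nat.dvd_gcd dvd_rfl h2
      rwa [hcopS.gcd_eq_one, Nat.dvd_one] at this
    exact orderOf_eq_one_iff.mp h3
  by_contra hv1
  have hvA : v ∈ A := hcomm hv
  have hXc : ∀ x y : A, x * y = y * x := fun x y => Subtype.ext (hAc x x.2 y y.2)
  obtain ⟨lam, -, hlam⟩ := Cfsg.Agent.Lib.Char.TwoDeg.PGroup.exists_hom_sep hXc ⊥ ⟨v, hvA⟩ (by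
    rw [Subgroup.mem_bot]
    intro h
    exact hv1 (congrArg Subtype.val h))
  set n := orderOf s with hn
  have hsn : s ^ n = 1 := pow_orderOf_eq_one s
  let cs := Cfsg.Agent.Lib.Char.TwoDeg.CaseA.cs hAn
  have hcs : ∀ (t : Q) (lam' : A →* ℂˣ) (y : A), cs t lam' y = lam' ⟨t * y * t⁻¹, hAn.conj_mem y y.2 t⟩ :=
    fun t lam' y => Cfsg.Agent.Lib.Char.TwoDeg.CaseA.cs_apply hAn t lam' y
  let ν : A →* ℂˣ := ∏ i ∈ Finset.range n, cs (s ^ i) lam
  have hνapp : ∀ y : A, ν y = ∏ i ∈ Finset.range n, lam ⟨s ^ i * y * (s ^ i)⁻¹, hAn.conj_mem y y.2 _⟩ := by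
    intro y
    simp only [ν, MonoidHom.finset_prod_apply, hcs]
  have hνinv : ∀ y : A, ν ⟨s * y * s⁻¹, hAn.conj_mem y y.2 s⟩ = ν y := by
    intro y
    rw [hνapp, hνapp]
    let f : ℕ → ℂˣ := fun i => lam ⟨s ^ i * y * (s ^ i)⁻¹, hAn.conj_mem y y.2 _⟩
    have hf : ∀ i, lam ⟨s ^ i * (s * y * s⁻¹) * (s ^ i)⁻¹, hAn.conj_mem _ (hAn.conj_mem y y.2 s) _⟩ = f (i + 1) := by
      intro i
      simp only [f]
      congr 2
      rw [pow_succ]
      group
    simp only [hf]
    have h1 := Finset.prod_range_succ f n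
    have h2 := Finset.prod_range_succ' f n
    have h3 : f n = f 0 := by
      simp only [f]
      congr 2
      rw [hsn]
      simp
    rw [h1, h3] at h2
    exact (mul_right_cancel h2).symm
  have hνv : ν ⟨v, hvA⟩ = lam ⟨v, hvA⟩ ^ n := by
    rw [hνapp, ← Finset.card_range n, ← Finset.prod_const, Finset.card_range]
    refine Finset.prod_congr rfl fun i _ => ?_
    congr 2
    have hcomm' : Commute s v := hsv
    have h1 : s ^ i * v = v * s ^ i := (hcomm'.pow_left i).eq
    rw [h1, mul_inv_cancel_right]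
  have hνv1 : ν ⟨v, hvA⟩ ≠ 1 := by
    rw [hνv]
    intro h1
    have h2 : lam ⟨v, hvA⟩ ^ Nat.card A = 1 := by
      rw [← map_pow, pow_card_eq_one']
      simp
    have h3 := pow_gcd_eq_one.mpr ⟨h1, h2⟩
    rw [hcopS.gcd_eq_one, pow_one] at h3
    exact hlam h3
  let νf : A → ℂ := fun y => ((ν y : ℂˣ) : ℂ)
  have hνc : IsCharacter A νf := Cfsg.Agent.Lib.CharDeep.LinearChar.isCharacter_of_hom ν
  have hνf1 : νf 1 = 1 := by simp [νf]
  have hνirr : IsIrrCharacter A νf := isIrrCharacter_of_deg_one hνc hνf1
  have hψc : IsCharacter Q (indFun A νf) := isCharacter_indFun A hνc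
  have hψ1 : indFun A νf 1 = (a : ℂ) := by
    rw [indFun_one, hAi, hνf1, mul_one]
  have hψne : indFun A νf ≠ 0 := by
    intro h0
    have h1 := congrFun h0 1
    rw [hψ1] at h1
    have h2 : a ≠ 0 := by
      rw [← hAi]
      exact Subgroup.index_ne_zero_of_finite
    have h3 : (a : ℂ) = 0 := h1
    exact h2 (by exact_mod_cast h3)
  obtain ⟨ζ, hζ, hζc⟩ := exists_irr_constituent (isClassFunction_of_isCharacter hψc) hψne
  have hζc' : classInner (indFun A νf) ζ ≠ 0 := hζc
  have hζcA : classInner νf (fun y : A => ζ y) ≠ 0 := by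
    rw [← classInner_indFun_left A _ _ (isClassFunction_of_isIrrCharacter hζ)]
    exact hζc'
  have hζdeg : charDegree ζ = a := by
    rcases hcd ⟨ζ, hζ⟩ with h1 | h1
    · exfalso
      simp only at h1
      have h2 := charDegree_natCast (isCharacter_of_isIrrCharacter hζ)
      rw [h1] at h2
      have h3 : ζ 1 = 1 := by rw [← h2]; simp
      have hres : IsCharacter A (fun y : A => ζ y) :=
        isCharacter_restrict A (isCharacter_of_isIrrCharacter hζ)
      have hresirr : IsIrrCharacter A (fun y : A => ζ y) :=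
        isIrrCharacter_of_deg_one hres (by simpa using h3)
      have heq : νf = fun y : A => ζ y := by
        by_contra hne
        exact hζcA (classInner_eq_zero_of_isIrr_of_ne hνirr hresirr hne)
      have h4 := congrFun heq ⟨v, hvA⟩
      have h5 : ζ v = 1 := linear_eq_one_of_mem_commutator (isCharacter_of_isIrrCharacter hζ) h3 hv
      have h6 : νf ⟨v, hvA⟩ = 1 := by rw [h4]; exact h5
      apply hνv1
      exact Units.val_injective h6
    · exact h1
  have hζ1 : ζ 1 = (a : ℂ) := by
    rw [← charDegree_natCast (isCharacter_of_isIrrCharacter hζ), hζdeg]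
  have heq := eq_of_constituent_of_deg_le hψc hζ hζc hψ1 hζ1 le_rfl
  have hψirr : IsIrrCharacter Q (indFun A νf) := by rw [heq]; exact hζ
  have hcon1 : classInner (indFun A νf) (indFun A νf) = 1 := classInner_self_of_isIrr hψirr
  have hcon2 : classInner νf (fun y : A => indFun A νf y) = 1 := by
    rw [← classInner_indFun_left A _ _ (isClassFunction_of_isCharacter hψc)]
    exact hcon1
  have hcon3 : classInner (fun y : A => indFun A νf y) νf = 1 := by
    rw [← classInner_conj, hcon2]
    simp
  have hdeg := deg_eq_of_constituent hAn hψirr hνirr (by rw [hcon3]; exact one_ne_zero)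
  rw [hcon3, hνf1, hψ1, one_mul, mul_one] at hdeg
  have hidx : (inertia hAn νf).index = A.index := by
    rw [hAi]
    exact_mod_cast hdeg.symm
  have hAT : A = inertia hAn νf :=
    Cfsg.Agent.Lib.Char.TwoDeg.CaseA.eq_of_le_of_index_eq
      (le_inertia hAn (isClassFunction_of_isIrrCharacter hνirr)) hidx.symm
  have hsT : s ∈ inertia hAn νf := by
    rw [mem_inertia]
    funext y
    rw [conjOn_apply]
    simp only [νf]
    rw [hνinv y]
  rw [← hAT] at hsT
  exact hs1 (hdisj hsT)

/-- The degree structure of a non-abelian subgroup with one non-linear degree. -/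
theorem val_eq {Q : Type u} [Group Q] [Fintype Q] {p : ℕ} [hp : Fact p.Prime] {a : ℕ}
    (hcd : ∀ χ : IrrCharacter Q, charDegree (χ : Q → ℂ) = 1 ∨ charDegree (χ : Q → ℂ) = a)
    (A : Subgroup Q) (hAn : A.Normal) (hAc : ∀ a ∈ A, ∀ b ∈ A, a * b = b * a) (hAi : A.index = a)
    (hcomm : commutator Q ≤ A) (hAp : ¬ p ∣ Nat.card A)
    (B : Subgroup Q) {g : ℕ} (hna : ¬ ∀ x y : B, x * y = y * x)
    (hB : ∀ β : IrrCharacter B, charDegree (β : B → ℂ) = 1 ∨ charDegree (β : B → ℂ) = g) :
    g ∣ a ∧ g.factorization p = (Nat.card B).factorization p := by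
  classical
  letI : Fintype B := Fintype.ofFinite _
  have hpp : p.Prime := hp.out
  obtain ⟨β₀, hβ₀⟩ : ∃ β : IrrCharacter B, charDegree (β : B → ℂ) = g := by
    by_contra hcon
    push Not at hcon
    apply hna
    rw [comm_iff_all_deg_one]
    intro χ
    have h1 := (hB χ).resolve_right (hcon χ)
    rw [← charDegree_natCast (isCharacter_of_isIrrCharacter χ.2), h1]
    simp
  have hg0 : g ≠ 0 := by
    rw [← hβ₀]
    exact (charDegree_pos β₀.2).ne'
  constructor
  · haveI hC : (A.subgroupOf B).Normal := hAn.subgroupOf B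
    have hCc : ∀ x ∈ A.subgroupOf B, ∀ y ∈ A.subgroupOf B, x * y = y * x := by
      intro x hx y hy
      exact Subtype.ext (hAc _ (Subgroup.mem_subgroupOf.mp hx) _ (Subgroup.mem_subgroupOf.mp hy))
    have h1 : charDegree (β₀ : B → ℂ) ∣ (A.subgroupOf B).index := by
      obtain ⟨χ, hχ⟩ := β₀
      have h0 := isCharacter_of_isIrrCharacter hχ
      have h1 := charDegree_natCast h0
      obtain ⟨n, ρ, hρ, rfl⟩ := hχ
      haveI : ρ.IsIrreducible := hρ
      have h2 := Cfsg.Agent.Lib.Char.Ito.finrank_dvd_index_of_abelian_normal ρ (A.subgroupOf B) hCc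
      have h3 : charDegree ρ.character = finrank ℂ (Fin n → ℂ) := by
        have h4 : (ρ.character 1 : ℂ) = (finrank ℂ (Fin n → ℂ) : ℂ) := by
          simp [Representation.character]
        rw [h4] at h1
        exact_mod_cast h1
      change charDegree ρ.character ∣ _
      rw [h3]
      exact h2
    rw [hβ₀] at h1
    rw [← hAi]
    exact h1.trans (Subgroup.relIndex_dvd_index_of_normal A B)
  · -- the derived subgroup of `B`
    let N : Subgroup B := commutator B
    haveI hN : N.Normal := inferInstanceAs (commutator B).Normal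
    letI : Fintype N := Fintype.ofFinite _
    have hNA : ∀ n : N, ((n : B) : Q) ∈ commutator Q := by
      intro n
      have h1 : (commutator B).map B.subtype ≤ commutator Q := by
        rw [commutator_def, commutator_def, Subgroup.map_commutator]
        exact Subgroup.commutator_mono le_top le_top
      exact h1 ⟨n, n.2, rfl⟩
    have hNc : ∀ x y : N, x * y = y * x := by
      intro x y
      apply Subtype.ext
      apply Subtype.ext
      exact hAc _ (hcomm (hNA x)) _ (hcomm (hNA y))
    obtain ⟨v₀, hv₀⟩ : ∃ v₀ : N, v₀ ≠ 1 := by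
      by_contra hcon
      push Not at hcon
      apply hna
      intro x y
      have h1 : x * y * x⁻¹ * y⁻¹ ∈ N :=
        Subgroup.commutator_mem_commutator (Subgroup.mem_top x) (Subgroup.mem_top y)
      have h2 := hcon ⟨_, h1⟩
      have h3 : x * y * x⁻¹ * y⁻¹ = 1 := congrArg Subtype.val h2
      have h4 : x * y = (x * y * x⁻¹ * y⁻¹) * (y * x) := by group
      rw [h4, h3, one_mul]
    obtain ⟨lam, -, hlam⟩ := Cfsg.Agent.Lib.Char.TwoDeg.PGroup.exists_hom_sep hNc ⊥ v₀ (by
      rw [Subgroup.mem_bot]
      exact hv₀)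
    let α : N → ℂ := fun y => ((lam y : ℂˣ) : ℂ)
    have hαc : IsCharacter N α := Cfsg.Agent.Lib.CharDeep.LinearChar.isCharacter_of_hom lam
    have hα1 : α 1 = 1 := by simp [α]
    have hαirr : IsIrrCharacter N α := isIrrCharacter_of_deg_one hαc hα1
    have hψc : IsCharacter B (indFun N α) := isCharacter_indFun N hαc
    have hψne : indFun N α ≠ 0 := by
      intro h0
      have h1 := congrFun h0 1
      rw [indFun_one, hα1, mul_one] at h1
      have h2 : N.index ≠ 0 := Subgroup.index_ne_zero_of_finite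
      have h3 : (N.index : ℂ) = 0 := h1
      exact h2 (by exact_mod_cast h3)
    obtain ⟨ζ, hζ, hζc⟩ := exists_irr_constituent (isClassFunction_of_isCharacter hψc) hψne
    have hζcA : classInner α (fun y : N => ζ y) ≠ 0 := by
      rw [← classInner_indFun_left N _ _ (isClassFunction_of_isIrrCharacter hζ)]
      exact hζc
    have hζcA' : classInner (fun y : N => ζ y) α ≠ 0 := by
      rw [← classInner_conj]
      rw [map_ne_zero]
      exact hζcA
    have hζdeg : charDegree ζ = g := by
      rcases hB ⟨ζ, hζ⟩ with h1 | h1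
      · exfalso
        simp only at h1
        have h2 := charDegree_natCast (isCharacter_of_isIrrCharacter hζ)
        rw [h1] at h2
        have h3 : ζ 1 = 1 := by rw [← h2]; simp
        have hres : IsCharacter N (fun y : N => ζ y) :=
          isCharacter_restrict N (isCharacter_of_isIrrCharacter hζ)
        have hresirr : IsIrrCharacter N (fun y : N => ζ y) :=
          isIrrCharacter_of_deg_one hres (by simpa using h3)
        have heq : α = fun y : N => ζ y := by
          by_contra hne
          exact hζcA (classInner_eq_zero_of_isIrr_of_ne hαirr hresirr hne)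
        have h4 := congrFun heq v₀
        have h5 : ζ v₀ = 1 := linear_eq_one_of_mem_commutator (isCharacter_of_isIrrCharacter hζ) h3 v₀.2
        have h6 : α v₀ = 1 := by rw [h4]; exact h5
        apply hlam
        exact Units.val_injective h6
      · exact h1
    have hdeg := deg_eq_of_constituent hN hζ hαirr hζcA'
    obtain ⟨e, he⟩ := exists_nat_classInner (isCharacter_restrict N (isCharacter_of_isIrrCharacter hζ)) hαc
    rw [he, hα1, mul_one, ← charDegree_natCast (isCharacter_of_isIrrCharacter hζ), hζdeg] at hdeg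
    have hdeg' : g = e * (inertia hN α).index := by exact_mod_cast hdeg
    -- the inertia group has order prime to `p`
    have hnp : ¬ p ∣ Nat.card (inertia hN α) := by
      intro hd
      obtain ⟨s, hs⟩ := exists_prime_orderOf_dvd_card' p hd
      have hs1 : (s : B) ≠ 1 := by
        intro h
        have h2 : s = 1 := Subtype.ext h
        rw [h2, orderOf_one] at hs
        exact hpp.one_lt.ne hs
      have hsI : conjOn hN (s : B) α = α := s.2
      have hordQ : orderOf ((s : B) : Q) = p := by
        have h1 : orderOf ((s : B) : Q) = orderOf (s : B) := Subgroup.orderOf_coe _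
        have h2 : orderOf (s : B) = orderOf s := Subgroup.orderOf_coe _
        rw [h1, h2, hs]
      have hfix : ∀ x : N, (s : B) * x * (s : B)⁻¹ = x → x = 1 := by
        intro x hx
        have h1 : ((s : B) : Q) * ((x : B) : Q) = ((x : B) : Q) * ((s : B) : Q) := by
          have h2 : (s : B) * x = x * (s : B) := by
            calc (s : B) * x = (s : B) * x * (s : B)⁻¹ * (s : B) := by group
              _ = x * (s : B) := by rw [hx]
          exact congrArg (fun y : B => (y : Q)) h2
        have h3 := fpf_key hcd A hAn hAc hAi hcomm hAp (s := ((s : B) : Q)) ⟨1, by rw [hordQ, pow_one]⟩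
          (fun h => hs1 (Subtype.ext h)) (hNA x) h1
        exact Subtype.ext (Subtype.ext h3)
      -- the map `x ↦ x⁻¹ (s x s⁻¹)` is injective
      let f : N → N := fun x => x⁻¹ * ⟨(s : B) * x * (s : B)⁻¹, hN.conj_mem x x.2 _⟩
      have hfinj : Function.Injective f := by
        intro x y hxy
        have h1 : y * x⁻¹ = 1 := by
          apply hfix
          have h2 : (f x : B) = (f y : B) := congrArg Subtype.val hxy
          simp only [f, Subgroup.coe_mul, Subgroup.coe_inv] at h2
          have h3 : (s : B) * y * (s : B)⁻¹ = (y : B) * (x : B)⁻¹ * ((s : B) * x * (s : B)⁻¹) := by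
            rw [mul_assoc (y : B), h2]
            group
          simp only [Subgroup.coe_mul, Subgroup.coe_inv]
          calc (s : B) * ((y : B) * (x : B)⁻¹) * (s : B)⁻¹
              = ((s : B) * y * (s : B)⁻¹) * ((s : B) * x * (s : B)⁻¹)⁻¹ := by group
            _ = (y : B) * (x : B)⁻¹ * ((s : B) * x * (s : B)⁻¹) * ((s : B) * x * (s : B)⁻¹)⁻¹ := by rw [h3]
            _ = (y : B) * (x : B)⁻¹ := by group
        have h2 : y = x := mul_inv_eq_one.mp h1
        exact h2.symm
      have hfsurj : Function.Surjective f := Finite.injective_iff_surjective.mp hfinj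
      obtain ⟨w, hw⟩ := hfsurj v₀
      apply hlam
      rw [← hw]
      have h1 := congrFun hsI w
      rw [conjOn_apply] at h1
      have h2 : lam ⟨(s : B) * w * (s : B)⁻¹, hN.conj_mem w w.2 _⟩ = lam w := Units.ext h1
      simp only [f, map_mul, map_inv, h2, inv_mul_cancel]
    -- valuations
    have hcardB : Nat.card B = Nat.card (inertia hN α) * (inertia hN α).index :=
      (Subgroup.card_mul_index _).symm
    have hI0 : Nat.card (inertia hN α) ≠ 0 := Nat.card_pos.ne'
    have hT0 : (inertia hN α).index ≠ 0 := Subgroup.index_ne_zero_of_finite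
    have hv1 : (Nat.card B).factorization p = (inertia hN α).index.factorization p := by
      rw [hcardB, Nat.factorization_mul hI0 hT0, Finsupp.add_apply,
        Nat.factorization_eq_zero_of_not_dvd hnp, zero_add]
    have he0 : e ≠ 0 := by
      rintro rfl
      apply hg0
      rw [hdeg', zero_mul]
    have hv2 : (inertia hN α).index.factorization p ≤ g.factorization p := by
      rw [hdeg', Nat.factorization_mul he0 hT0]
      simp
    have hv3 : g.factorization p ≤ (Nat.card B).factorization p := by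
      have h1 : g ∣ Nat.card B := by
        rw [← hβ₀]
        exact charDegree_dvd_card β₀.2
      exact (Nat.factorization_le_iff_dvd hg0 Nat.card_pos.ne').mpr h1 p
    omega

/-- Two elements in a finset of size at most two. -/
lemma mem_two {S : Finset ℕ} (h : S.card ≤ 2) {x y z : ℕ} (hx : x ∈ S) (hy : y ∈ S) (hz : z ∈ S)
    (hxy : x ≠ y) : z = x ∨ z = y := by
  classical
  by_contra hc
  push Not at hc
  have h1 : ({x, y, z} : Finset ℕ) ⊆ S := by
    intro w hw
    simp only [Finset.mem_insert, Finset.mem_singleton] at hw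
    rcases hw with rfl | rfl | rfl <;> assumption
  have h3 := Finset.card_le_card h1
  rw [Finset.card_eq_three.mpr ⟨x, y, z, hxy, hc.1.symm, hc.2.symm, rfl⟩] at h3
  omega

variable {G : Type u} [Group G] [Fintype G]

/-- The characters lying over an invariant extension. -/
theorem exists_over {p : ℕ} [hp : Fact p.Prime] (F : Subgroup G) [hF : F.Normal] [Fintype F]
    (hFp : IsPGroup p F) (hcyc : ∀ M : Subgroup (G ⧸ F), IsPGroup p M → IsCyclic M)
    {θ : F → ℂ} (hθ : IsIrrCharacter F θ) [Fintype ((inertia hF θ).map (QuotientGroup.mk' F))]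
    {β : (inertia hF θ).map (QuotientGroup.mk' F) → ℂ}
    (hβ : IsIrrCharacter _ β) :
    ∃ χ : G → ℂ, IsIrrCharacter G χ ∧ classInner (fun n : F => χ n) θ ≠ 0 ∧
      charDegree χ = ((inertia hF θ).map (QuotientGroup.mk' F)).index * (charDegree β * charDegree θ) := by
  classical
  let T : Subgroup G := inertia hF θ
  have hFT : F ≤ T := le_inertia hF (isClassFunction_of_isIrrCharacter hθ)
  letI : Fintype T := Fintype.ofFinite _
  let N' : Subgroup T := F.subgroupOf T
  haveI hN' : N'.Normal := hF.subgroupOf T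
  letI : Fintype N' := Fintype.ofFinite _
  let eqv : N' ≃* F := Subgroup.subgroupOfEquivOfLe hFT
  have hN'p : IsPGroup p N' := hFp.of_equiv eqv.symm
  have hθ' : IsIrrCharacter N' (θ ∘ eqv) := isIrrCharacter_comp_mulEquiv eqv hθ
  obtain ⟨ψ, hψ, hψe⟩ := exists_ext_of_cyclic_sections hN' hN'p hθ'
    (fun c => inv_of_inertia hF hFT rfl c)
    (fun S _ hS => isCyclic_section hcyc T S hS)
  have hext : ∀ n : F, ψ ⟨n, hFT n.2⟩ = θ n := fun n => (hψe (eqv.symm n)).trans (by simp)
  let f : T →* T.map (QuotientGroup.mk' F) := (QuotientGroup.mk' F).subgroupMap T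
  have hfs : Function.Surjective f := (QuotientGroup.mk' F).subgroupMap_surjective T
  have hβ' : IsIrrCharacter T (β ∘ f) := Cfsg.Agent.Lib.Char.Linear.isIrrCharacter_comp f hfs hβ
  have hβN : ∀ n : F, (β ∘ f) ⟨n, hFT n.2⟩ = (β ∘ f) 1 := by
    intro n
    simp only [Function.comp, map_one]
    congr 1
    apply Subtype.ext
    change QuotientGroup.mk' F (n : G) = 1
    rw [QuotientGroup.mk'_apply, QuotientGroup.eq_one_iff]
    exact n.2
  obtain ⟨χ, hχ, hχc, hχ1⟩ := exists_irr_of_ext hF hθ hFT rfl hψ hext hβ' hβN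
  refine ⟨χ, hχ, hχc, ?_⟩
  have h1 : (β ∘ f) 1 = β 1 := by simp
  rw [h1, ← charDegree_natCast (isCharacter_of_isIrrCharacter hβ),
    ← charDegree_natCast (isCharacter_of_isIrrCharacter hθ)] at hχ1
  rw [index_map_mk hFT]
  rw [← charDegree_natCast (isCharacter_of_isIrrCharacter hχ)] at hχ1
  exact_mod_cast hχ1

/-- Frobenius reciprocity: constituents on a subgroup are large. -/
theorem exists_big {Q : Type u} [Group Q] [Fintype Q] {χ₀ : Q → ℂ} (hχ₀ : IsIrrCharacter Q χ₀)
    (B : Subgroup Q) [Fintype B] :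
    ∃ β : B → ℂ, IsIrrCharacter B β ∧ charDegree χ₀ ≤ B.index * charDegree β := by
  classical
  have hres := isCharacter_restrict B (isCharacter_of_isIrrCharacter hχ₀)
  have hne : (fun a : B => χ₀ a) ≠ 0 := by
    intro h0
    have := congrFun h0 1
    exact irr_one_ne_zero hχ₀ (by simpa using this)
  obtain ⟨β, hβ, hcon⟩ := exists_irr_constituent (isClassFunction_of_isCharacter hres) hne
  refine ⟨β, hβ, ?_⟩
  have hind := isCharacter_indFun B (isCharacter_of_isIrrCharacter hβ)
  refine deg_le_of_constituent hind hχ₀ ?_ ?_ (charDegree_natCast (isCharacter_of_isIrrCharacter hχ₀)).symm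
  · rw [classInner_indFun_left B _ _ (isClassFunction_of_isIrrCharacter hχ₀), ← classInner_conj]
    rw [map_ne_zero]
    exact hcon
  · rw [indFun_one, ← charDegree_natCast (isCharacter_of_isIrrCharacter hβ)]
    push_cast
    rfl

/-- The final reduction. -/
theorem final_of_comm {F : Subgroup G} (hG2 : derivedSeries G 2 ≤ F)
    (hc : ∀ a ∈ (⁅F, F⁆ : Subgroup G), ∀ b ∈ (⁅F, F⁆ : Subgroup G), a * b = b * a) :
    derivedSeries G 4 = ⊥ := by
  have h3 : derivedSeries G 3 ≤ ⁅F, F⁆ := Subgroup.commutator_mono hG2 hG2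
  rw [eq_bot_iff]
  change ⁅derivedSeries G 3, derivedSeries G 3⁆ ≤ ⊥
  rw [Subgroup.commutator_le]
  intro a ha b hb
  rw [Subgroup.mem_bot, commutatorElement_eq_one_iff_mul_comm]
  exact hc a (h3 ha) b (h3 hb)

/-- From the derived length of `F` to commuting. -/
theorem comm_of_derived {F : Subgroup G} (h : derivedSeries F 2 = ⊥) :
    ∀ a ∈ (⁅F, F⁆ : Subgroup G), ∀ b ∈ (⁅F, F⁆ : Subgroup G), a * b = b * a := by
  intro a ha b hb
  have h2 : (commutator F).map F.subtype = ⁅F, F⁆ := Subgroup.map_subtype_commutator F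
  rw [← h2] at ha hb
  obtain ⟨a', ha', rfl⟩ := ha
  obtain ⟨b', hb', rfl⟩ := hb
  have h3 : a' * b' * a'⁻¹ * b'⁻¹ ∈ derivedSeries F 2 :=
    Subgroup.commutator_mem_commutator (G := F) (H₁ := derivedSeries F 1) (H₂ := derivedSeries F 1) ha' hb'
  rw [h, Subgroup.mem_bot] at h3
  have h4 : a' * b' = b' * a' := by
    have h5 : a' * b' = (a' * b' * a'⁻¹ * b'⁻¹) * (b' * a') := by group
    rw [h5, h3, one_mul]
  simpa using congrArg Subtype.val h4

/-- **Case II.A.** `cd(G/F) = {1, x}`, `p ∣ x`, `O_p(G/F) = 1`. -/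
theorem case_IIA {p : ℕ} [hp : Fact p.Prime] (F : Subgroup G) [hF : F.Normal] (hFp : IsPGroup p F)
    (hOp : ∀ M : Subgroup (G ⧸ F), M.Normal → IsPGroup p M → M = ⊥) {x : ℕ} (hx : x ≠ 1) (hpx : p ∣ x)
    (hQ : ∀ χ : IrrCharacter (G ⧸ F), charDegree (χ : G ⧸ F → ℂ) = 1 ∨ charDegree (χ : G ⧸ F → ℂ) = x)
    (hex : ∃ χ : IrrCharacter (G ⧸ F), charDegree (χ : G ⧸ F → ℂ) = x)
    (hG2 : derivedSeries G 2 ≤ F) {D : Finset ℕ}
    (hD : ∀ χ : IrrCharacter G, charDegree (χ : G → ℂ) ∈ D)
    (hDp : (D.filter (p ∣ ·)).card ≤ 2) : derivedSeries G 4 = ⊥ := by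
  classical
  have hpp : p.Prime := hp.out
  letI : Fintype (G ⧸ F) := Fintype.ofFinite _
  letI : Fintype F := Fintype.ofFinite _
  apply final_of_comm hG2
  obtain ⟨χ₀, hχ₀⟩ := hex
  have hx0 : 0 < x := by
    rw [← hχ₀]
    exact charDegree_pos χ₀.2
  -- the quotient is not abelian
  have hQna : ¬ ∀ u v : G ⧸ F, u * v = v * u := by
    intro h
    have h1 := isIrr_deg_one_of_comm h χ₀.2
    have h2 := charDegree_natCast (isCharacter_of_isIrrCharacter χ₀.2)
    rw [h1, hχ₀] at h2
    exact hx (by exact_mod_cast h2)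
  have hcn : commutator (G ⧸ F) ≠ ⊥ := by
    intro h0
    apply hQna
    intro u v
    have h1 : u * v * u⁻¹ * v⁻¹ ∈ commutator (G ⧸ F) :=
      Subgroup.commutator_mem_commutator (Subgroup.mem_top u) (Subgroup.mem_top v)
    rw [h0, Subgroup.mem_bot] at h1
    have h3 : u * v = (u * v * u⁻¹ * v⁻¹) * (v * u) := by group
    rw [h3, h1, one_mul]
  -- the abelian subgroup
  obtain ⟨A, hAn, hAc, hAi, hAcomm⟩ : ∃ A : Subgroup (G ⧸ F), A.Normal ∧
      (∀ a ∈ A, ∀ b ∈ A, a * b = b * a) ∧ A.index = x ∧ commutator (G ⧸ F) ≤ A := by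
    rcases Cfsg.Agent.Lib.Char.TwoDeg.Main.main hQ ⟨χ₀, hχ₀⟩ hx with
      h | ⟨r, e, hr, hae, P, A, hPn, hAn, hPp, hAc, hPA, hPAt, -⟩
    · exact h
    · exfalso
      have hpr : p = r := by
        rw [hae] at hpx
        exact (Nat.prime_dvd_prime_iff_eq hpp hr).mp (hpp.dvd_of_dvd_pow hpx)
      subst hpr
      have hP0 := hOp P hPn hPp
      rw [hP0, bot_sup_eq] at hPAt
      apply hQna
      intro u v
      exact hAc u (hPAt ▸ Subgroup.mem_top u) v (hPAt ▸ Subgroup.mem_top v)
  have hAp := not_dvd_card_of_abelian hOp A hAn hAc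
  have hcyc : ∀ M : Subgroup (G ⧸ F), IsPGroup p M → IsCyclic M := fun M hM =>
    isCyclic_of_pGroup hQ hx A hAn hAc hAi hAcomm hAp hcn M hM
  -- coprimality
  have hgcd : ∀ r : ℕ, r.Prime → r ∣ Nat.card (commutator (G ⧸ F)) → ¬ r ∣ x := by
    intro r hr hrd
    by_cases hrp : r = p
    · subst hrp
      exfalso
      exact hAp (hrd.trans (Subgroup.card_dvd_of_le hAcomm))
    · exact (Cfsg.Agent.Lib.FourDeg.TwoStruct.two_struct hpp hx hpx hQ ⟨χ₀, hχ₀⟩).2.2 r hr hrp hrd
  -- valuation of `x`
  have hvx : x.factorization p = (Nat.card (G ⧸ F)).factorization p := by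
    have h1 : Nat.card (G ⧸ F) = Nat.card A * x := by
      rw [← hAi]
      exact (Subgroup.card_mul_index A).symm
    rw [h1, Nat.factorization_mul Nat.card_pos.ne' hx0.ne', Finsupp.add_apply,
      Nat.factorization_eq_zero_of_not_dvd hAp, zero_add]
  -- inflation
  let χ₀' : G → ℂ := (χ₀ : G ⧸ F → ℂ) ∘ QuotientGroup.mk' F
  have hχ₀' : IsIrrCharacter G χ₀' :=
    Cfsg.Agent.Lib.Char.Linear.isIrrCharacter_comp (QuotientGroup.mk' F) (QuotientGroup.mk'_surjective F) χ₀.2
  have hχ₀'d : charDegree χ₀' = x := by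
    rw [charDegree_comp_mk F (χ₀ : G ⧸ F → ℂ)]
    exact hχ₀
  have hxD : x ∈ D.filter (p ∣ ·) :=
    Finset.mem_filter.mpr ⟨hχ₀'d ▸ hD ⟨χ₀', hχ₀'⟩, hpx⟩
  -- degree of a non-linear `θ` is a `p`-power
  have hpow : ∀ θ : F → ℂ, IsIrrCharacter F θ → ∃ i, charDegree θ = p ^ i := by
    intro θ hθ
    obtain ⟨k, hk⟩ := IsPGroup.iff_card.mp hFp
    have hdvd := charDegree_dvd_card hθ
    rw [hk] at hdvd
    obtain ⟨i, -, hi⟩ := (Nat.dvd_prime_pow hpp).mp hdvd
    exact ⟨i, hi⟩
  have hpθ : ∀ θ : F → ℂ, IsIrrCharacter F θ → charDegree θ ≠ 1 → p ∣ charDegree θ := by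
    intro θ hθ h1
    obtain ⟨i, hi⟩ := hpow θ hθ
    have hi0 : i ≠ 0 := by
      rintro rfl
      exact h1 (by simpa using hi)
    rw [hi]
    exact dvd_pow_self p hi0
  -- all non-linear `θ` give a large degree
  have hlarge : ∀ θ : F → ℂ, IsIrrCharacter F θ → charDegree θ ≠ 1 →
      ∃ χ : G → ℂ, IsIrrCharacter G χ ∧ x < charDegree χ ∧ p ∣ charDegree χ := by
    intro θ hθ h1
    letI : Fintype ((inertia hF θ).map (QuotientGroup.mk' F)) := Fintype.ofFinite _
    obtain ⟨β, hβ, hβd⟩ := exists_big χ₀.2 ((inertia hF θ).map (QuotientGroup.mk' F))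
    obtain ⟨χ, hχ, -, hχd⟩ := exists_over F hFp hcyc hθ hβ
    refine ⟨χ, hχ, ?_, ?_⟩
    · rw [hχd]
      rw [hχ₀] at hβd
      have h2 : 2 ≤ charDegree θ := by
        have := charDegree_pos hθ
        omega
      have h3 : ((inertia hF θ).map (QuotientGroup.mk' F)).index * (charDegree β * charDegree θ) =
          (((inertia hF θ).map (QuotientGroup.mk' F)).index * charDegree β) * charDegree θ := by ring
      rw [h3]
      nlinarith
    · rw [hχd]
      exact Dvd.dvd.mul_left (Dvd.dvd.mul_left (hpθ θ hθ h1) _) _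
  by_cases hFall : ∀ θ : IrrCharacter F, charDegree (θ : F → ℂ) = 1
  · -- `F` is abelian
    have hFc : ∀ a b : F, a * b = b * a := by
      rw [comm_iff_all_deg_one]
      intro θ
      rw [← charDegree_natCast (isCharacter_of_isIrrCharacter θ.2), hFall θ]
      simp
    intro a ha b hb
    have h2 : (⁅F, F⁆ : Subgroup G) = ⊥ := by
      rw [eq_bot_iff, Subgroup.commutator_le]
      intro u hu v hv
      rw [Subgroup.mem_bot, commutatorElement_eq_one_iff_mul_comm]
      exact congrArg Subtype.val (hFc ⟨u, hu⟩ ⟨v, hv⟩)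
    rw [h2, Subgroup.mem_bot] at ha hb
    rw [ha, hb]
  push Not at hFall
  obtain ⟨θ₂, hθ₂⟩ := hFall
  obtain ⟨χy, hχy, hxy, hpy⟩ := hlarge θ₂ θ₂.2 hθ₂
  set y := charDegree χy with hy
  have hyD : y ∈ D.filter (p ∣ ·) := Finset.mem_filter.mpr ⟨hD ⟨χy, hχy⟩, hpy⟩
  have hDeg : ∀ χ : G → ℂ, IsIrrCharacter G χ → p ∣ charDegree χ → charDegree χ = x ∨ charDegree χ = y := by
    intro χ hχ hd
    exact mem_two hDp hxD hyD (Finset.mem_filter.mpr ⟨hD ⟨χ, hχ⟩, hd⟩) hxy.ne
  -- dichotomy
  have hdich : ∀ θ : F → ℂ, IsIrrCharacter F θ → charDegree θ ≠ 1 →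
      (((inertia hF θ).map (QuotientGroup.mk' F)).index * charDegree θ = y ∧
        ∀ a b : (inertia hF θ).map (QuotientGroup.mk' F), a * b = b * a) ∨
      (((inertia hF θ).map (QuotientGroup.mk' F)).index * charDegree θ = x ∧ ∃ g : ℕ, y = x * g ∧
        (¬ ∀ a b : (inertia hF θ).map (QuotientGroup.mk' F), a * b = b * a) ∧
        ∀ β : IrrCharacter ((inertia hF θ).map (QuotientGroup.mk' F)),
          charDegree (β : (inertia hF θ).map (QuotientGroup.mk' F) → ℂ) = 1 ∨
          charDegree (β : (inertia hF θ).map (QuotientGroup.mk' F) → ℂ) = g) := by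
    intro θ hθ h1
    set B := (inertia hF θ).map (QuotientGroup.mk' F) with hB
    letI : Fintype B := Fintype.ofFinite _
    have hall : ∀ β : B → ℂ, IsIrrCharacter B β →
        B.index * charDegree β * charDegree θ = x ∨ B.index * charDegree β * charDegree θ = y := by
      intro β hβ
      obtain ⟨χ, hχ, -, hχd⟩ := exists_over F hFp hcyc hθ hβ
      have h2 : charDegree χ = B.index * charDegree β * charDegree θ := by
        rw [hχd]
        ring
      rw [← h2]
      apply hDeg χ hχ
      rw [h2]
      exact Dvd.dvd.mul_left (hpθ θ hθ h1) _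
    have hone : IsIrrCharacter B (fun _ => (1 : ℂ)) :=
      isIrrCharacter_of_deg_one isCharacter_one rfl
    have hone1 : charDegree (fun _ : B => (1 : ℂ)) = 1 := charDegree_eq_of_eq_natCast (by simp)
    have hm := hall _ hone
    rw [hone1, mul_one] at hm
    have hBpos : 0 < B.index := Nat.pos_of_ne_zero Subgroup.index_ne_zero_of_finite
    have hθpos : 0 < charDegree θ := charDegree_pos hθ
    rcases hm with hm | hm
    · right
      refine ⟨hm, ?_⟩
      obtain ⟨β₀, hβ₀, hβ₀d⟩ := exists_big χ₀.2 B
      rw [hχ₀] at hβ₀d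
      have hbig : x < B.index * charDegree β₀ * charDegree θ := by
        have h2 : 2 ≤ charDegree θ := by omega
        nlinarith
      have hy0 : B.index * charDegree β₀ * charDegree θ = y := by
        rcases hall β₀ hβ₀ with h3 | h3
        · omega
        · exact h3
      have hxg : y = x * charDegree β₀ := by
        rw [← hy0, ← hm]
        ring
      refine ⟨charDegree β₀, hxg, ?_, ?_⟩
      · intro hc
        have h3 := isIrr_deg_one_of_comm hc hβ₀
        have h4 : charDegree β₀ = 1 := charDegree_eq_of_eq_natCast (by simpa using h3)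
        rw [h4, mul_one] at hxg
        omega
      · intro β
        rcases hall β β.2 with h3 | h3
        · left
          have h4 : x * charDegree (β : B → ℂ) = x * 1 := by
            calc x * charDegree (β : B → ℂ) = (B.index * charDegree θ) * charDegree (β : B → ℂ) := by rw [hm]
              _ = B.index * charDegree (β : B → ℂ) * charDegree θ := by ring
              _ = x * 1 := by rw [h3, mul_one]
          exact Nat.eq_of_mul_eq_mul_left hx0 h4
        · right
          have h4 : x * charDegree (β : B → ℂ) = x * charDegree β₀ := by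
            rw [← hxg, ← h3, ← hm]
            ring
          exact Nat.eq_of_mul_eq_mul_left hx0 h4
    · left
      refine ⟨hm, ?_⟩
      rw [comm_iff_all_deg_one]
      intro β
      have h2 : charDegree (β : B → ℂ) = 1 := by
        have hβpos := charDegree_pos β.2
        rcases hall β β.2 with h3 | h3
        · exfalso
          have h4 : y * charDegree (β : B → ℂ) = x := by
            rw [← h3, ← hm]
            ring
          nlinarith
        · have h4 : y * charDegree (β : B → ℂ) = y * 1 := by
            calc y * charDegree (β : B → ℂ) = (B.index * charDegree θ) * charDegree (β : B → ℂ) := by rw [hm]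
              _ = B.index * charDegree (β : B → ℂ) * charDegree θ := by ring
              _ = y * 1 := by rw [h3, mul_one]
          have hypos : 0 < y := by omega
          exact Nat.eq_of_mul_eq_mul_left hypos h4
      rw [← charDegree_natCast (isCharacter_of_isIrrCharacter β.2), h2]
      simp
  by_cases hN : ∃ θ : F → ℂ, IsIrrCharacter F θ ∧ charDegree θ ≠ 1 ∧
      ((inertia hF θ).map (QuotientGroup.mk' F)).index * charDegree θ = x
  · -- a non-abelian type exists: all non-linear degrees agree
    obtain ⟨θ₁, hθ₁, hθ₁1, hm₁⟩ := hN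
    have hgx : ∃ g : ℕ, y = x * g ∧ g ∣ x ∧ ∀ θ : F → ℂ, IsIrrCharacter F θ → charDegree θ ≠ 1 →
        ((inertia hF θ).map (QuotientGroup.mk' F)).index * charDegree θ = x →
          g.factorization p = (Nat.card ((inertia hF θ).map (QuotientGroup.mk' F))).factorization p := by
      have h1 := hdich θ₁ hθ₁ hθ₁1
      rcases h1 with ⟨h2, -⟩ | ⟨-, g, hg, hna, hB⟩
      · exfalso
        rw [hm₁] at h2
        omega
      · refine ⟨g, hg, (val_eq hQ A hAn hAc hAi hAcomm hAp _ hna hB).1, ?_⟩
        intro θ hθ hθ1 hm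
        rcases hdich θ hθ hθ1 with ⟨h2, -⟩ | ⟨-, g', hg', hna', hB'⟩
        · exfalso
          rw [hm] at h2
          omega
        · have hgg : g' = g := by
            have h3 : x * g' = x * g := by rw [← hg', ← hg]
            exact Nat.eq_of_mul_eq_mul_left hx0 h3
          subst hgg
          exact (val_eq hQ A hAn hAc hAi hAcomm hAp _ hna' hB').2
    obtain ⟨g, hg, hgdvd, hgv⟩ := hgx
    have hg0 : g ≠ 0 := by
      rintro rfl
      simp at hg
      omega
    have hdeg_all : ∀ θ : IrrCharacter F, charDegree (θ : F → ℂ) = 1 ∨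
        charDegree (θ : F → ℂ) = p ^ g.factorization p := by
      intro θ
      by_cases hθ1 : charDegree (θ : F → ℂ) = 1
      · exact Or.inl hθ1
      right
      obtain ⟨i, hi⟩ := hpow θ θ.2
      rw [hi]
      congr 1
      set B := (inertia hF (θ : F → ℂ)).map (QuotientGroup.mk' F) with hB
      have hBpos : B.index ≠ 0 := Subgroup.index_ne_zero_of_finite
      have hBc : Nat.card (G ⧸ F) = Nat.card B * B.index := (Subgroup.card_mul_index B).symm
      have hvQ : (Nat.card (G ⧸ F)).factorization p =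
          (Nat.card B).factorization p + B.index.factorization p := by
        rw [hBc, Nat.factorization_mul Nat.card_pos.ne' hBpos]
        rfl
      have hvi : (charDegree (θ : F → ℂ)).factorization p = i := by
        rw [hi, Nat.factorization_pow]
        simp [hpp.factorization_self]
      have hθ0 : charDegree (θ : F → ℂ) ≠ 0 := (charDegree_pos θ.2).ne'
      rcases hdich θ θ.2 hθ1 with ⟨hm, hab⟩ | ⟨hm, -⟩
      · -- abelian type
        have hnp : ¬ p ∣ Nat.card B := by
          intro hd
          obtain ⟨s, hs⟩ := exists_prime_orderOf_dvd_card' p hd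
          have hs1 : (s : G ⧸ F) ≠ 1 := by
            intro h
            have h2 : s = 1 := Subtype.ext h
            rw [h2, orderOf_one] at hs
            exact hpp.one_lt.ne hs
          have hordQ : orderOf (s : G ⧸ F) = p := by
            rw [Subgroup.orderOf_coe, hs]
          have hdisj : ∀ v ∈ commutator (G ⧸ F), v ∈ B → v = 1 := by
            intro v hv hvB
            apply fpf_key hQ A hAn hAc hAi hAcomm hAp (s := (s : G ⧸ F)) ⟨1, by rw [hordQ, pow_one]⟩ hs1 hv
            exact congrArg Subtype.val (hab s ⟨v, hvB⟩)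
          -- `|Q'|` divides the index of `B`
          let K : Subgroup (G ⧸ F) := commutator (G ⧸ F)
          haveI hKn : K.Normal := inferInstanceAs (commutator (G ⧸ F)).Normal
          let ι : B →* (G ⧸ F) ⧸ K := (QuotientGroup.mk' K).comp B.subtype
          have hι : Function.Injective ι := by
            rw [injective_iff_map_eq_one]
            intro b hb
            have h2 : (b : G ⧸ F) ∈ K := by
              rw [← QuotientGroup.eq_one_iff]
              exact hb
            exact Subtype.ext (hdisj _ h2 b.2)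
          have h3 : Nat.card B ∣ Nat.card ((G ⧸ F) ⧸ K) := Subgroup.card_dvd_of_injective ι hι
          obtain ⟨c, hc⟩ := h3
          have h4 : Nat.card (G ⧸ F) = Nat.card K * Nat.card ((G ⧸ F) ⧸ K) := by
            rw [← Subgroup.index_eq_card]
            exact (Subgroup.card_mul_index K).symm
          have h5 : Nat.card K ∣ B.index := by
            have h6 : Nat.card B * B.index = Nat.card B * (Nat.card K * c) := by
              rw [← hBc, h4, hc]
              ring
            have h7 := Nat.eq_of_mul_eq_mul_left Nat.card_pos h6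
            rw [h7]
            exact dvd_mul_right _ _
          have h8 : Nat.card K ≠ 1 := fun h => hcn (Subgroup.eq_bot_of_card_eq _ h)
          have hr := Nat.minFac_prime h8
          have h9 : (Nat.card K).minFac ∣ x * x := by
            have h10 : B.index ∣ y := ⟨_, hm.symm⟩
            have h11 : y ∣ x * x := by
              rw [hg]
              exact mul_dvd_mul_left _ hgdvd
            exact (Nat.minFac_dvd _).trans (h5.trans (h10.trans h11))
          rcases hr.dvd_mul.mp h9 with h10 | h10 <;>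
            exact hgcd _ hr (Nat.minFac_dvd _) h10
        have hv0 : (Nat.card B).factorization p = 0 := Nat.factorization_eq_zero_of_not_dvd hnp
        have h1 := congrArg (fun n => n.factorization p) hm
        rw [Nat.factorization_mul hBpos hθ0, hg, Nat.factorization_mul hx0.ne' hg0] at h1
        simp only [Finsupp.add_apply] at h1
        omega
      · -- non-abelian type
        have hv : g.factorization p = (Nat.card B).factorization p := hgv θ θ.2 hθ1 hm
        have h1 := congrArg (fun n => n.factorization p) hm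
        rw [Nat.factorization_mul hBpos hθ0] at h1
        simp only [Finsupp.add_apply] at h1
        omega
    exact comm_of_derived (derived_two hdeg_all)
  · -- all of abelian type: uniform degree
    push Not at hN
    have hRp : IsPGroup p (⁅F, F⁆ : Subgroup G) := hFp.to_le (Subgroup.commutator_le_left F F)
    haveI hRn : (⁅F, F⁆ : Subgroup G).Normal := Subgroup.commutator_normal F F
    refine abelian_of_uniform (p := p) (⁅F, F⁆ : Subgroup G) hRp (d := y) ?_
    rintro χ ⟨v, hv, hne⟩
    have hχc := isCharacter_of_isIrrCharacter χ.2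
    have hres := isCharacter_restrict F hχc
    have hne0 : (fun a : F => (χ : G → ℂ) a) ≠ 0 := by
      intro h0
      have := congrFun h0 1
      exact irr_one_ne_zero χ.2 (by simpa using this)
    obtain ⟨θ, hθ, hcon⟩ := exists_irr_constituent (isClassFunction_of_isCharacter hres) hne0
    have hθ1 : charDegree θ ≠ 1 := by
      intro h1
      have h2 : θ 1 = 1 := by
        rw [← charDegree_natCast (isCharacter_of_isIrrCharacter hθ), h1]
        simp
      have htriv : ∀ w : F, (w : G) ∈ (⁅F, F⁆ : Subgroup G) → θ w = θ 1 := by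
        intro w hw
        have h3 : (commutator F).map F.subtype = ⁅F, F⁆ := Subgroup.map_subtype_commutator F
        rw [← h3] at hw
        obtain ⟨w', hw', hww⟩ := hw
        have h4 : w' = w := Subtype.ext hww
        rw [← h4, h2]
        exact linear_eq_one_of_mem_commutator (isCharacter_of_isIrrCharacter hθ) h2 hw'
      exact hne (ker_of_sub_constituent (Subgroup.commutator_le_left F F)
        (Subgroup.commutator_normal F F) χ.2 hθ hcon htriv v hv)
    have hm : ((inertia hF θ).map (QuotientGroup.mk' F)).index * charDegree θ = y := by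
      rcases hdich θ hθ hθ1 with ⟨h2, -⟩ | ⟨h2, -⟩
      · exact h2
      · exact absurd h2 (hN θ hθ hθ1)
    have hdeg := deg_eq_of_constituent hF χ.2 hθ hcon
    obtain ⟨e, he⟩ := exists_nat_classInner hres (isCharacter_of_isIrrCharacter hθ)
    have hFT : F ≤ inertia hF θ := le_inertia hF (isClassFunction_of_isIrrCharacter hθ)
    rw [index_map_mk hFT] at hm
    rw [he, ← charDegree_natCast hχc, ← charDegree_natCast (isCharacter_of_isIrrCharacter hθ)] at hdeg
    have hdeg' : charDegree (χ : G → ℂ) = e * ((inertia hF θ).index * charDegree θ) := by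
      have h3 : charDegree (χ : G → ℂ) = e * (inertia hF θ).index * charDegree θ := by exact_mod_cast hdeg
      rw [h3]
      ring
    rw [hm] at hdeg'
    have he0 : e ≠ 0 := by
      rintro rfl
      rw [zero_mul] at hdeg'
      exact (charDegree_pos χ.2).ne' hdeg'
    have hp' : p ∣ charDegree (χ : G → ℂ) := by
      rw [hdeg']
      exact Dvd.dvd.mul_left hpy _
    rcases hDeg χ χ.2 hp' with h3 | h3
    · exfalso
      have h4 : y ≤ charDegree (χ : G → ℂ) := by
        rw [hdeg']
        exact Nat.le_mul_of_pos_left _ (Nat.pos_of_ne_zero he0)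
      omega
    · exact h3

end Cfsg.Agent.Lib.FourDeg.CaseIIA
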