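import Cfsg.Agent.Lib.CharDeg.ThreeDeg.Derived
import Mathlib

/-!
# The valuation chain lemma

If a character does not contain `R'` in its kernel, with `R` a normal `q`-subgroup, then some character
not containing `R` in its kernel has a strictly smaller `q`-adic valuation of the degree.
-/

set_option autoImplicit false
set_option linter.unusedSectionVars false

namespace Cfsg.Agent.Lib.FourDeg.Chain

open Cfsg Module
open Cfsg.Agent.Lib.Char.Basic Cfsg.Agent.Lib.Char.Ortho Cfsg.Agent.Lib.Char.Complete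
open Cfsg.Agent.Lib.Char.Degree Cfsg.Agent.Lib.Char.Clifford Cfsg.Agent.Lib.Char.Induced
open Cfsg.Agent.Lib.Char.Conj Cfsg.Agent.Lib.Char.IndRep Cfsg.Agent.Lib.Char.Taketa
open Cfsg.Agent.Lib.CharDeg.ThreeDeg.Perfect Cfsg.Agent.Lib.CharDeg.ThreeDeg.Uniform
open scoped ComplexConjugate

universe u

variable {G : Type u} [Group G] [Fintype G]

/-- **Chain lemma.** -/
theorem exists_lower_val {p : ℕ} [hp : Fact p.Prime] (R : Subgroup G) [hR : R.Normal]
    (hRp : IsPGroup p R) {χ : G → ℂ} (hχirr : IsIrrCharacter G χ) {x₀ : G} (hx₀C : x₀ ∈ ⁅R, R⁆)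
    (hχ : χ x₀ ≠ χ 1) :
    ∃ χ' : G → ℂ, IsIrrCharacter G χ' ∧ (∃ x ∈ R, χ' x ≠ χ' 1) ∧
      (charDegree χ').factorization p < (charDegree χ).factorization p := by
  classical
  have hpp : p.Prime := hp.out
  by_contra hno
  push Not at hno
  have hχc := isCharacter_of_isIrrCharacter hχirr
  set d := charDegree χ with hd
  have hd0 : d ≠ 0 := (charDegree_pos hχirr).ne'
  set v := d.factorization p with hv
  have hvd : p ^ v ∣ d := Nat.ordProj_dvd d p
  have hv1 : ¬ p ^ (v + 1) ∣ d := Nat.pow_succ_factorization_not_dvd hd0 hpp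
  obtain ⟨P₀, hRP₀⟩ := hRp.exists_le_sylow
  obtain ⟨P, hPdef⟩ : ∃ P : Subgroup G, P = (P₀ : Subgroup G) := ⟨_, rfl⟩
  have hRP : R ≤ P := by rw [hPdef]; exact hRP₀
  letI : Fintype P := Fintype.ofFinite _
  have hPg : IsPGroup p P := by rw [hPdef]; exact P₀.isPGroup'
  have hPidx : ¬ p ∣ P.index := by rw [hPdef]; exact P₀.not_dvd_index
  obtain ⟨n, hn⟩ := IsPGroup.iff_card.mp hPg
  haveI hPnil : Group.IsNilpotent P := hPg.isNilpotent
  have hdegP : ∀ ζ : P → ℂ, IsIrrCharacter P ζ →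
      ∃ i, charDegree ζ = p ^ i := by
    intro ζ hζ
    have h1 := charDegree_dvd_card hζ
    rw [hn] at h1
    obtain ⟨i, -, hi⟩ := (Nat.dvd_prime_pow hpp).mp h1
    exact ⟨i, hi⟩
  have hχ1 : χ 1 = d := by
    rw [← charDegree_natCast hχc]
  obtain ⟨ξ, hξ, hξc, hξd⟩ := exists_constituent_not_dvd (isCharacter_restrict P hχc)
    (n := d) (q := p ^ (v + 1)) (by simpa using hχ1) hv1
  obtain ⟨j, hj⟩ := hdegP ξ hξ
  have hjv : j ≤ v := by
    by_contra hlt
    apply hξd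
    rw [hj]
    exact pow_dvd_pow _ (by omega)
  obtain ⟨H₀, lam, hξH⟩ := Cfsg.Agent.Lib.Char.Monomial.monomial_of_nilpotent ξ hξ
  have hindex : H₀.index = p ^ j := by
    have h1 := indFun_one H₀ (fun h => (lam h : ℂ))
    rw [← hξH] at h1
    have h2 := charDegree_natCast (isCharacter_of_isIrrCharacter hξ)
    rw [hj, h1] at h2
    simp only [map_one, Units.val_one, mul_one] at h2
    exact_mod_cast h2.symm
  have hone : IsIrrCharacter P (fun _ => (1 : ℂ)) :=
    Cfsg.Agent.Lib.Char.Linear.isIrrCharacter_of_deg_one isCharacter_one rfl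
  have hπ : IsCharacter P (indFun H₀ (fun _ => (1 : ℂ))) :=
    isCharacter_indFun H₀ isCharacter_one
  have hπ1 : indFun H₀ (fun _ => (1 : ℂ)) 1 = ((p ^ j : ℕ) : ℂ) := by
    rw [indFun_one, hindex, mul_one]
  have hcon1 : classInner (indFun H₀ (fun _ => (1 : ℂ))) (fun _ : P => (1 : ℂ)) ≠ 0 := by
    letI : Fintype H₀ := Fintype.ofFinite H₀
    rw [classInner_indFun_left H₀ _ _ (fun _ _ => rfl)]
    have hone' : IsIrrCharacter H₀ (fun _ => (1 : ℂ)) :=
      Cfsg.Agent.Lib.Char.Linear.isIrrCharacter_of_deg_one isCharacter_one rfl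
    rw [classInner_self_of_isIrr hone']
    exact one_ne_zero
  have hlt : ∀ (ζ : P → ℂ) (hζ : IsIrrCharacter P ζ),
      classInner (indFun H₀ (fun _ => (1 : ℂ))) ζ ≠ 0 →
      ∀ r : P, (r : G) ∈ R → ζ r = ζ 1 := by
    intro ζ hζ hcon r hr
    by_contra hrne
    obtain ⟨i, hi⟩ := hdegP ζ hζ
    have hζc := isCharacter_of_isIrrCharacter hζ
    have hΨ := isCharacter_indFun P hζc
    have hζ1 : ζ 1 = ((p ^ i : ℕ) : ℂ) := by
      rw [← charDegree_natCast hζc, hi]
    have hΨ1 : indFun P ζ 1 = ((P.index * p ^ i : ℕ) : ℂ) := by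
      rw [indFun_one, hζ1]
      push_cast
      rfl
    have hnd : ¬ p ^ (i + 1) ∣ P.index * p ^ i := by
      intro h1
      rw [pow_succ'] at h1
      exact hPidx (Nat.dvd_of_mul_dvd_mul_right (pow_pos hpp.pos i) h1)
    obtain ⟨χ', hχ', hχ'c, hχ'd⟩ := exists_constituent_not_dvd hΨ hΨ1 hnd
    rw [classInner_indFun_left P _ _ (isClassFunction_of_isIrrCharacter hχ')] at hχ'c
    have hχ'c2 := classInner_ne_zero_comm hχ'c
    have hχ'R : ∃ x ∈ R, χ' x ≠ χ' 1 := by
      by_contra hcon2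
      push Not at hcon2
      apply hrne
      exact Cfsg.Agent.Lib.KerFit.Main.ker_of_constituent
        (isCharacter_restrict P (isCharacter_of_isIrrCharacter hχ')) hζ hχ'c2
        (y := r) (by simpa using hcon2 r hr)
    have hle := hno χ' hχ' hχ'R
    -- `v ≤ val χ'`, and `val χ' ≤ i`
    have hd'0 : charDegree χ' ≠ 0 := (charDegree_pos hχ').ne'
    have hvi : v ≤ i := by
      by_contra hlt2
      push Not at hlt2
      apply hχ'd
      have h1 : p ^ (i + 1) ∣ p ^ v := pow_dvd_pow _ (by omega)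
      have h2 : p ^ v ∣ charDegree χ' :=
        (hpp.pow_dvd_iff_le_factorization hd'0).mpr hle
      exact h1.trans h2
    have hle2 : p ^ j ≤ p ^ i := Nat.pow_le_pow_right hpp.pos (hjv.trans hvi)
    have heq := eq_of_constituent_of_deg_le hπ hζ hcon hπ1 hζ1 hle2
    rw [heq] at hcon1
    by_cases hζ1' : ζ = fun _ => (1 : ℂ)
    · rw [hζ1'] at hrne
      exact hrne rfl
    · exact hcon1 (classInner_eq_zero_of_isIrr_of_ne hζ hone hζ1')
  have hRH : ∀ r : P, (r : G) ∈ R → r ∈ H₀ := by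
    intro r hr
    apply mem_of_indFun_one_eq
    have := finite_irrCharacter (G := P)
    letI := Fintype.ofFinite (IrrCharacter P)
    have hexp := classFunction_eq_sum (isClassFunction_of_isCharacter hπ)
    rw [hexp]
    simp only [Finset.sum_apply, Pi.smul_apply, smul_eq_mul]
    refine Finset.sum_congr rfl fun i _ => ?_
    by_cases hi : classInner (indFun H₀ (fun _ => (1 : ℂ))) (i : P → ℂ) = 0
    · rw [hi, zero_mul, zero_mul]
    · rw [hlt _ i.2 hi r hr]
  let W : Subgroup P := (lam.ker).map H₀.subtype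
  have hCW : ⁅R, R⁆ ≤ W.map P.subtype := by
    rw [Subgroup.commutator_le]
    intro a ha b hb
    have ha' : (⟨a, hRP ha⟩ : P) ∈ H₀ := hRH _ ha
    have hb' : (⟨b, hRP hb⟩ : P) ∈ H₀ := hRH _ hb
    refine ⟨_, ⟨(⟨⟨a, hRP ha⟩, ha'⟩ : H₀) * (⟨⟨b, hRP hb⟩, hb'⟩ : H₀) * (⟨⟨a, hRP ha⟩, ha'⟩ : H₀)⁻¹ *
      (⟨⟨b, hRP hb⟩, hb'⟩ : H₀)⁻¹, ?_, rfl⟩, ?_⟩
    · change lam _ = 1
      simp only [map_mul, map_inv]
      rw [mul_comm (lam _) (lam _)]
      group
    · simp [commutatorElement_def]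
  have hCn : (⁅R, R⁆ : Subgroup G).Normal := Subgroup.commutator_normal R R
  have hξker : ∀ y : P, (y : G) ∈ ⁅R, R⁆ → ξ y = ξ 1 := by
    intro y hy
    rw [hξH]
    apply indFun_hom_eq_of_forall
    intro z
    have h1 : ((z⁻¹ * y * z : P) : G) ∈ ⁅R, R⁆ := by
      have := hCn.conj_mem y hy (z : G)⁻¹
      simpa using this
    obtain ⟨w, ⟨u, hu, huw⟩, hwy⟩ := hCW h1
    have hwe : w = z⁻¹ * y * z := Subtype.ext hwy
    have hmem : z⁻¹ * y * z ∈ H₀ := by
      rw [← hwe, ← huw]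
      exact u.2
    refine ⟨hmem, ?_⟩
    have h2 : (⟨z⁻¹ * y * z, hmem⟩ : H₀) = u := Subtype.ext (huw.trans hwe).symm
    rw [h2]
    exact hu
  letI : Fintype (⁅R, R⁆ : Subgroup G) := Fintype.ofFinite _
  have hfin := ker_of_sub_constituent (P := P) (N := ⁅R, R⁆)
    ((Subgroup.commutator_le_left R R).trans hRP) hCn hχirr hξ hξc hξker
  exact hχ (hfin x₀ hx₀C)

end Cfsg.Agent.Lib.FourDeg.Chain
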