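import Cfsg.Agent.Lib.FourDeg.CaseI
import Cfsg.Agent.Lib.FourDeg.CaseIIA
import Cfsg.Agent.Lib.FourDeg.CaseB
import Cfsg.Agent.Lib.Solvable.Fitting
import Cfsg.Agent.S4493
import Cfsg.Agent.S4456
import Mathlib

/-!
# Four character degrees: derived length at most four
-/

set_option autoImplicit false
set_option linter.unusedSectionVars false

namespace Cfsg.Agent.Lib.FourDeg.Main

open Cfsg Module
open Cfsg.Agent.Lib.Char.Basic Cfsg.Agent.Lib.Char.Ortho Cfsg.Agent.Lib.Char.Complete
open Cfsg.Agent.Lib.Char.Degree Cfsg.Agent.Lib.Char.Clifford Cfsg.Agent.Lib.Char.Induced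
open Cfsg.Agent.Lib.Char.Linear
open Cfsg.Agent.Lib.CharDeg.ThreeDeg.Perfect Cfsg.Agent.Lib.CharDeg.ThreeDeg.Uniform
open Cfsg.Agent.Lib.CharDeg.ThreeDeg.Lift Cfsg.Agent.Lib.CharDeg.ThreeDeg.Sec
open Cfsg.Agent.Lib.CharDeg.ThreeDeg.Cases Cfsg.Agent.Lib.CharDeg.ThreeDeg.Solv
open Cfsg.Agent.Lib.CharDeg.ThreeDeg.Derived
open Cfsg.Agent.Lib.Core.Basic

universe u

/-- At most four character degrees. -/
def Hyp4 (G : Type u) [Group G] : Prop :=
  ∃ D : Finset ℕ, D.card ≤ 4 ∧ ∀ χ : IrrCharacter G, charDegree (χ : G → ℂ) ∈ D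

variable {G : Type u} [Group G] [Fintype G]

theorem Hyp4.quotient (h : Hyp4 G) (N : Subgroup G) [N.Normal] : Hyp4 (G ⧸ N) := by
  obtain ⟨D, hD, hdeg⟩ := h
  refine ⟨D, hD, fun φ => ?_⟩
  have hir := Cfsg.Agent.Lib.Char.Linear.isIrrCharacter_comp (QuotientGroup.mk' N)
    (QuotientGroup.mk'_surjective N) φ.2
  have h1 := hdeg ⟨_, hir⟩
  have h2 : charDegree ((φ : G ⧸ N → ℂ) ∘ QuotientGroup.mk' N) = charDegree (φ : G ⧸ N → ℂ) :=
    charDegree_comp_mk N _
  simp only at h1
  rwa [h2] at h1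

/-- Extracting the degrees. -/
theorem exists_degrees4 (h : Hyp4 G) : Hyp3 G ∨ ∃ a b c : ℕ, 1 < a ∧ a < b ∧ b < c ∧
    ∀ χ : IrrCharacter G, charDegree (χ : G → ℂ) = 1 ∨ charDegree (χ : G → ℂ) = a ∨
      charDegree (χ : G → ℂ) = b ∨ charDegree (χ : G → ℂ) = c := by
  classical
  obtain ⟨D, hD, hmem⟩ := h
  let S : Finset ℕ := D.filter (fun d => 1 < d)
  have hone : (1 : ℕ) ∈ D := by
    have h1 := hmem ⟨fun _ => 1, Cfsg.Agent.Lib.Char.Burnside.isIrrCharacter_one⟩
    have h2 : charDegree (fun _ : G => (1 : ℂ)) = 1 := by simp [charDegree]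
    simp only at h1
    rwa [h2] at h1
  have hS : S ⊆ D.erase 1 := by
    intro d hd
    rw [Finset.mem_filter] at hd
    exact Finset.mem_erase.mpr ⟨by omega, hd.1⟩
  have hcard : S.card ≤ 3 := by
    have h1 := Finset.card_le_card hS
    rw [Finset.card_erase_of_mem hone] at h1
    omega
  have hSmem : ∀ χ : IrrCharacter G, charDegree (χ : G → ℂ) ≠ 1 → charDegree (χ : G → ℂ) ∈ S := by
    intro χ hχ
    refine Finset.mem_filter.mpr ⟨hmem χ, ?_⟩
    have := charDegree_pos χ.2
    omega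
  by_cases hc : S.card = 3
  · right
    let f := S.orderEmbOfFin hc
    have hf : ∀ d ∈ S, ∃ i, f i = d := by
      intro d hd
      have h1 : d ∈ Set.range f := by
        rw [Finset.range_orderEmbOfFin]
        exact hd
      exact h1
    have hf1 : ∀ i, 1 < f i := fun i => (Finset.mem_filter.mp (Finset.orderEmbOfFin_mem S hc i)).2
    refine ⟨f 0, f 1, f 2, hf1 0, f.strictMono (by decide), f.strictMono (by decide), fun χ => ?_⟩
    by_cases h1 : charDegree (χ : G → ℂ) = 1
    · exact Or.inl h1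
    · right
      obtain ⟨i, hi⟩ := hf _ (hSmem χ h1)
      fin_cases i
      · exact Or.inl hi.symm
      · exact Or.inr (Or.inl hi.symm)
      · exact Or.inr (Or.inr hi.symm)
  · left
    refine ⟨insert 1 S, ?_, fun χ => ?_⟩
    · have h1 := Finset.card_insert_le 1 S
      omega
    · by_cases h1 : charDegree (χ : G → ℂ) = 1
      · rw [h1]
        exact Finset.mem_insert_self _ _
      · exact Finset.mem_insert_of_mem (hSmem χ h1)

/-- The inductive step. -/
theorem main_step [hsolv : Group.IsSolvable G] (h : Hyp4 G)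
    (hind : ∀ N : Subgroup G, N.Normal → N ≠ ⊥ → derivedSeries G 4 ≤ N) : derivedSeries G 4 = ⊥ := by
  classical
  by_contra hV
  rcases exists_degrees4 h with h3 | ⟨a, b, c, ha1, hab, hbc, hdeg⟩
  · apply hV
    have h2 := derived_of_hyp3 h3
    rw [eq_bot_iff, ← h2]
    exact derivedSeries_antitone G (by norm_num)
  set V := derivedSeries G 4 with hVdef
  have hcardV : Nat.card V ≠ 1 := fun h1 => hV (Subgroup.eq_bot_of_card_eq _ h1)
  set p := (Nat.card V).minFac with hpdef
  have hpp : p.Prime := Nat.minFac_prime hcardV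
  haveI hpf : Fact p.Prime := ⟨hpp⟩
  have hpV : p ∣ Nat.card V := Nat.minFac_dvd _
  have hcore : ∀ q : Nat.Primes, (q : ℕ) ≠ p → pCore (q : ℕ) G = ⊥ := by
    intro q hq
    by_contra hne
    haveI : Fact (q : ℕ).Prime := ⟨q.2⟩
    have h1 := hind _ (pCore_normal q G) hne
    have h3 : IsPGroup (q : ℕ) V := (pCore_isPGroup (p := (q : ℕ)) (G := G)).to_le h1
    obtain ⟨k, hk⟩ := IsPGroup.iff_card.mp h3
    rw [hk] at hpV
    exact hq ((Nat.prime_dvd_prime_iff_eq hpp q.2).mp (hpp.dvd_of_dvd_pow hpV)).symm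
  let F := fittingSubgroup G
  haveI hFn : F.Normal := Cfsg.Agent.Lib.Components.Basic.fittingSubgroup_normal'
  have hFp : IsPGroup p F := by
    have hle : F ≤ pCore p G := by
      change fittingSubgroup G ≤ _
      rw [fittingSubgroup_eq_iSup_pCore]
      refine iSup_le fun q => ?_
      by_cases hq : (q : ℕ) = p
      · rw [hq]
      · rw [hcore q hq]
        exact bot_le
    exact (pCore_isPGroup (p := p) (G := G)).to_le hle
  have hmax : ∀ M : Subgroup G, M.Normal → IsPGroup p M → M ≤ F :=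
    fun M hM hMp => le_fittingSubgroup hM hMp.isNilpotent
  have hOp := hOp_quotient hFp hmax
  have hcent : Subgroup.centralizer (F : Set G) ≤ F :=
    Cfsg.Agent.Lib.Solvable.Fitting.centralizer_fittingSubgroup_le
  letI : Fintype (G ⧸ F) := Fintype.ofFinite _
  -- the degrees of the quotient
  have hQcd : ∀ χ : IrrCharacter (G ⧸ F), charDegree (χ : G ⧸ F → ℂ) = 1 ∨
      charDegree (χ : G ⧸ F → ℂ) = a ∨ charDegree (χ : G ⧸ F → ℂ) = b := by
    intro φ
    have hir := Cfsg.Agent.Lib.Char.Linear.isIrrCharacter_comp (QuotientGroup.mk' F)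
      (QuotientGroup.mk'_surjective F) φ.2
    have hd := charDegree_comp_mk F (φ : G ⧸ F → ℂ)
    rcases hdeg ⟨_, hir⟩ with h1 | h1 | h1 | h1
    · left
      rw [← hd]
      exact h1
    · right; left
      rw [← hd]
      exact h1
    · right; right
      rw [← hd]
      exact h1
    · exfalso
      simp only at h1
      have hχc := isCharacter_of_isIrrCharacter hir
      have hFK : F ≤ charKer hχc := by
        intro x hx
        change ((φ : G ⧸ F → ℂ) ∘ QuotientGroup.mk' F) x = ((φ : G ⧸ F → ℂ) ∘ QuotientGroup.mk' F) 1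
        have h2 : QuotientGroup.mk' F x = 1 := by
          rw [QuotientGroup.mk'_apply, QuotientGroup.eq_one_iff]
          exact hx
        simp only [Function.comp_apply, h2, map_one]
      have hcase : ¬ charKer hχc ≤ fittingSubgroup G ∨
          (charKer hχc = fittingSubgroup G ∧ Group.IsSolvable (G ⧸ charKer hχc) ∧ charKer hχc ≠ ⊤) := by
        by_cases hle : charKer hχc ≤ fittingSubgroup G
        · right
          have heq : charKer hχc = fittingSubgroup G := le_antisymm hle hFK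
          refine ⟨heq, inferInstance, ?_⟩
          intro htop
          have hFtop : F = ⊤ := heq.symm.trans htop
          have hcm : ∀ u v : G ⧸ F, u * v = v * u := by
            intro u v
            obtain ⟨u, rfl⟩ := QuotientGroup.mk'_surjective F u
            obtain ⟨v, rfl⟩ := QuotientGroup.mk'_surjective F v
            have hu : QuotientGroup.mk' F u = 1 := by
              rw [QuotientGroup.mk'_apply, QuotientGroup.eq_one_iff, hFtop]
              exact Subgroup.mem_top u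
            rw [hu, one_mul, mul_one]
          have h3 := isIrr_deg_one_of_comm hcm φ.2
          have h4 := charDegree_natCast (isCharacter_of_isIrrCharacter φ.2)
          rw [h3, ← hd, h1] at h4
          have h5 : c = 1 := by exact_mod_cast h4
          omega
        · exact Or.inl hle
      obtain ⟨ψ, hψ, -⟩ := Cfsg.Agent.Lib.KerFit.Main.exists_larger_degree_smaller_kernel ⟨_, hir⟩
        (charKer hχc) (fun g => Iff.rfl) hcase
      simp only at hψ
      rw [h1] at hψ
      rcases hdeg ψ with h2 | h2 | h2 | h2 <;> omega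
  have hG3 : derivedSeries G 3 ≤ F := by
    refine Cfsg.Agent.Lib.FourDeg.CaseI.derived_le_of_quot F (derived_of_hyp3 ⟨{1, a, b}, ?_, ?_⟩)
    · exact Finset.card_le_three
    · intro φ
      rcases hQcd φ with h1 | h1 | h1 <;> simp [h1]
  have hfinish : (∀ x ∈ F, ∀ y ∈ F, x * y = y * x) → False := by
    intro hFab
    apply hV
    have h2 : ⁅F, F⁆ = ⊥ := by
      rw [eq_bot_iff, Subgroup.commutator_le]
      intro u hu v hv
      rw [Subgroup.mem_bot, commutatorElement_eq_one_iff_mul_comm]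
      exact hFab u hu v hv
    rw [eq_bot_iff, ← h2]
    exact Subgroup.commutator_mono hG3 hG3
  -- not all degrees are divisible by `p`
  have hnotall : ¬ (p ∣ a ∧ p ∣ b ∧ p ∣ c) := by
    rintro ⟨h1, h2, h3⟩
    obtain ⟨N, hNn, hNc, k, hk⟩ := Cfsg.Agent.S4456.result p hpp (by
      intro χ hχ
      rcases hdeg χ with h4 | h4 | h4 | h4
      · exact absurd h4 hχ
      · rw [h4]
        exact h1
      · rw [h4]
        exact h2
      · rw [h4]
        exact h3)
    by_cases hN : N = ⊥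
    · subst hN
      rw [Subgroup.index_bot] at hk
      have hGp : IsPGroup p G := IsPGroup.of_card hk
      haveI : Group.IsNilpotent G := hGp.isNilpotent
      have hbot := Cfsg.Agent.Lib.Char.TaketaCard.derivedSeries_card_eq_bot (G := G)
        (fun χ hχ => Cfsg.Agent.Lib.Char.Monomial.monomial_of_nilpotent χ hχ) {1, a, b, c} (by
          intro χ hχ d hd
          have h8 := charDegree_natCast (isCharacter_of_isIrrCharacter hχ)
          have h9 : charDegree χ = d := by
            rw [hd] at h8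
            exact_mod_cast h8
          rcases hdeg ⟨χ, hχ⟩ with h7 | h7 | h7 | h7 <;> simp only at h7 <;> simp [← h9, h7])
      have hcard4 : ({1, a, b, c} : Finset ℕ).card = 4 := by
        rw [Finset.card_insert_of_notMem (by simp; omega), Finset.card_insert_of_notMem (by simp; omega),
          Finset.card_insert_of_notMem (by simp; omega), Finset.card_singleton]
      rw [hcard4] at hbot
      exact hV hbot
    · have h3 := hind N hNn hN
      have h4 : p ∣ Nat.card N := hpV.trans (Subgroup.card_dvd_of_le h3)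
      rw [Nat.coprime_comm, Nat.Prime.coprime_iff_not_dvd hpp] at hNc
      exact hNc h4
  let D₀ : Finset ℕ := {1, a, b, c}
  have hD₀ : ∀ χ : IrrCharacter G, charDegree (χ : G → ℂ) ∈ D₀ := by
    intro χ
    rcases hdeg χ with h1 | h1 | h1 | h1 <;> simp [D₀, h1]
  have hDp : (D₀.filter (p ∣ ·)).card ≤ 2 := by
    have hsub : ∀ x y z : ℕ, D₀ = {1, x, y, z} → ¬ p ∣ x → (D₀.filter (p ∣ ·)).card ≤ 2 := by
      intro x y z hxyz hx
      have h1 : D₀.filter (p ∣ ·) ⊆ {y, z} := by
        intro d hd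
        rw [Finset.mem_filter, hxyz] at hd
        simp only [Finset.mem_insert, Finset.mem_singleton] at hd ⊢
        rcases hd with ⟨rfl | rfl | rfl | rfl, h2⟩
        · exact absurd (Nat.dvd_one.mp h2) hpp.one_lt.ne'
        · exact absurd h2 hx
        · exact Or.inl rfl
        · exact Or.inr rfl
      exact (Finset.card_le_card h1).trans Finset.card_le_two
    by_cases h1 : p ∣ a
    · by_cases h2 : p ∣ b
      · have h3 : ¬ p ∣ c := fun h3 => hnotall ⟨h1, h2, h3⟩
        exact hsub c a b (by ext d; simp [D₀]; tauto) h3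
      · exact hsub b a c (by ext d; simp [D₀]; tauto) h2
    · exact hsub a b c rfl h1
  have hD₀card : D₀.card ≤ 4 := Finset.card_le_four
  have h1D₀ : 1 ∈ D₀ := by simp [D₀]
  by_cases hpH : p ∣ F.index
  swap
  · exact hV (Cfsg.Agent.Lib.FourDeg.CaseI.case_I F hFp hpH hG3 hD₀ hD₀card h1D₀ hDp)
  -- `p` divides some degree of `G/F`
  obtain ⟨φ₀, hφ₀⟩ : ∃ φ : IrrCharacter (G ⧸ F), p ∣ charDegree (φ : G ⧸ F → ℂ) := by
    by_contra hno
    push Not at hno
    obtain ⟨P, hPn, -, hPp, hPi⟩ := (Cfsg.Agent.S4493.result (G := G ⧸ F) inferInstance p hpp).mpr hno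
    have hP0 := hOp P hPn hPp
    rw [hP0, Subgroup.index_bot] at hPi
    apply hPi
    rw [← Subgroup.index_eq_card]
    exact hpH
  have hφ₀ne : charDegree (φ₀ : G ⧸ F → ℂ) ≠ 1 := by
    intro h1
    rw [h1] at hφ₀
    exact hpp.one_lt.ne' (Nat.dvd_one.mp hφ₀)
  have hIIA : ∀ x : ℕ, x ≠ 1 → p ∣ x →
      (∀ χ : IrrCharacter (G ⧸ F), charDegree (χ : G ⧸ F → ℂ) = 1 ∨ charDegree (χ : G ⧸ F → ℂ) = x) →
      (∃ χ : IrrCharacter (G ⧸ F), charDegree (χ : G ⧸ F → ℂ) = x) → False := by
    intro x hx hpx hQ hex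
    exact hV (Cfsg.Agent.Lib.FourDeg.CaseIIA.case_IIA F hFp hOp hx hpx hQ hex
      (Cfsg.Agent.Lib.FourDeg.CaseI.derived_le_of_quot F (derived_two hQ)) hD₀ hDp)
  by_cases hexa : ∃ χ : IrrCharacter (G ⧸ F), charDegree (χ : G ⧸ F → ℂ) = a
  swap
  · -- degree `b` only
    have hQ : ∀ χ : IrrCharacter (G ⧸ F), charDegree (χ : G ⧸ F → ℂ) = 1 ∨
        charDegree (χ : G ⧸ F → ℂ) = b := by
      intro χ
      rcases hQcd χ with h1 | h1 | h1
      · exact Or.inl h1
      · exact absurd ⟨χ, h1⟩ hexa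
      · exact Or.inr h1
    rcases hQ φ₀ with h1 | h1
    · exact hφ₀ne h1
    · exact hIIA b (by omega) (h1 ▸ hφ₀) hQ ⟨φ₀, h1⟩
  by_cases hexb : ∃ χ : IrrCharacter (G ⧸ F), charDegree (χ : G ⧸ F → ℂ) = b
  swap
  · have hQ : ∀ χ : IrrCharacter (G ⧸ F), charDegree (χ : G ⧸ F → ℂ) = 1 ∨
        charDegree (χ : G ⧸ F → ℂ) = a := by
      intro χ
      rcases hQcd χ with h1 | h1 | h1
      · exact Or.inl h1
      · exact Or.inr h1
      · exact absurd ⟨χ, h1⟩ hexb
    rcases hQ φ₀ with h1 | h1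
    · exact hφ₀ne h1
    · exact hIIA a (by omega) (h1 ▸ hφ₀) hQ ⟨φ₀, h1⟩
  have hor : p ∣ a ∨ p ∣ b := by
    rcases hQcd φ₀ with h1 | h1 | h1
    · exact absurd h1 hφ₀ne
    · exact Or.inl (h1 ▸ hφ₀)
    · exact Or.inr (h1 ▸ hφ₀)
  have ha1' : a ≠ 1 := by omega
  have hb1' : b ≠ 1 := by omega
  have hdeg' : ∀ χ : IrrCharacter G, charDegree (χ : G → ℂ) = 1 ∨ charDegree (χ : G → ℂ) = b ∨
      charDegree (χ : G → ℂ) = a ∨ charDegree (χ : G → ℂ) = c := by
    intro χ
    rcases hdeg χ with h1 | h1 | h1 | h1 <;> simp [h1]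
  have hQ' : ∀ χ : IrrCharacter (G ⧸ F), charDegree (χ : G ⧸ F → ℂ) = 1 ∨
      charDegree (χ : G ⧸ F → ℂ) = b ∨ charDegree (χ : G ⧸ F → ℂ) = a := by
    intro χ
    rcases hQcd χ with h1 | h1 | h1 <;> simp [h1]
  by_cases hpc : p ∣ c
  · -- case D2b
    rcases hor with hpa | hpb
    · have hpb : ¬ p ∣ b := fun h2 => hnotall ⟨hpa, h2, hpc⟩
      exact hV (Cfsg.Agent.Lib.FourDeg.CaseB.case_D2b F hFp hcent hmax hOp hb1' ha1' hbc (by omega)
        hdeg' hQ' hexb hexa hpa hpb hpc)
    · have hpa : ¬ p ∣ a := fun h2 => hnotall ⟨h2, hpb, hpc⟩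
      exact hV (Cfsg.Agent.Lib.FourDeg.CaseB.case_D2b F hFp hcent hmax hOp ha1' hb1' (by omega) hbc
        hdeg hQcd hexa hexb hpb hpa hpc)
  · by_cases hpa : p ∣ a
    · by_cases hpb : p ∣ b
      · exact hfinish (Cfsg.Agent.Lib.FourDeg.CaseB.case_B1 F hFp hcent hOp hab ha1 hbc hdeg hQcd hexb
          hpa hpb hpc)
      · exact hfinish (Cfsg.Agent.Lib.FourDeg.CaseB.case_B2 F hFp hOp hb1' ha1' hdeg' hQ' hexb hexa hpa
          hpb hpc)
    · have hpb : p ∣ b := hor.resolve_left hpa
      exact hfinish (Cfsg.Agent.Lib.FourDeg.CaseB.case_B2 F hFp hOp ha1' hb1' hdeg hQcd hexa hexb hpb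
        hpa hpc)

/-- Solvable groups with at most four character degrees have derived length at most four. -/
theorem derived_of_hyp4 {G : Type u} [Group G] [Fintype G] [Group.IsSolvable G] (h : Hyp4 G) :
    derivedSeries G 4 = ⊥ := by
  classical
  induction' hn : Nat.card G using Nat.strong_induction_on with n ih generalizing G
  subst hn
  apply main_step h
  intro N hN hNe
  haveI := hN
  letI : Fintype (G ⧸ N) := Fintype.ofFinite _
  have hlt : Nat.card (G ⧸ N) < Nat.card G := by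
    have h1 : Nat.card G = Nat.card N * Nat.card (G ⧸ N) := Subgroup.card_eq_card_quotient_mul_card_subgroup N |>.trans (mul_comm _ _)
    have h2 : 1 < Nat.card N := by
      rw [Subgroup.one_lt_card_iff_ne_bot]
      exact hNe
    have h3 : 0 < Nat.card (G ⧸ N) := Nat.card_pos
    rw [h1]
    nlinarith
  have h1 := ih _ hlt (Hyp4.quotient h N) rfl
  exact Cfsg.Agent.Lib.FourDeg.CaseI.derived_le_of_quot N h1

end Cfsg.Agent.Lib.FourDeg.Main
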